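import Cfsg.Agent.Lib.CIT.Defs
import Cfsg.Agent.Lib.OddOrder.CNBasic
import Cfsg.Agent.Lib.TICentralisers.Zassenhaus
import Cfsg.Agent.Lib.ZassenhausFeit.Kernel

/-!
# Simple CN-groups are CIT groups

A maximal nilpotent subgroup containing the centraliser of an involution is a 2-group: otherwise it
contains the centralisers of its nontrivial elements, its normaliser is strongly embedded, and the
action on the cosets is a Zassenhaus group of odd degree whose kernel has prime power order.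
-/

set_option autoImplicit false
set_option linter.style.haveILetI false

namespace Cfsg.Agent.CIT

open Subgroup MulAction
open Cfsg (IsCNGroup IsStronglyEmbedded)
open Cfsg.Agent.OddOrder.CN
open Cfsg.Agent.Involution
open Cfsg.Agent.TICentralisers

variable {G : Type*} [Group G]

/-- A maximal nilpotent subgroup of even order of a simple CN-group is a 2-group. -/
theorem isPGroup_of_isMaxNilp [Finite G] [IsSimpleGroup G] (hne : ∃ a b : G, a * b ≠ b * a)
    (hCN : IsCNGroup G) {H : Subgroup G} (hH : IsMaxNilp H) (h2 : 2 ∣ Nat.card H) :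
    IsPGroup 2 H := by
  classical
  haveI : Fact (Nat.Prime 2) := ⟨Nat.prime_two⟩
  by_contra hnot
  have hnp : ∀ p : ℕ, p.Prime → ¬ IsPGroup p H := by
    intro p hp hP
    haveI := Fact.mk hp
    obtain ⟨k, hk⟩ := IsPGroup.iff_card.1 hP
    have h2p : 2 = p := (Nat.prime_dvd_prime_iff_eq Nat.prime_two hp).1
      (Nat.prime_two.dvd_of_dvd_pow (hk ▸ h2))
    exact hnot (h2p ▸ hP)
  have hcle : ∀ x ∈ H, x ≠ 1 → centralizer ({x} : Set G) ≤ H := fun x hx hx1 =>
    hH.centralizer_le_of_not_pGroup hCN hnp hx hx1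
  obtain ⟨P, hP⟩ := hH.exists_sylow_le hCN h2
  obtain ⟨z, hzH, hz2, hzc⟩ := hH.exists_central_of_dvd h2
  have hz1 : z ≠ 1 := fun e => by rw [e, orderOf_one] at hz2; omega
  set M := normalizer (H : Set G) with hM
  have hMP : M ≤ normalizer ((P : Subgroup G) : Set G) := by
    intro m hm
    refine mem_normalizer_iff.2 fun n => ⟨fun hn => ?_, fun hn => ?_⟩
    · obtain ⟨k, hk⟩ := IsPGroup.iff_orderOf.1 P.2 ⟨n, hn⟩
      rw [Subgroup.orderOf_mk] at hk
      exact sylow_le_of_normal_sylow hH.1 P hP ((mem_normalizer_iff.1 hm n).1 (hP hn))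
        ⟨k, by rw [← hk, ← StrongEmb.orderOf_conj' m n, pow_orderOf_eq_one]⟩
    · have hnH : n ∈ H := (mem_normalizer_iff.1 hm n).2 (hP hn)
      obtain ⟨k, hk⟩ := IsPGroup.iff_orderOf.1 P.2 ⟨_, hn⟩
      rw [Subgroup.orderOf_mk, StrongEmb.orderOf_conj'] at hk
      exact sylow_le_of_normal_sylow hH.1 P hP hnH ⟨k, by rw [← hk, pow_orderOf_eq_one]⟩
  have hinvP : ∀ s ∈ M, orderOf s = 2 → s ∈ (P : Subgroup G) := by
    intro s hs hs2
    have hS : IsPGroup 2 (zpowers s) := IsPGroup.of_card (n := 1) (by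
      rw [Nat.card_zpowers, hs2, pow_one])
    exact ((hS.inf_normalizer_sylow P).le ⟨mem_zpowers s, hMP hs⟩).2
  have hMt : M ≠ ⊤ := by
    intro e
    have hn : H.Normal := normalizer_eq_top_iff.1 e
    rcases hn.eq_bot_or_eq_top with h | h
    · exact hz1 (Subgroup.mem_bot.1 (h ▸ hzH))
    · haveI : Group.IsNilpotent H := hH.1
      haveI : Group.IsNilpotent G :=
        Group.nilpotent_of_mulEquiv ((MulEquiv.subgroupCongr h).trans Subgroup.topEquiv)
      obtain ⟨a, b, hab⟩ := hne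
      exact hab (IsSimpleGroup.comm_iff_isSolvable.2 inferInstance a b)
  have hse : IsStronglyEmbedded M := by
    refine ⟨hMt, even_iff_two_dvd.2 (h2.trans (card_dvd_of_le le_normalizer)), fun g hg => ?_⟩
    rw [← Nat.not_even_iff_odd]
    intro hev
    obtain ⟨x', hx2'⟩ := exists_prime_orderOf_dvd_card' 2 hev.two_dvd
    obtain ⟨hx, y, hy, hyx⟩ := x'.2
    rw [← Subgroup.orderOf_coe] at hx2'
    generalize hxdef : (x' : G) = x at hx hyx hx2'
    have hyx' : g * y * g⁻¹ = x := hyx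
    have hy2 : orderOf y = 2 := by rwa [← hyx', StrongEmb.orderOf_conj'] at hx2'
    have hy1 : y ≠ 1 := fun e => by rw [e, orderOf_one] at hy2; omega
    exact hg (hH.mem_normalizer hCN hcle (hP (hinvP y hy hy2)) hy1
      (hyx'.symm ▸ hP (hinvP x hx hx2')))
  have hzM : z ∈ M := le_normalizer hzH
  have hC : ∀ s, s ∈ M → orderOf s = 2 → centralizer ({s} : Set G) = H := by
    intro s hs hs2
    obtain ⟨b, hb⟩ := isConj_iff.1 (StrongEmb.isConj_involutions hse hz2 hs2)
    have hbM : b ∈ M := StrongEmb.mem_of_conj_eq hse hzM hz2 hb hs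
    refine hH.centralizer_eq hCN (fun e => by rw [e, orderOf_one] at hs2; omega) fun a ha => ?_
    have ha' : b⁻¹ * a * b ∈ H := by simpa using (mem_normalizer_iff.1 (M.inv_mem hbM) a).1 ha
    have h1 := hzc _ ha'
    calc a * s = b * (b⁻¹ * a * b * z) * b⁻¹ := by rw [← hb]; group
      _ = b * (z * (b⁻¹ * a * b)) * b⁻¹ := by rw [h1]
      _ = s * a := by rw [← hb]; group
  have h : Cfg M H := ⟨fun c hc _ => hCN c hc, hse, hC, fun A hA hAc => by
    rcases hA.eq_bot_or_eq_top with h | h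
    · exact h
    · obtain ⟨a, b, hab⟩ := hne
      subst h
      exact absurd (congrArg Subtype.val
        (hAc.is_comm.comm ⟨a, mem_top a⟩ ⟨b, mem_top b⟩)) hab⟩
  haveI := Fintype.ofFinite G
  haveI := Fintype.ofFinite (G ⧸ M)
  set a : G ⧸ M := ((1 : G) : G ⧸ M)
  obtain ⟨g, -, hg⟩ := SetLike.exists_of_lt (lt_top_iff_ne_top.2 hMt)
  have hab : a ≠ (g : G ⧸ M) := (coe_ne_base hg).symm
  have hcard : Nat.card H + 1 = Fintype.card (G ⧸ M) := by
    rw [← Nat.card_eq_fintype_card]; exact h.card_C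
  have htwo : ZassenhausOdd.twoStab G a (g : G ⧸ M) = dSub M g := by
    ext d
    rw [ZassenhausOdd.mem_twoStab, mem_dSub, smul_base_iff, smul_coe_eq_iff]
  have hCa : H ≤ stabilizer G a := fun c hc => smul_base_iff.2 (h.C_le hc)
  have hfix : ∀ u ∈ H, u ≠ 1 → ∀ c : G ⧸ M, u • c = c → c = a := fun u hu hu1 c hc =>
    by_contra fun hca => hu1 (h.semiregular hu hca hc)
  obtain ⟨p, k, hp, -, hpk⟩ := ZassenhausFeit.isPrimePow_card_kernel h.isZassenhaus hab hCa hcard
    hfix (htwo ▸ h.odd_card hg)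
  haveI := Fact.mk hp.nat_prime
  exact hnp p hp.nat_prime (IsPGroup.of_card hpk.symm)

/-- A non-abelian simple CN-group is a CIT group. -/
theorem isCIT_of_isCN [Finite G] [IsSimpleGroup G] (hne : ∃ a b : G, a * b ≠ b * a)
    (hCN : IsCNGroup G) : IsCIT G := by
  intro t ht
  have ht1 : t ≠ 1 := fun e => by rw [e, orderOf_one] at ht; omega
  obtain ⟨H, hH, htH⟩ := exists_isMaxNilp (hCN t ht1)
  exact (isPGroup_of_isMaxNilp hne hCN hH
    (ht ▸ H.orderOf_dvd_natCard (htH (mem_centralizer_singleton_iff.2 rfl)))).to_le htH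

end Cfsg.Agent.CIT
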