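import Cfsg.Agent.Lib.CIT.Local
import Cfsg.Agent.Lib.Involution.StrongEmb
import Cfsg.Agent.Lib.PrimeParts.OddInverted
import Cfsg.Agent.Lib.SmallSimple.Basic
import Cfsg.Prelude.Def_Involutions

/-!
# Strongly embedded subgroups of a CIT group

* `normal_sylow_of_stronglyEmbedded`: a strongly embedded 2-local is the normaliser of a Sylow
  2-subgroup;
* `isStronglyEmbedded_of_assign`: a conjugation-equivariant assignment `S ↦ f S` constant on the
  Sylow 2-subgroups of each maximal 2-local yields strongly embedded subgroups.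
-/

set_option autoImplicit false
set_option linter.style.haveILetI false
set_option linter.unusedVariables false

namespace Cfsg.Agent.CIT

open Subgroup
open Cfsg (IsStronglyEmbedded pCore)
open scoped Pointwise

variable {G : Type*} [Group G]

/-- A strongly embedded 2-local of a CIT group is the normaliser of its Sylow 2-subgroup. -/
theorem normal_sylow_of_stronglyEmbedded [Finite G] [IsSimpleGroup G] (hG : IsCIT G)
    (hne : ∃ a b : G, a * b ≠ b * a) {M : Subgroup G} (hM : IsStronglyEmbedded M)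
    (hl : IsLocal M) (S : Sylow 2 G) (hS : (S : Subgroup G) ≤ M) :
    M = normalizer ((S : Subgroup G) : Set G) := by
  haveI : Fact (Nat.Prime 2) := ⟨Nat.prime_two⟩
  haveI hcn : (pCore 2 M).Normal := PCore.pCore_normal
  -- an involution of the core, hence all involutions of `M`
  have h2c : 2 ∣ Nat.card (core M) := by
    obtain ⟨k, hk⟩ := (core_two M).exists_card_eq
    rcases k with _ | k
    · exact absurd (Subgroup.eq_bot_of_card_eq _ (hk.trans (pow_zero 2))) (core_ne_bot hl)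
    · exact hk ▸ dvd_pow_self 2 k.succ_ne_zero
  obtain ⟨⟨z, hzc⟩, hz⟩ := exists_prime_orderOf_dvd_card' (G := core M) 2 h2c
  rw [orderOf_mk] at hz
  obtain ⟨w, hw, hw2⟩ := Involution.StrongEmb.exists_involution_not_mem hM
  have hinv : ∀ t ∈ M, orderOf t = 2 → t ∈ core M := by
    intro t ht ht2
    obtain ⟨d, hd, hdz⟩ := Involution.StrongEmb.exists_mem_inter_conj hM hw hz
      (core_le M hzc) ht2 ht
    exact hdz ▸ conj_mem_core hd.1 hzc
  -- no 2-element of `M` acts nontrivially on an odd cyclic subgroup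
  have htc : PrimeParts.TwoCentralizesOdd M := by
    rintro x t hx ⟨k, hk⟩ hn
    rcases k with _ | k
    · rw [pow_zero, orderOf_eq_one_iff] at hk
      rw [hk, one_mul, mul_one]
    set u := t ^ 2 ^ k with hu
    have hu2 : orderOf u = 2 := by
      rw [hu, orderOf_pow, hk, Nat.gcd_eq_right (pow_dvd_pow 2 (Nat.le_succ k)), pow_succ,
        Nat.mul_div_cancel_left _ (by positivity)]
    have hun : u ∈ normalizer ((zpowers x : Subgroup M) : Set M) := pow_mem hn _
    have huc : u ∈ pCore 2 M := by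
      obtain ⟨u', hu', he⟩ := hinv (u : G) u.2 (by rw [Subgroup.orderOf_coe, hu2])
      rwa [show u = u' from Subtype.ext he.symm]
    have h1 : u * x * u⁻¹ * x⁻¹ ∈ zpowers x :=
      mul_mem ((mem_normalizer_iff.1 hun x).1 (mem_zpowers x)) (inv_mem (mem_zpowers x))
    have h2 : u * x * u⁻¹ * x⁻¹ ∈ pCore 2 M := by
      rw [show u * x * u⁻¹ * x⁻¹ = u * (x * u⁻¹ * x⁻¹) by group]
      exact mul_mem huc (hcn.conj_mem _ (inv_mem huc) x)
    obtain ⟨j, hj⟩ := (PCore.isPGroup_pCore (p := 2) (G := M)) ⟨_, h2⟩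
    have h3 : (u * x * u⁻¹ * x⁻¹) ^ 2 ^ j = 1 := congrArg Subtype.val hj
    have h4 : u * x * u⁻¹ * x⁻¹ = 1 := by
      rw [← orderOf_eq_one_iff]
      have ho : Odd (orderOf (u * x * u⁻¹ * x⁻¹)) := hx.of_dvd_nat
        ((Subgroup.orderOf_dvd_natCard _ h1).trans (Nat.card_zpowers x).dvd)
      exact Nat.eq_one_of_dvd_coprimes
        (Nat.Coprime.pow_right j (Nat.coprime_two_right.2 ho)) dvd_rfl
        (orderOf_dvd_of_pow_eq_one h3)
    rw [mul_inv_eq_one, mul_inv_eq_iff_eq_mul] at h4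
    have h5 : x = 1 := Subtype.ext (eq_one_of_commute hG (x := (x : G)) (t := (u : G))
      (by rwa [Subgroup.orderOf_coe]) (by rwa [Subgroup.orderOf_coe])
      (congrArg Subtype.val h4.symm :))
    rw [h5, one_mul, mul_one]
  haveI hSn : ((S : Subgroup G).subgroupOf M).Normal :=
    PrimeParts.sylow_two_normal_of_twoCentralizesOdd _ M rfl htc (S.subtype hS)
  refine le_antisymm ((normal_subgroupOf_iff_le_normalizer hS).1 hSn) fun g hg => ?_
  obtain ⟨⟨s, hs⟩, hs2⟩ := exists_prime_orderOf_dvd_card' (G := (S : Subgroup G)) 2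
    (S.dvd_card_of_dvd_card (two_dvd_card hne))
  rw [orderOf_mk] at hs2
  exact Involution.StrongEmb.mem_of_conj_mem hM (hS hs) hs2
    (hS ((mem_normalizer_iff.1 hg s).1 hs))

/-- A 2-subgroup of a subgroup containing a Sylow 2-subgroup lies in one of the latter's
Sylow 2-subgroups of `G`. -/
theorem exists_sylow_le [Finite G] {M X : Subgroup G} (hM : ∃ S : Sylow 2 G, (S : Subgroup G) ≤ M)
    (hX : IsPGroup 2 X) (hXM : X ≤ M) :
    ∃ T : Sylow 2 G, X ≤ T ∧ (T : Subgroup G) ≤ M := by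
  haveI : Fact (Nat.Prime 2) := ⟨Nat.prime_two⟩
  obtain ⟨S, hS⟩ := hM
  obtain ⟨P, hP⟩ := (hX.of_equiv (subgroupOfEquivOfLe hXM).symm).exists_le_sylow
  obtain ⟨T, hT⟩ := (P.isPGroup'.map M.subtype).exists_le_sylow
  have hcard : Nat.card ((P : Subgroup M).map M.subtype : Subgroup G) = Nat.card (T : Subgroup G) := by
    rw [Subgroup.card_map_of_injective M.subtype_injective, P.card_eq_multiplicity,
      ← (S.subtype hS).card_eq_multiplicity, Sylow.coe_subtype,
      Nat.card_congr (subgroupOfEquivOfLe hS).toEquiv, S.card_eq_multiplicity,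
      T.card_eq_multiplicity]
  refine ⟨T, fun x hx => hT ⟨⟨x, hXM hx⟩, hP hx, rfl⟩, ?_⟩
  rw [← Subgroup.eq_of_le_of_card_ge hT hcard.ge]
  exact Subgroup.map_subtype_le _

/-- An equivariant assignment `S ↦ f S`, constant on the Sylow 2-subgroups of each maximal
2-local, gives strongly embedded subgroups. -/
theorem isStronglyEmbedded_of_assign [Finite G] [IsSimpleGroup G] (hG : IsCIT G)
    (hne : ∃ a b : G, a * b ≠ b * a) (f : Sylow 2 G → Subgroup G)
    (hle : ∀ S : Sylow 2 G, (S : Subgroup G) ≤ f S) (hne' : ∀ S, f S ≠ ⊤)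
    (hnorm : ∀ S, normalizer (f S : Set G) = f S)
    (heq : ∀ (g : G) (S : Sylow 2 G), f (g • S) = (f S).map (MulAut.conj g).toMonoidHom)
    (hmem : ∀ S T : Sylow 2 G, (T : Subgroup G) ≤ f S → f T = f S)
    (hsyl : ∀ M : Subgroup G, IsMaxLocal M → ∃ S : Sylow 2 G, (S : Subgroup G) ≤ M)
    (hconst : ∀ M : Subgroup G, IsMaxLocal M → ∀ S T : Sylow 2 G,
      (S : Subgroup G) ≤ M → (T : Subgroup G) ≤ M → f S = f T) :
    ∀ S, IsStronglyEmbedded (f S) := by
  haveI : Fact (Nat.Prime 2) := ⟨Nat.prime_two⟩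
  -- Sylow subgroups meeting nontrivially have equal image
  have key : ∀ (n : ℕ) (S₁ S₂ : Sylow 2 G),
      Nat.card G - Nat.card ((S₁ : Subgroup G) ⊓ S₂ : Subgroup G) = n →
      (S₁ : Subgroup G) ⊓ S₂ ≠ ⊥ → f S₁ = f S₂ := by
    intro n
    induction n using Nat.strong_induction_on with
    | _ n ih =>
      intro S₁ S₂ hn hD
      by_cases h12 : S₁ = S₂
      · rw [h12]
      set D : Subgroup G := (S₁ : Subgroup G) ⊓ S₂ with hDdef
      have hD2 : IsPGroup 2 D := S₁.isPGroup'.to_le inf_le_left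
      obtain ⟨M, hM, hNM⟩ := exists_isMaxLocal (isLocal_normalizer hD2 hD)
      have step : ∀ S : Sylow 2 G, D < (S : Subgroup G) →
          ∃ T : Sylow 2 G, (T : Subgroup G) ≤ M ∧ f S = f T := by
        intro S hlt
        have hgrow := SmallSimple.lt_inf_normalizer S.isPGroup' hlt
        obtain ⟨T, hT, hTM⟩ := exists_sylow_le (hsyl M hM)
          (S.isPGroup'.to_le inf_le_left) (inf_le_right.trans hNM)
        have hlt' : D < (S : Subgroup G) ⊓ T := hgrow.trans_le (le_inf inf_le_left hT)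
        refine ⟨T, hTM, ih _ ?_ S T rfl (ne_bot_of_gt hlt')⟩
        rw [← hn]
        have hc : Nat.card D < Nat.card ((S : Subgroup G) ⊓ T : Subgroup G) := by
          by_contra hge
          exact hlt'.ne (Subgroup.eq_of_le_of_card_ge hlt'.le (not_lt.1 hge))
        have := Nat.le_of_dvd Nat.card_pos
          (card_subgroup_dvd_card ((S : Subgroup G) ⊓ T : Subgroup G))
        omega
      have hlt₁ : D < (S₁ : Subgroup G) := lt_of_le_of_ne inf_le_left fun h => h12
        (Sylow.ext (S₁.is_maximal' S₂.isPGroup' (h ▸ inf_le_right)).symm)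
      have hlt₂ : D < (S₂ : Subgroup G) := lt_of_le_of_ne inf_le_right fun h => h12
        (Sylow.ext (S₂.is_maximal' S₁.isPGroup' (h ▸ inf_le_left)))
      obtain ⟨T₁, hT₁, e₁⟩ := step S₁ hlt₁
      obtain ⟨T₂, hT₂, e₂⟩ := step S₂ hlt₂
      rw [e₁, e₂, hconst M hM T₁ T₂ hT₁ hT₂]
  intro S
  refine ⟨hne' S, even_iff_two_dvd.2 ((S.dvd_card_of_dvd_card (two_dvd_card hne)).trans
    (card_dvd_of_le (hle S))), fun g hg => ?_⟩
  rw [← Nat.not_even_iff_odd, even_iff_two_dvd]
  intro h2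
  obtain ⟨u', hu⟩ := exists_prime_orderOf_dvd_card' 2 h2
  rw [← Subgroup.orderOf_coe] at hu
  obtain ⟨u, hu₁, hu₂⟩ := u'
  change orderOf u = 2 at hu
  obtain ⟨v, hv, hvu⟩ := hu₂
  change g * v * g⁻¹ = u at hvu
  have hz : ∀ x : G, orderOf x = 2 → IsPGroup 2 (zpowers x) := fun x hx =>
    IsPGroup.of_card (n := 1) (by rw [Nat.card_zpowers, hx, pow_one])
  have hv2 : orderOf v = 2 := by
    rw [← hu, ← hvu, ← MulAut.conj_apply, MulEquiv.orderOf_eq]
  obtain ⟨T₁, hT₁, hT₁le⟩ := exists_sylow_le ⟨S, hle S⟩ (hz u hu) (zpowers_le.2 hu₁)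
  obtain ⟨T₂, hT₂, hT₂le⟩ := exists_sylow_le ⟨S, hle S⟩ (hz v hv2) (zpowers_le.2 hv)
  have hmeet : (T₁ : Subgroup G) ⊓ (g • T₂ : Sylow 2 G) ≠ ⊥ := by
    intro hbot
    have hu' : u ∈ (T₁ : Subgroup G) ⊓ (g • T₂ : Sylow 2 G) := by
      refine ⟨hT₁ (mem_zpowers u), ?_⟩
      rw [SetLike.mem_coe, Sylow.coe_subgroup_smul, ← hvu]
      exact smul_mem_pointwise_smul v (MulAut.conj g) _ (hT₂ (mem_zpowers v))
    rw [hbot, mem_bot] at hu'
    rw [hu', orderOf_one] at hu
    omega
  have he := key _ T₁ (g • T₂) rfl hmeet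
  rw [heq, hmem S T₂ hT₂le, hmem S T₁ hT₁le] at he
  refine hg (hnorm S ▸ Coprime.mem_normalizer_of_conj_smul_eq ?_)
  exact he.symm

end Cfsg.Agent.CIT
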