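import Cfsg.Agent.Lib.CIT.Struct
import Cfsg.Agent.Lib.AbelianCent.TypeOne
import Cfsg.Agent.Lib.Components.Subnormal

/-!
# Maximal 2-locals under automorphisms, and those without an offender

A maximal 2-local without an elementary abelian subgroup of largest order outside its 2-core
contains a Sylow 2-subgroup of `G` and is the normaliser of its Thompson subgroup.
-/

set_option autoImplicit false
set_option linter.style.haveILetI false
set_option linter.unusedSectionVars false

namespace Cfsg.Agent.CIT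

open Subgroup
open Cfsg (IsElementaryAbelian pCore)

variable {G : Type*} [Group G]

theorem map_symm_map (φ : G ≃* G) (K : Subgroup G) :
    (K.map φ.symm.toMonoidHom).map φ.toMonoidHom = K := by
  rw [Subgroup.map_map, show φ.toMonoidHom.comp φ.symm.toMonoidHom = MonoidHom.id G from
    MonoidHom.ext φ.apply_symm_apply, Subgroup.map_id]

theorem map_map_symm (φ : G ≃* G) (K : Subgroup G) :
    (K.map φ.toMonoidHom).map φ.symm.toMonoidHom = K := map_symm_map φ.symm K

theorem normalizer_map_equiv (φ : G ≃* G) (K : Subgroup G) :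
    (normalizer (K : Set G)).map φ.toMonoidHom =
      normalizer ((K.map φ.toMonoidHom : Subgroup G) : Set G) :=
  Subgroup.map_normalizer_eq_of_bijective K (f := φ.toMonoidHom) φ.bijective

theorem IsLocal.map {H : Subgroup G} (h : IsLocal H) (φ : G ≃* G) :
    IsLocal (H.map φ.toMonoidHom) := by
  obtain ⟨D, hDH, hD1, hD, hn⟩ := h
  refine ⟨D.map φ.toMonoidHom, Subgroup.map_mono hDH,
    fun e => hD1 ((Subgroup.map_eq_bot_iff_of_injective D φ.injective).1 e), hD.map _, ?_⟩
  exact (Subgroup.map_mono hn).trans (normalizer_map_equiv φ D).le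

theorem IsMaxLocal.map {M : Subgroup G} (h : IsMaxLocal M) (φ : G ≃* G) :
    IsMaxLocal (M.map φ.toMonoidHom) := by
  refine ⟨h.1.map φ, fun H hH hle => ?_⟩
  have h1 := h.2 _ (hH.map φ.symm)
    ((map_map_symm φ M).ge.trans (Subgroup.map_mono hle))
  rw [← h1, map_symm_map]

section Finite

variable [Finite G]

theorem map_core_le (M : Subgroup G) (φ : G ≃* G) :
    (core M).map φ.toMonoidHom ≤ core (M.map φ.toMonoidHom) :=
  le_core (Subgroup.map_mono (core_le M)) ((core_two M).map _)
    ((Subgroup.map_mono (le_normalizer_core M)).trans (normalizer_map_equiv φ _).le)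

theorem core_map (M : Subgroup G) (φ : G ≃* G) :
    core (M.map φ.toMonoidHom) = (core M).map φ.toMonoidHom := by
  refine le_antisymm ?_ (map_core_le M φ)
  have h1 := Subgroup.map_mono (f := φ.toMonoidHom) (map_core_le (M.map φ.toMonoidHom) φ.symm)
  rwa [map_symm_map, map_map_symm] at h1

theorem map_vsub_le (M : Subgroup G) (φ : G ≃* G) :
    (vsub M).map φ.toMonoidHom ≤ vsub (M.map φ.toMonoidHom) := by
  rintro _ ⟨x, hx, rfl⟩
  refine ⟨(core_map M φ).ge ⟨x, hx.1, rfl⟩, fun d hd => ?_, ?_⟩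
  · obtain ⟨d', hd', rfl⟩ := (core_map M φ).le hd
    exact (hx.2.1 d' hd').map φ.toMonoidHom
  · rw [← map_mul, hx.2.2, map_one]

theorem vsub_map (M : Subgroup G) (φ : G ≃* G) :
    vsub (M.map φ.toMonoidHom) = (vsub M).map φ.toMonoidHom := by
  refine le_antisymm ?_ (map_vsub_le M φ)
  have h1 := Subgroup.map_mono (f := φ.toMonoidHom) (map_vsub_le (M.map φ.toMonoidHom) φ.symm)
  rwa [map_symm_map, map_map_symm] at h1

theorem Sett.map {M A : Subgroup G} (h : Sett M A) (φ : G ≃* G) :
    Sett (M.map φ.toMonoidHom) (A.map φ.toMonoidHom) where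
  hG := h.hG
  max := h.max.map φ
  le := Subgroup.map_mono h.le
  elem := PGroup.isElementaryAbelian_map h.elem _
  largest B hB hBe := by
    have h1 := h.largest _ ((Subgroup.map_mono hB).trans (map_map_symm φ M).le)
      (PGroup.isElementaryAbelian_map hBe φ.symm.toMonoidHom)
    rw [Subgroup.card_map_of_injective φ.symm.injective] at h1
    rwa [Subgroup.card_map_of_injective φ.injective]
  out hle := h.out (by
    rw [core_map] at hle
    exact (Subgroup.map_le_map_iff_of_injective φ.injective).1 hle)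
  quad := by
    rintro _ ⟨a, ha, rfl⟩ v hv
    obtain ⟨v, hv', rfl⟩ := (vsub_map M φ).le hv
    refine mem_centralizer_iff.2 ?_
    rintro _ ⟨b, hb, rfl⟩
    have h1 : Commute b (a * v * a⁻¹ * v) := mem_centralizer_iff.1 (h.quad a ha v hv') b hb
    have h2 := (h1.map φ.toMonoidHom).eq
    simp only [map_mul, map_inv] at h2
    exact h2

theorem Sett.bad {M A : Subgroup G} (h : Sett M A) : Bad M :=
  ⟨h.max, A, h.le, h.elem, h.largest, h.out⟩

theorem Bad.map (hG : IsCIT G) {M : Subgroup G} (h : Bad M) (φ : G ≃* G) :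
    Bad (M.map φ.toMonoidHom) := by
  obtain ⟨A, hA⟩ := h.exists_sett hG
  exact (hA.map φ).bad

/-- A 2-subgroup inside a Sylow subgroup of `G` but not equal to it grows in its normaliser. -/
theorem exists_two_overgroup {P : Subgroup G} (hP : IsPGroup 2 P)
    (hns : ∀ S : Sylow 2 G, (S : Subgroup G) ≠ P) :
    ∃ y : G, y ∈ normalizer (P : Set G) ∧ y ∉ P ∧ IsPGroup 2 (P ⊔ zpowers y : Subgroup G) := by
  haveI : Fact (Nat.Prime 2) := ⟨Nat.prime_two⟩
  obtain ⟨S, hS⟩ := hP.exists_le_sylow
  obtain ⟨y, hyS, hyn, hyP⟩ := AbelianCent.exists_mem_normalizer_not_mem S.isPGroup' hS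
    fun e => hns S e.symm
  exact ⟨y, hyn, hyP, S.isPGroup'.to_le (sup_le hS (zpowers_le.2 hyS))⟩

/-- A maximal local without an offender. -/
theorem exists_sylow_of_not_bad {M : Subgroup G} (hM : IsMaxLocal M) (hbad : ¬ Bad M) :
    (∃ S : Sylow 2 G, (S : Subgroup G) ≤ M) ∧
      ∀ S : Sylow 2 G, (S : Subgroup G) ≤ M →
        normalizer (jsub (S : Subgroup G) : Set G) = M := by
  haveI : Fact (Nat.Prime 2) := ⟨Nat.prime_two⟩
  -- largest elementary abelian subgroups lie in the core
  have hin : ∀ B : Subgroup G, MaxE M B → B ≤ core M := fun B hB => by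
    by_contra hle
    exact hbad ⟨hM, B, hB.1, hB.2.1, hB.2.2, hle⟩
  have hJ : ∀ T : Subgroup G, core M ≤ T → T ≤ M → jsub T = jsub (core M) := by
    intro T hcT hTM
    obtain ⟨B₀, hB₀⟩ := exists_maxE M
    have hB₀c := hin B₀ hB₀
    have hiff : ∀ B : Subgroup G, MaxE T B ↔ MaxE (core M) B := by
      intro B
      constructor
      · intro hB
        have hBM : MaxE M B := ⟨hB.1.trans hTM, hB.2.1, fun C hC hCe =>
          (hB₀.2.2 C hC hCe).trans (hB.2.2 B₀ (hB₀c.trans hcT) hB₀.2.1)⟩
        exact ⟨hin B hBM, hB.2.1, fun C hC hCe => hB.2.2 C (hC.trans hcT) hCe⟩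
      · intro hB
        exact ⟨hB.1.trans hcT, hB.2.1, fun C hC hCe => (hB₀.2.2 C (hC.trans hTM) hCe).trans
          (hB.2.2 B₀ hB₀c hB₀.2.1)⟩
    refine le_antisymm (iSup_le fun B => ?_) (iSup_le fun B => ?_)
    · exact le_iSup_of_le (⟨B, (hiff _).1 B.2⟩ : {B // MaxE (core M) B}) le_rfl
    · exact le_iSup_of_le (⟨B, (hiff _).2 B.2⟩ : {B // MaxE T B}) le_rfl
  have hne : jsub (core M) ≠ ⊥ := by
    intro e
    obtain ⟨B, hB⟩ := exists_maxE (core M)
    have hB1 : B = ⊥ := le_bot_iff.1
      (e ▸ le_iSup_of_le (⟨B, hB⟩ : {B // MaxE (core M) B}) le_rfl)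
    have hv := hB.2.2 _ (vsub_le_core M) (vsub_elem M)
    rw [hB1, Subgroup.card_bot] at hv
    exact vsub_ne_bot hM.1 (Subgroup.eq_bot_of_card_le _ hv)
  have hN : normalizer (jsub (core M) : Set G) = M :=
    hM.normalizer_eq ((core_two M).to_le (jsub_le _)) hne
      ((le_normalizer_core M).trans (normalizer_le_normalizer_jsub _))
  -- a 2-subgroup of `M` over the core is a Sylow subgroup of `G` or grows inside `M`
  obtain ⟨T, hT⟩ := Set.Finite.exists_maximalFor (fun K : Subgroup G => Nat.card K)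
    {K | K ≤ M ∧ core M ≤ K ∧ IsPGroup 2 K} (Set.toFinite _)
    ⟨core M, core_le M, le_rfl, core_two M⟩
  obtain ⟨⟨hTM, hcT, hT2⟩, hTmax⟩ := hT
  have hcore : ∀ S : Sylow 2 G, (S : Subgroup G) ≤ M → core M ≤ S := by
    intro S hS
    have hp : IsPGroup 2 (core M ⊔ S : Subgroup G) :=
      IsPGroup.to_sup_of_normal_left' (core_two M) S.isPGroup'
        (hS.trans (le_normalizer_core M))
    exact le_sup_left.trans (S.is_maximal' hp le_sup_right).le
  refine ⟨?_, fun S hS => by rw [hJ _ (hcore S hS) hS, hN]⟩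
  by_contra hns
  obtain ⟨y, hyn, hyT, hy2⟩ := exists_two_overgroup hT2 fun S e => hns ⟨S, e ▸ hTM⟩
  have hyM : y ∈ M := by
    rw [← hN, ← hJ T hcT hTM]
    exact normalizer_le_normalizer_jsub T hyn
  have hle : T ⊔ zpowers y ≤ M := sup_le hTM (zpowers_le.2 hyM)
  have heq : T = T ⊔ zpowers y := Subgroup.eq_of_le_of_card_ge le_sup_left
    (hTmax ⟨hle, hcT.trans le_sup_left, hy2⟩ (Subgroup.card_le_of_le le_sup_left))
  exact hyT (heq.ge (mem_sup_right (mem_zpowers y)))

end Finite

end Cfsg.Agent.CIT
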