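import Mathlib

/-!
# A quadratic offender in a group whose odd elements act without fixed points

`Γ` acts faithfully on an elementary abelian 2-group `V`; every involution inverts a nontrivial
element of odd order, odd elements commute with no involution and fix no nontrivial vector.
A quadratic elementary abelian offender `A` then has order `q` with `|V| = q²`, and `Γ` acts on
the `q + 1` conjugates of `W = C_V(A)` like `SL(2, q)`.
-/

set_option autoImplicit false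
set_option linter.style.haveILetI false

namespace Cfsg.Agent.CIT

open Subgroup

/-- Normalisers grow inside a finite 2-group. -/
theorem exists_normalizing {G : Type*} [Group G] [Finite G] {R K : Subgroup G} (hR : IsPGroup 2 R)
    (hKR : K ≤ R) (hne : ¬ R ≤ K) : ∃ y ∈ R, y ∉ K ∧ y ∈ normalizer (K : Set G) := by
  haveI : Fact (Nat.Prime 2) := ⟨Nat.prime_two⟩
  haveI : Group.IsNilpotent R := hR.isNilpotent
  have hlt : K.subgroupOf R < ⊤ :=
    lt_top_iff_ne_top.2 fun h => hne (Subgroup.subgroupOf_eq_top.1 h)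
  obtain ⟨g, hgN, hg⟩ := SetLike.exists_of_lt
    (Group.normalizerCondition_of_isNilpotent (K.subgroupOf R) hlt)
  refine ⟨g, g.2, fun h => hg h, ?_⟩
  refine mem_normalizer_iff.2 fun n => ⟨fun hn => ?_, fun hn => ?_⟩
  · exact (mem_normalizer_iff.1 hgN ⟨n, hKR hn⟩).1 hn
  · have hnR : n ∈ R := by
      have := R.mul_mem (R.mul_mem (R.inv_mem g.2) (hKR hn)) g.2
      rwa [show (g : G)⁻¹ * ((g : G) * n * (g : G)⁻¹) * g = n by group] at this
    exact (mem_normalizer_iff.1 hgN ⟨n, hnR⟩).2 hn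

theorem eq_one_of_odd_of_two_pow {G : Type*} [Group G] {x : G} (hx : Odd (orderOf x))
    {k : ℕ} (h : x ^ 2 ^ k = 1) : x = 1 := by
  obtain ⟨i, -, hi⟩ := (Nat.dvd_prime_pow Nat.prime_two).1 (orderOf_dvd_of_pow_eq_one h)
  rcases i with _ | i
  · exact orderOf_eq_one_iff.1 (hi.trans (pow_zero 2))
  · rw [hi, pow_succ] at hx
    exact absurd (Nat.even_mul.2 (Or.inr even_two)) (Nat.not_even_iff_odd.2 hx)

theorem exists_odd_pow {G : Type*} [Group G] [Finite G] (x : G) :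
    ∃ k : ℕ, Odd (orderOf (x ^ 2 ^ k)) := by
  obtain ⟨k, m, hm, he⟩ := Nat.exists_eq_two_pow_mul_odd (orderOf_pos x).ne'
  refine ⟨k, ?_⟩
  rwa [orderOf_pow, he, Nat.gcd_eq_right (dvd_mul_right _ _),
    Nat.mul_div_cancel_left _ (pow_pos two_pos k)]

theorem card_ne {T : Type*} [Finite T] (t : T) : Nat.card {s : T // s ≠ t} = Nat.card T - 1 := by
  classical
  have := Nat.card_congr (Equiv.optionSubtypeNe t)
  rw [Finite.card_option] at this
  omega

namespace Module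

variable {Γ V : Type*} [Group Γ] [CommGroup V] [MulDistribMulAction Γ V]

/-- Common fixed points of a subgroup. -/
def fixV (A : Subgroup Γ) : Subgroup V where
  carrier := {v | ∀ a ∈ A, a • v = v}
  one_mem' := fun a _ => smul_one a
  mul_mem' := fun {v w} hv hw a ha => by rw [smul_mul', hv a ha, hw a ha]
  inv_mem' := fun {v} hv a ha => by rw [smul_inv', hv a ha]

/-- Fixed points of an element. -/
def fixE (x : Γ) : Subgroup V where
  carrier := {v | x • v = v}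
  one_mem' := smul_one x
  mul_mem' := fun {v w} hv hw => by
    show x • (v * w) = v * w
    rw [smul_mul', hv, hw]
  inv_mem' := fun {v} hv => by
    show x • v⁻¹ = v⁻¹
    rw [smul_inv', hv]

theorem mem_fixE {x : Γ} {v : V} : v ∈ (fixE x : Subgroup V) ↔ x • v = v := Iff.rfl

theorem mem_fixV {A : Subgroup Γ} {v : V} : v ∈ (fixV A : Subgroup V) ↔ ∀ a ∈ A, a • v = v :=
  Iff.rfl

/-- `v ↦ [v, x]`. -/
def dev (x : Γ) : V →* V where
  toFun v := x • v * v
  map_one' := by rw [smul_one, one_mul]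
  map_mul' v w := by rw [smul_mul']; exact mul_mul_mul_comm _ _ _ _

theorem dev_apply (x : Γ) (v : V) : dev x v = x • v * v := rfl

theorem smul_one_iff {x : Γ} {v : V} : x • v = 1 ↔ v = 1 := by
  rw [smul_eq_iff_eq_inv_smul, smul_one]

/-- The stabiliser of the two points `W` and `x • W`. -/
def tor (A : Subgroup Γ) (x : Γ) : Subgroup Γ :=
  normalizer (A : Set Γ) ⊓ (normalizer (A : Set Γ)).map (MulAut.conj x).toMonoidHom

theorem mem_tor {A : Subgroup Γ} {x y : Γ} :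
    y ∈ tor A x ↔ y ∈ normalizer (A : Set Γ) ∧ x⁻¹ * y * x ∈ normalizer (A : Set Γ) := by
  constructor
  · rintro ⟨h1, z, hz, rfl⟩
    refine ⟨h1, ?_⟩
    show x⁻¹ * (x * z * x⁻¹) * x ∈ normalizer (A : Set Γ)
    rwa [show x⁻¹ * (x * z * x⁻¹) * x = z by group]
  · rintro ⟨h1, h2⟩
    exact ⟨h1, _, h2, show x * (x⁻¹ * y * x) * x⁻¹ = y by group⟩

/-- The hypotheses on an offender `A`. -/
structure Off (A : Subgroup Γ) : Prop where
  expV : ∀ v : V, v * v = 1
  faithful : ∀ x : Γ, (∀ v : V, x • v = v) → x = 1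
  fix_odd : ∀ x : Γ, Odd (orderOf x) → ∀ v : V, x • v = v → v ≠ 1 → x = 1
  odd_inv : ∀ x t : Γ, Odd (orderOf x) → orderOf t = 2 → Commute x t → x = 1
  inverted : ∀ t : Γ, orderOf t = 2 → ∃ x : Γ, x ≠ 1 ∧ Odd (orderOf x) ∧ t * x * t⁻¹ = x⁻¹
  invA : ∀ a ∈ A, a * a = 1
  quad : ∀ a ∈ A, ∀ b ∈ A, ∀ v : V, b • (a • v * v) = a • v * v
  ne : A ≠ ⊥
  bound : Nat.card V ≤ Nat.card A * Nat.card (fixV A : Subgroup V)

namespace Off

variable {A : Subgroup Γ} (h : Off (V := V) A)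
include h

theorem cancel (v w : V) : v * w * w = v := by rw [mul_assoc, h.expV, mul_one]

theorem inv_eq (v : V) : v⁻¹ = v := inv_eq_of_mul_eq_one_right (h.expV v)

theorem eq_of_mul {v w : V} (e : v * w = 1) : v = w := by
  rw [mul_eq_one_iff_eq_inv] at e; rw [e, h.inv_eq]

theorem orderOf_eq {a : Γ} (ha : a ∈ A) (ha1 : a ≠ 1) : orderOf a = 2 := by
  haveI : Fact (Nat.Prime 2) := ⟨Nat.prime_two⟩
  exact orderOf_eq_prime (by rw [pow_two]; exact h.invA a ha) ha1

theorem two_isPGroup : IsPGroup 2 A := fun a =>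
  ⟨1, Subtype.ext (by rw [pow_one, pow_two]; exact h.invA a a.2)⟩

theorem commA {a b : Γ} (ha : a ∈ A) (hb : b ∈ A) : Commute a b := by
  have e := h.invA _ (A.mul_mem ha hb)
  have ha' : a⁻¹ = a := inv_eq_of_mul_eq_one_right (h.invA a ha)
  have hb' : b⁻¹ = b := inv_eq_of_mul_eq_one_right (h.invA b hb)
  show a * b = b * a
  calc a * b = (a * b)⁻¹ := (inv_eq_of_mul_eq_one_right e).symm
    _ = b * a := by rw [mul_inv_rev, ha', hb']

variable [Finite Γ] [Finite V]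

/-- An involution fixes exactly the square root of `|V|` vectors, its commutators. -/
theorem involution {t : Γ} (ht : orderOf t = 2) :
    Nat.card (fixE t : Subgroup V) * Nat.card (fixE t : Subgroup V) = Nat.card V ∧
      (dev t : V →* V).range = fixE t := by
  have htt : t * t = 1 := by rw [← pow_two, ← ht, pow_orderOf_eq_one]
  have hsub : (dev t : V →* V).range ≤ fixE t := by
    rintro _ ⟨v, rfl⟩
    show t • (t • v * v) = t • v * v
    rw [smul_mul', smul_smul, htt, one_smul, mul_comm]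
  have hker : (dev t : V →* V).ker = fixE t := by
    ext v
    rw [MonoidHom.mem_ker, dev_apply, mem_fixE]
    exact ⟨fun e => h.eq_of_mul e, fun e => by rw [e, h.expV]⟩
  have hcard : Nat.card (fixE t : Subgroup V) * Nat.card (dev t : V →* V).range = Nat.card V := by
    rw [← hker, ← index_ker, card_mul_index]
  have hle := Subgroup.card_le_of_le hsub
  obtain ⟨x, hx1, hxo, hinv⟩ := h.inverted t ht
  have hx2 : x * x ≠ 1 := fun e => hx1 (eq_one_of_odd_of_two_pow hxo (k := 1)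
    (by rw [pow_one, pow_two, e]))
  have hge : Nat.card (fixE t : Subgroup V) * Nat.card (fixE t : Subgroup V) ≤ Nat.card V := by
    rw [← Nat.card_prod]
    refine Nat.card_le_card_of_injective
      (fun p : ↥(fixE (V := V) t) × ↥(fixE (V := V) t) => (p.1 : V) * x • (p.2 : V)) ?_
    rintro ⟨⟨v, hv⟩, ⟨w, hw⟩⟩ ⟨⟨v', hv'⟩, ⟨w', hw'⟩⟩ e
    replace e : v * x • w = v' * x • w' := e
    set u : V := w' / w with hu
    have e1 : v / v' = x • u := by
      rw [hu, smul_div', div_eq_div_iff_mul_eq_mul, e, mul_comm]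
    have hu' : u ∈ (fixE t : Subgroup V) := div_mem hw' hw
    have hxu : x • u ∈ (fixE t : Subgroup V) := e1 ▸ div_mem hv hv'
    rw [mem_fixE] at hu' hxu
    have hfix : (x * x)⁻¹ • (x • u) = x • u := by
      have h1 : t * x * t⁻¹ * x⁻¹ = (x * x)⁻¹ := by rw [hinv, mul_inv_rev]
      have h2 : t⁻¹ = t := inv_eq_of_mul_eq_one_right htt
      rw [← h1, h2, mul_smul, inv_smul_smul, mul_smul, mul_smul, hu', hxu]
    have hodd : Odd (orderOf (x * x)⁻¹) := by
      rw [orderOf_inv, ← pow_two, orderOf_pow]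
      rwa [show (orderOf x).gcd 2 = 1 from Nat.coprime_two_right.2 hxo, Nat.div_one]
    have hu1 : u = 1 := by
      by_contra hne
      refine hx2 (inv_eq_one.1 (h.fix_odd _ hodd _ hfix fun e2 => hne ?_))
      rwa [smul_one_iff] at e2
    rw [hu1, smul_one, div_eq_one] at e1
    rw [hu, div_eq_one] at hu1
    subst e1; subst hu1
    rfl
  have heq : Nat.card (dev t : V →* V).range = Nat.card (fixE t : Subgroup V) := by
    refine le_antisymm hle (Nat.le_of_mul_le_mul_left ?_ (Nat.card_pos (α := (fixE t : Subgroup V))))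
    rw [hcard]; exact hge
  exact ⟨by rw [← hcard, heq], Subgroup.eq_of_le_of_card_ge hsub heq.ge⟩

/-- All nontrivial elements of `A` have the same fixed points. -/
theorem fix_eq {a : Γ} (ha : a ∈ A) (ha1 : a ≠ 1) : (fixE a : Subgroup V) = fixV A := by
  have hsub : ∀ b c : Γ, b ∈ A → c ∈ A → b ≠ 1 → (fixE b : Subgroup V) ≤ fixE c := by
    intro b c hb hc hb1 v hv
    rw [← (h.involution (h.orderOf_eq hb hb1)).2] at hv
    obtain ⟨u, rfl⟩ := hv
    exact h.quad b hb c hc u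
  refine le_antisymm (fun v hv c hc => hsub a c ha hc ha1 hv) fun v hv => hv a ha

theorem exists_ne_one : ∃ a ∈ A, a ≠ 1 := by
  obtain ⟨⟨a, ha⟩, ha1⟩ := Subgroup.ne_bot_iff_exists_ne_one.1 h.ne
  exact ⟨a, ha, fun e => ha1 (Subtype.ext e)⟩

/-- `|V| = q²`. -/
theorem card_V : Nat.card (fixV A : Subgroup V) * Nat.card (fixV A : Subgroup V) = Nat.card V := by
  obtain ⟨a, ha, ha1⟩ := h.exists_ne_one
  rw [← h.fix_eq ha ha1]
  exact (h.involution (h.orderOf_eq ha ha1)).1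

theorem exists_not_mem : ∃ v : V, v ∉ (fixV A : Subgroup V) := by
  by_contra hall
  push Not at hall
  obtain ⟨a, ha, ha1⟩ := h.exists_ne_one
  exact ha1 (h.faithful a fun v => hall v a ha)

/-- The stabiliser of the series `1 < W < V`. -/
def series : Subgroup Γ where
  carrier := {x | (∀ w ∈ (fixV A : Subgroup V), x • w = w) ∧
    ∀ v : V, x • v * v ∈ (fixV A : Subgroup V)}
  one_mem' := ⟨fun w _ => one_smul Γ w, fun v => by rw [one_smul, h.expV]; exact one_mem _⟩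
  mul_mem' := fun {x y} hx hy => ⟨fun w hw => by rw [mul_smul, hy.1 w hw, hx.1 w hw], fun v => by
    have h1 := hx.1 _ (hy.2 v)
    rw [smul_mul'] at h1
    rw [mul_smul, show x • y • v * v = x • y • v * x • v * (x • v * v) by
      rw [← mul_assoc, h.cancel], h1]
    exact mul_mem (hy.2 v) (hx.2 v)⟩
  inv_mem' := fun {x} hx => by
    refine ⟨fun w hw => inv_smul_eq_iff.2 (hx.1 w hw).symm, fun v => ?_⟩
    have h1 : x⁻¹ • v * v = x⁻¹ • (x • v * v) := by rw [smul_mul', inv_smul_smul, mul_comm]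
    rw [h1, inv_smul_eq_iff.2 (hx.1 _ (hx.2 v)).symm]
    exact hx.2 v

theorem le_series : A ≤ h.series := fun a ha =>
  ⟨fun _ hw => hw a ha, fun v c hc => h.quad a ha c hc v⟩

theorem series_sq {x : Γ} (hx : x ∈ h.series) : x * x = 1 := h.faithful _ fun v => by
  have h1 := hx.1 _ (hx.2 v)
  rw [smul_mul'] at h1
  rw [mul_smul]
  exact mul_right_cancel (h1.trans (mul_comm _ _))

theorem series_fix {x : Γ} (hx : x ∈ h.series) (hx1 : x ≠ 1) :
    (fixE x : Subgroup V) = fixV A := by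
  haveI : Fact (Nat.Prime 2) := ⟨Nat.prime_two⟩
  have hx2 : orderOf x = 2 := orderOf_eq_prime (by rw [pow_two]; exact h.series_sq hx) hx1
  refine (Subgroup.eq_of_le_of_card_ge hx.1 (le_of_eq ?_)).symm
  exact Nat.mul_self_inj.1 ((h.involution hx2).1.trans h.card_V.symm)

theorem series_inj {x y : Γ} (hx : x ∈ h.series) (hy : y ∈ h.series) {v : V}
    (hv : v ∉ (fixV A : Subgroup V)) (e : x • v = y • v) : x = y := by
  by_contra hne
  have h1 : y⁻¹ * x ≠ 1 := fun e1 => hne (inv_mul_eq_one.1 e1).symm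
  refine hv ?_
  rw [← h.series_fix (mul_mem (inv_mem hy) hx) h1, mem_fixE, mul_smul, e, inv_smul_smul]

theorem card_series_le : Nat.card h.series ≤ Nat.card (fixV A : Subgroup V) := by
  obtain ⟨v, hv⟩ := h.exists_not_mem
  refine Nat.card_le_card_of_injective (fun x : h.series => (⟨_, x.2.2 v⟩ : (fixV A : Subgroup V)))
    fun x y e => Subtype.ext ?_
  exact h.series_inj x.2 y.2 hv (mul_right_cancel (congrArg Subtype.val e :))

/-- `|A| = q`. -/
theorem card_A : Nat.card A = Nat.card (fixV A : Subgroup V) := by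
  refine le_antisymm ((Subgroup.card_le_of_le h.le_series).trans h.card_series_le) ?_
  refine Nat.le_of_mul_le_mul_right (c := Nat.card (fixV A : Subgroup V)) ?_ Nat.card_pos
  rw [h.card_V]
  exact h.bound

theorem series_eq : h.series = A :=
  (Subgroup.eq_of_le_of_card_ge h.le_series (h.card_A ▸ h.card_series_le)).symm

theorem two_le_q : 2 ≤ Nat.card (fixV A : Subgroup V) := by
  rw [← h.card_A]
  exact (Subgroup.one_lt_card_iff_ne_bot A).2 h.ne

/-- Commutation with a vector outside `W` is onto `W`. -/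
theorem exists_dev {v w : V} (hv : v ∉ (fixV A : Subgroup V)) (hw : w ∈ (fixV A : Subgroup V)) :
    ∃ a ∈ A, a • v * v = w := by
  let f : A → (fixV A : Subgroup V) := fun a => ⟨_, (h.le_series a.2).2 v⟩
  have hf : Function.Bijective f := by
    rw [Nat.bijective_iff_injective_and_card]
    refine ⟨fun a b e => Subtype.ext ?_, h.card_A⟩
    exact h.series_inj (h.le_series a.2) (h.le_series b.2) hv
      (mul_right_cancel (congrArg Subtype.val e :))
  obtain ⟨a, e⟩ := hf.2 ⟨w, hw⟩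
  exact ⟨a, a.2, congrArg Subtype.val e⟩

/-- A 2-element stabilising a nontrivial subgroup fixes a nontrivial vector in it. -/
theorem exists_fixed_two (k : ℕ) : ∀ (x : Γ), x ^ 2 ^ k = 1 → ∀ U : Subgroup V,
    (∀ u ∈ U, x • u ∈ U) → U ≠ ⊥ → ∃ u ∈ U, u ≠ 1 ∧ x • u = u := by
  induction k with
  | zero =>
    intro x hx U _ hU
    obtain ⟨⟨u, hu⟩, hu1⟩ := Subgroup.ne_bot_iff_exists_ne_one.1 hU
    rw [pow_zero, pow_one] at hx
    exact ⟨u, hu, fun e => hu1 (Subtype.ext e), by rw [hx, one_smul]⟩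
  | succ k ih =>
    intro x hx U hxU hU
    obtain ⟨u, hu, hu1, hxxu⟩ := ih (x * x) (by rw [← pow_two, ← pow_mul, ← pow_succ', hx]) U
      (fun u hu => by rw [mul_smul]; exact hxU _ (hxU u hu)) hU
    by_cases he : x • u = u
    · exact ⟨u, hu, hu1, he⟩
    refine ⟨x • u * u, U.mul_mem (hxU u hu) hu, fun e => he (h.eq_of_mul e), ?_⟩
    rw [smul_mul', smul_smul, hxxu, mul_comm]

theorem fixV_ne_bot : (fixV A : Subgroup V) ≠ ⊥ :=
  (Subgroup.one_lt_card_iff_ne_bot _).1 h.two_le_q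

/-- `A` is self-centralising. -/
theorem mem_of_centralizes {x : Γ} (hx : ∀ a ∈ A, Commute x a) : x ∈ A := by
  obtain ⟨a, ha, ha1⟩ := h.exists_ne_one
  obtain ⟨k, hk⟩ := exists_odd_pow x
  have hxk : x ^ 2 ^ k = 1 := h.odd_inv _ a hk (h.orderOf_eq ha ha1) ((hx a ha).pow_left _)
  have hstab : ∀ w ∈ (fixV A : Subgroup V), x • w ∈ (fixV A : Subgroup V) := fun w hw c hc => by
    rw [smul_smul, ← (hx c hc).eq, mul_smul, hw c hc]
  obtain ⟨w, hw, hw1, hxw⟩ := h.exists_fixed_two k x hxk _ hstab h.fixV_ne_bot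
  have hmod : ∀ v : V, x • v * v ∈ (fixV A : Subgroup V) := by
    intro v
    by_cases hv : v ∈ (fixV A : Subgroup V)
    · exact mul_mem (hstab v hv) hv
    obtain ⟨c, hc, hcv⟩ := h.exists_dev hv hw
    have hc1 : c ≠ 1 := fun e => hw1 (by rw [← hcv, e, one_smul, h.expV])
    rw [← h.fix_eq hc hc1, mem_fixE, smul_mul']
    have e1 : c • x • v * x • v = w := by
      rw [smul_smul, ← (hx c hc).eq, mul_smul, ← smul_mul', hcv, hxw]
    have e2 : c • v = w * v := by rw [← hcv, h.cancel]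
    have e3 : c • x • v = w * x • v := by rw [← e1, h.cancel]
    rw [e2, e3, mul_mul_mul_comm, h.expV, one_mul]
  rw [← h.series_eq]
  refine ⟨fun w' hw' => ?_, hmod⟩
  obtain ⟨v, hv⟩ := h.exists_not_mem
  obtain ⟨c, hc, hcv⟩ := h.exists_dev hv hw'
  obtain ⟨u, hu, hxv⟩ : ∃ u ∈ (fixV A : Subgroup V), x • v = u * v :=
    ⟨_, hmod v, (h.cancel _ _).symm⟩
  rw [← hcv, smul_mul', smul_smul, (hx c hc).eq, mul_smul, hxv, smul_mul', hu c hc,
    mul_mul_mul_comm, h.expV, one_mul]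

/-- Elements of `A` stabilising the fixed points of a conjugate. -/
theorem mem_normalizer_iff' {x : Γ} :
    x ∈ normalizer (A : Set Γ) ↔
      ∀ w ∈ (fixV A : Subgroup V), x • w ∈ (fixV A : Subgroup V) := by
  constructor
  · intro hx w hw c hc
    have hc' : x⁻¹ * c * x ∈ A := by
      refine (mem_normalizer_iff.1 hx _).2 ?_
      rwa [show x * (x⁻¹ * c * x) * x⁻¹ = c by group]
    calc c • x • w = x • (x⁻¹ * c * x) • w := by simp only [smul_smul]; group
      _ = x • w := by rw [hw _ hc']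
  · intro hx
    have hsurj : ∀ w ∈ (fixV A : Subgroup V), x⁻¹ • w ∈ (fixV A : Subgroup V) := by
      intro w hw
      obtain ⟨⟨u, hu⟩, e⟩ := Finite.surjective_of_injective
        (f := fun u : (fixV A : Subgroup V) => (⟨x • (u : V), hx u u.2⟩ : (fixV A : Subgroup V)))
        (fun a b e => Subtype.ext (smul_left_cancel x (congrArg Subtype.val e :))) ⟨w, hw⟩
      have e' : x • u = w := congrArg Subtype.val e
      rw [← e', inv_smul_smul]
      exact hu
    have hle : ∀ a ∈ A, x * a * x⁻¹ ∈ A := fun a ha => by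
      rw [← h.series_eq]
      refine ⟨fun w hw => ?_, fun v => ?_⟩
      · rw [mul_smul, mul_smul, (hsurj w hw) a ha, smul_inv_smul]
      · have := hx _ ((h.le_series ha).2 (x⁻¹ • v))
        rwa [smul_mul', smul_inv_smul, ← mul_smul, ← mul_smul] at this
    refine mem_normalizer_iff.2 fun n => ⟨hle n, fun hn => ?_⟩
    obtain ⟨⟨a, ha⟩, e⟩ := Finite.surjective_of_injective
      (f := fun a : A => (⟨x * a * x⁻¹, hle a a.2⟩ : A))
      (fun a b e => Subtype.ext (mul_left_cancel (mul_right_cancel (congrArg Subtype.val e :))))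
      ⟨_, hn⟩
    have e1 : x * a * x⁻¹ = x * n * x⁻¹ := congrArg Subtype.val e
    rwa [← mul_left_cancel (mul_right_cancel e1)]

/-- A conjugate of `A` and `A` that normalise each other are equal. -/
theorem mem_normalizer_of_mutual {x : Γ}
    (h1 : ∀ a ∈ A, x * a * x⁻¹ ∈ normalizer (A : Set Γ))
    (h2 : ∀ a ∈ A, x⁻¹ * a * x ∈ normalizer (A : Set Γ)) : x ∈ normalizer (A : Set Γ) := by
  by_cases hint : ∃ a ∈ A, a ≠ 1 ∧ x⁻¹ * a * x ∈ A
  · obtain ⟨a, ha, ha1, hax⟩ := hint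
    refine h.mem_normalizer_iff'.2 fun w hw => ?_
    rw [← h.fix_eq ha ha1, mem_fixE]
    calc a • x • w = x • (x⁻¹ * a * x) • w := by simp only [smul_smul]; group
      _ = x • w := by rw [hw _ hax]
  push Not at hint
  refine mem_normalizer_iff.2 fun n => ?_
  have hle : ∀ b ∈ A, x * b * x⁻¹ ∈ A := by
    intro b hb
    refine h.mem_of_centralizes fun a ha => ?_
    -- the commutator of `a` and the conjugate of `b` lies in both
    set b' := x * b * x⁻¹ with hb'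
    by_contra hne
    have hc1 : a * b' * a⁻¹ * b'⁻¹ ≠ 1 := fun e => hne (by
      rw [mul_inv_eq_one, mul_inv_eq_iff_eq_mul] at e
      exact e.symm)
    refine hint _ ?_ hc1 ?_
    · rw [show a * b' * a⁻¹ * b'⁻¹ = a * (b' * a⁻¹ * b'⁻¹) by group]
      exact A.mul_mem ha ((mem_normalizer_iff.1 (h1 b hb) _).1 (A.inv_mem ha))
    · rw [show x⁻¹ * (a * b' * a⁻¹ * b'⁻¹) * x = x⁻¹ * a * x * b * (x⁻¹ * a * x)⁻¹ * b⁻¹ by
        rw [hb']; group]
      exact A.mul_mem ((mem_normalizer_iff.1 (h2 a ha) b).1 hb) (A.inv_mem hb)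
  refine ⟨hle n, fun hn => ?_⟩
  obtain ⟨⟨a, ha⟩, e⟩ := Finite.surjective_of_injective
    (f := fun a : A => (⟨x * a * x⁻¹, hle a a.2⟩ : A))
    (fun a b e => Subtype.ext (mul_left_cancel (mul_right_cancel (congrArg Subtype.val e :))))
    ⟨_, hn⟩
  have e1 : x * a * x⁻¹ = x * n * x⁻¹ := congrArg Subtype.val e
  rwa [← mul_left_cancel (mul_right_cancel e1)]

/-- Every 2-group containing `A` normalises it. -/
theorem le_normalizer_of_two {R : Subgroup Γ} (hR : IsPGroup 2 R) (hAR : A ≤ R) :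
    R ≤ normalizer (A : Set Γ) := by
  by_contra hne
  obtain ⟨y, hyR, hyK, hy⟩ := exists_normalizing hR (K := R ⊓ normalizer (A : Set Γ)) inf_le_left
    fun hle => hne (hle.trans inf_le_right)
  have hA : A ≤ R ⊓ normalizer (A : Set Γ) := le_inf hAR le_normalizer
  refine hyK ⟨hyR, h.mem_normalizer_of_mutual (fun a ha => ?_) fun a ha => ?_⟩
  · exact ((mem_normalizer_iff.1 hy a).1 (hA ha)).2
  · refine ((mem_normalizer_iff.1 hy _).2 ?_).2
    rw [show y * (y⁻¹ * a * y) * y⁻¹ = a by group]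
    exact hA ha

/-- Conjugates of `A` inside one 2-group are equal. -/
theorem mem_normalizer_of_two {R : Subgroup Γ} (hR : IsPGroup 2 R) (hAR : A ≤ R) {x : Γ}
    (hx : ∀ a ∈ A, x * a * x⁻¹ ∈ R) : x ∈ normalizer (A : Set Γ) := by
  refine h.mem_normalizer_of_mutual (fun a ha => h.le_normalizer_of_two hR hAR (hx a ha))
    fun a ha => ?_
  refine h.le_normalizer_of_two (hR.map (MulAut.conj x⁻¹).toMonoidHom) (fun b hb => ?_)
    (Subgroup.mem_map.2 ⟨a, hAR ha, ?_⟩)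
  · exact ⟨x * b * x⁻¹, hx b hb, show x⁻¹ * (x * b * x⁻¹) * x⁻¹⁻¹ = b by group⟩
  · show x⁻¹ * a * x⁻¹⁻¹ = x⁻¹ * a * x
    rw [inv_inv]

/-- The points `x • W` are pairwise disjoint. -/
theorem mem_normalizer_of_meet {x : Γ} {w : V} (hw : w ∈ (fixV A : Subgroup V)) (hw1 : w ≠ 1)
    (hxw : x • w ∈ (fixV A : Subgroup V)) : x ∈ normalizer (A : Set Γ) := by
  have hK : IsPGroup 2 (MulAction.stabilizer Γ (x • w) : Subgroup Γ) := by
    intro y
    obtain ⟨k, hk⟩ := exists_odd_pow (y : Γ)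
    exact ⟨k, Subtype.ext (h.fix_odd _ hk (x • w)
      (MulAction.mem_stabilizer_iff.1 (pow_mem y.2 _))
      fun e => hw1 (smul_one_iff.1 e))⟩
  refine h.mem_normalizer_of_two hK (fun a ha => hxw a ha) fun a ha => ?_
  show (x * a * x⁻¹) • x • w = x • w
  rw [smul_smul, inv_mul_cancel_right, mul_smul, hw a ha]

/-- `A` is semiregular on the other points. -/
theorem conj_not_mem {a x : Γ} (ha : a ∈ A) (ha1 : a ≠ 1) (hx : x ∉ normalizer (A : Set Γ)) :
    x⁻¹ * a * x ∉ normalizer (A : Set Γ) := fun hn => by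
  obtain ⟨w, hw, hw1, hfix⟩ := h.exists_fixed_two 1 (x⁻¹ * a * x)
    (by rw [pow_one, pow_two, show x⁻¹ * a * x * (x⁻¹ * a * x) = x⁻¹ * (a * a) * x by group,
      h.invA a ha, mul_one, inv_mul_cancel])
    _ (h.mem_normalizer_iff'.1 hn) h.fixV_ne_bot
  refine hx (h.mem_normalizer_of_meet hw hw1 ?_)
  rw [← h.fix_eq ha ha1, mem_fixE]
  calc a • x • w = x • (x⁻¹ * a * x) • w := by simp only [smul_smul]; group
    _ = x • w := by rw [hfix]

theorem exists_not_normalizer : ∃ x : Γ, x ∉ normalizer (A : Set Γ) := by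
  obtain ⟨a, ha, ha1⟩ := h.exists_ne_one
  obtain ⟨x, hx1, hxo, hinv⟩ := h.inverted a (h.orderOf_eq ha ha1)
  refine ⟨x, fun hn => hx1 ?_⟩
  have hai : a⁻¹ = a := inv_eq_of_mul_eq_one_right (h.invA a ha)
  rw [hai] at hinv
  have hm : (x * x)⁻¹ ∈ A := by
    have : (x * x)⁻¹ = a * (x * a * x⁻¹) := by
      rw [mul_inv_rev]; nth_rewrite 1 [← hinv]; group
    exact this ▸ A.mul_mem ha ((mem_normalizer_iff.1 hn a).1 ha)
  refine eq_one_of_odd_of_two_pow hxo (k := 2) ?_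
  have h4 : x * x * (x * x) = 1 := by
    rw [← inv_eq_one, mul_inv_rev]
    exact h.invA _ hm
  rw [show (2 : ℕ) ^ 2 = 2 + 2 from rfl, pow_add, pow_two, h4]

local notation "N" => normalizer (A : Set Γ)
local notation "W" => (fixV A : Subgroup V)

/-- `A` is transitive on the other points, of which there are `q`. -/
theorem points {x : Γ} (hx : x ∉ N) :
    Nat.card (Γ ⧸ N) = Nat.card W + 1 ∧
      ∀ y : Γ, y ∉ N → ∃ a ∈ A, ∃ n ∈ N, y = a * x * n := by
  classical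
  haveI := Fintype.ofFinite (Γ ⧸ N)
  -- at most `q + 1` points
  have hup : Nat.card ((Γ ⧸ N) × {w : W // w ≠ 1}) ≤ Nat.card {v : V // v ≠ 1} := by
    refine Nat.card_le_card_of_injective (fun p => (⟨p.1.out • ((p.2 : W) : V), fun e => p.2.2
      (Subtype.ext (smul_one_iff.1 e))⟩ : {v : V // v ≠ 1})) ?_
    rintro ⟨p, ⟨⟨w, hw⟩, hw1⟩⟩ ⟨p', ⟨⟨w', hw'⟩, hw1'⟩⟩ e
    replace e : p.out • w = p'.out • w' := congrArg Subtype.val e
    have hmem : p'.out⁻¹ * p.out ∈ N := h.mem_normalizer_of_meet hw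
      (fun e1 => hw1 (Subtype.ext e1)) (by rw [mul_smul, e, inv_smul_smul]; exact hw')
    have hpp : p' = p := by
      rw [← QuotientGroup.out_eq' p, ← QuotientGroup.out_eq' p', QuotientGroup.eq]
      exact hmem
    subst hpp
    obtain rfl : w = w' := smul_left_cancel _ e
    rfl
  rw [Nat.card_prod, card_ne, card_ne, ← h.card_V] at hup
  have hq := h.two_le_q
  have hle : Nat.card (Γ ⧸ N) ≤ Nat.card W + 1 := by
    have hfac : Nat.card W * Nat.card W - 1 = (Nat.card W + 1) * (Nat.card W - 1) := by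
      obtain ⟨c, hc⟩ := Nat.exists_eq_add_of_le hq
      rw [hc, show 2 + c - 1 = 1 + c by omega]
      have : (2 + c) * (2 + c) = (2 + c + 1) * (1 + c) + 1 := by ring
      omega
    rw [hfac] at hup
    exact Nat.le_of_mul_le_mul_right hup (by omega)
  -- the orbit of `x N`
  let f : A → {p : Γ ⧸ N // p ≠ ((1 : Γ) : Γ ⧸ N)} := fun a =>
    ⟨((a : Γ) * x : Γ), fun e => hx (by
      rw [QuotientGroup.eq, mul_one, inv_mem_iff] at e
      exact ((normalizer (A : Set Γ)).mul_mem_cancel_left (le_normalizer a.2)).1 e)⟩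
  have hinj : Function.Injective f := fun a b e => by
    have e1 : (((a : Γ) * x : Γ) : Γ ⧸ N) = ((b : Γ) * x : Γ) := congrArg Subtype.val e
    rw [QuotientGroup.eq, show ((a : Γ) * x)⁻¹ * ((b : Γ) * x) = x⁻¹ * ((a : Γ)⁻¹ * b) * x by
      group] at e1
    by_contra hne
    exact h.conj_not_mem (A.mul_mem (A.inv_mem a.2) b.2)
      (fun e2 => hne (Subtype.ext (inv_mul_eq_one.1 e2))) hx e1
  have hlow := Nat.card_le_card_of_injective f hinj
  rw [card_ne, h.card_A] at hlow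
  have hcard : Nat.card (Γ ⧸ N) = Nat.card W + 1 := by omega
  refine ⟨hcard, fun y hy => ?_⟩
  have hsurj : Function.Surjective f := ((Nat.bijective_iff_injective_and_card f).2
    ⟨hinj, by rw [card_ne, h.card_A, hcard]; omega⟩).2
  obtain ⟨⟨a, ha⟩, e⟩ := hsurj ⟨(y : Γ ⧸ N), fun e => hy (by
    rw [QuotientGroup.eq, mul_one, inv_mem_iff] at e
    exact e)⟩
  have e1 : ((a * x : Γ) : Γ ⧸ N) = (y : Γ) := congrArg Subtype.val e
  exact ⟨a, ha, _, QuotientGroup.eq.1 e1, by group⟩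

/-- A two-point stabiliser has odd order. -/
theorem tor_odd {x : Γ} (hx : x ∉ N) : Odd (Nat.card ((tor A x))) := by
  haveI : Fact (Nat.Prime 2) := ⟨Nat.prime_two⟩
  rw [← Nat.not_even_iff_odd]
  intro hev
  obtain ⟨⟨s, hs⟩, hs2⟩ := exists_prime_orderOf_dvd_card' 2 hev.two_dvd
  rw [Subgroup.orderOf_mk] at hs2
  have hss : s * s = 1 := by rw [← pow_two, ← hs2, pow_orderOf_eq_one]
  have hsi : s⁻¹ = s := inv_eq_of_mul_eq_one_right hss
  obtain ⟨hsN, hsx⟩ := (mem_tor (A := A)).1 hs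
  -- a nontrivial fixed element of an involution acting on `A`
  have hfix : ∀ r : Γ, r * r = 1 → r ∈ N → ∃ a ∈ A, a ≠ 1 ∧ r * a = a * r := by
    intro r hr hrN
    obtain ⟨a, ha, ha1⟩ := h.exists_ne_one
    have hri : r⁻¹ = r := inv_eq_of_mul_eq_one_right hr
    have hra : r * a * r ∈ A := by
      have := (mem_normalizer_iff.1 hrN a).1 ha
      rwa [hri] at this
    by_cases he : r * a * r = a
    · exact ⟨a, ha, ha1, by nth_rewrite 2 [← he]; rw [mul_assoc, hr, mul_one]⟩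
    refine ⟨a * (r * a * r), A.mul_mem ha hra, fun e => he ?_, ?_⟩
    · rw [mul_eq_one_iff_inv_eq] at e
      rw [← e]
      exact inv_eq_of_mul_eq_one_right (h.invA a ha)
    · calc r * (a * (r * a * r)) = r * a * r * (a * r) := by group
        _ = (r * a * r * a) * r := by group
        _ = a * (r * a * r) * r := by rw [(h.commA hra ha).eq]
  obtain ⟨a, ha, ha1, has⟩ := hfix s hss hsN
  obtain ⟨b, hb, hb1, hbs⟩ := hfix (x⁻¹ * s * x)
    (by rw [show x⁻¹ * s * x * (x⁻¹ * s * x) = x⁻¹ * (s * s) * x by group, hss, mul_one,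
      inv_mul_cancel]) hsx
  have hC : IsPGroup 2 (centralizer ({s} : Set Γ)) := by
    intro y
    obtain ⟨k, hk⟩ := exists_odd_pow (y : Γ)
    exact ⟨k, Subtype.ext (h.odd_inv _ s hk hs2
      (Commute.pow_left (mem_centralizer_singleton_iff.1 y.2) _))⟩
  obtain ⟨P, hP⟩ := hC.exists_le_sylow
  obtain ⟨P₀, hP₀⟩ := h.two_isPGroup.exists_le_sylow
  obtain ⟨g, hg⟩ := MulAction.exists_smul_eq Γ P₀ P
  subst hg
  have hmemP : ∀ y ∈ centralizer ({s} : Set Γ), g⁻¹ * y * g ∈ N := by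
    intro y hy
    obtain ⟨z, hz, e⟩ := Subgroup.mem_map.1 (show y ∈ (P₀ : Subgroup Γ).map
      (MulAut.conj g).toMonoidHom from hP hy)
    have e' : g * z * g⁻¹ = y := e
    rw [← e', show g⁻¹ * (g * z * g⁻¹) * g = z by group]
    exact h.le_normalizer_of_two P₀.2 hP₀ hz
  have hgN : g ∈ N := by
    by_contra hgN
    exact h.conj_not_mem ha ha1 hgN (hmemP a (mem_centralizer_singleton_iff.2 has.symm))
  have hb' := hmemP (x * b * x⁻¹) (mem_centralizer_singleton_iff.2 (by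
    calc x * b * x⁻¹ * s = x * (b * (x⁻¹ * s * x)) * x⁻¹ := by group
      _ = x * ((x⁻¹ * s * x) * b) * x⁻¹ := by rw [hbs]
      _ = s * (x * b * x⁻¹) := by group))
  refine h.conj_not_mem hb hb1 (x := x⁻¹ * g) (fun hm => hx ?_) ?_
  · have := (N).mul_mem hgN ((N).inv_mem hm)
    rwa [show g * (x⁻¹ * g)⁻¹ = x by group] at this
  · rwa [show (x⁻¹ * g)⁻¹ * b * (x⁻¹ * g) = g⁻¹ * (x * b * x⁻¹) * g by group]

/-- Only the identity fixes three points. -/
theorem eq_one_of_three {x y t : Γ} (hx : x ∉ N) (hy : y ∉ N) (hxy : x⁻¹ * y ∉ N)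
    (ht : t ∈ (tor A x)) (hty : t ∈ (tor A y)) : t = 1 := by
  obtain ⟨a, ha, n, hn, rfl⟩ := (h.points hx).2 y hy
  have ha1 : a ≠ 1 := fun e => hxy (by
    rw [e, one_mul, show x⁻¹ * (x * n) = n by group]; exact hn)
  obtain ⟨htN, htx⟩ := (mem_tor (A := A)).1 ht
  have h2 := ((mem_tor (A := A)).1 hty).2
  have h3 : x⁻¹ * (a⁻¹ * t * a) * x ∈ N := by
    have := (N).mul_mem ((N).mul_mem hn h2) ((N).inv_mem hn)
    rwa [show n * ((a * x * n)⁻¹ * t * (a * x * n)) * n⁻¹ = x⁻¹ * (a⁻¹ * t * a) * x by group]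
      at this
  have hc : a⁻¹ * t * a * t⁻¹ ∈ A := by
    rw [show a⁻¹ * t * a * t⁻¹ = a⁻¹ * (t * a * t⁻¹) by group]
    exact A.mul_mem (A.inv_mem ha) ((mem_normalizer_iff.1 htN a).1 ha)
  have hcx : x⁻¹ * (a⁻¹ * t * a * t⁻¹) * x ∈ N := by
    have := (N).mul_mem h3 ((N).inv_mem htx)
    rwa [show x⁻¹ * (a⁻¹ * t * a) * x * (x⁻¹ * t * x)⁻¹ = x⁻¹ * (a⁻¹ * t * a * t⁻¹) * x by
      group] at this
  have hc1 : a⁻¹ * t * a * t⁻¹ = 1 := by
    by_contra hne
    exact h.conj_not_mem hc hne hx hcx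
  have hcomm : Commute t a := by
    rw [mul_inv_eq_one, mul_assoc, inv_mul_eq_iff_eq_mul] at hc1
    exact hc1
  exact h.odd_inv t a ((h.tor_odd hx).of_dvd_nat ((tor A x).orderOf_dvd_natCard ht))
    (h.orderOf_eq ha ha1) hcomm

/-- A 2-element stabilising `W` lies in `A`. -/
theorem mem_of_two {t : Γ} (ht : t ∈ N) {k : ℕ} (htk : t ^ 2 ^ k = 1) : t ∈ A := by
  obtain ⟨x, hx⟩ := h.exists_not_normalizer
  have htx : t * x ∉ N := fun hm => hx (((N).mul_mem_cancel_left ht).1 hm)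
  obtain ⟨a, ha, n, hn, e⟩ := (h.points hx).2 _ htx
  have haN : a ∈ N := le_normalizer ha
  have hm : a⁻¹ * t ∈ (tor A x) := (mem_tor (A := A)).2 ⟨(N).mul_mem ((N).inv_mem haN) ht, by
    rw [show x⁻¹ * (a⁻¹ * t) * x = x⁻¹ * (a⁻¹ * (t * x)) by group, e,
      show x⁻¹ * (a⁻¹ * (a * x * n)) = n by group]
    exact hn⟩
  -- the subgroup `A ⟨t⟩` is a 2-group
  have hR : IsPGroup 2 (zpowers t ⊔ A : Subgroup Γ) :=
    IsPGroup.to_sup_of_normal_right' (fun y => ⟨k, by
      obtain ⟨z, hz⟩ := Subgroup.mem_zpowers_iff.1 y.2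
      refine Subtype.ext ?_
      rw [Subgroup.coe_pow, Subgroup.coe_one, ← hz, ← zpow_natCast, ← zpow_mul, mul_comm, zpow_mul,
        zpow_natCast, htk, one_zpow]⟩) h.two_isPGroup (zpowers_le.2 ht)
  obtain ⟨j, hj⟩ := hR ⟨a⁻¹ * t, mul_mem (inv_mem (mem_sup_right ha))
    (mem_sup_left (mem_zpowers t))⟩
  have h1 : a⁻¹ * t = 1 := eq_one_of_odd_of_two_pow
    ((h.tor_odd hx).of_dvd_nat ((tor A x).orderOf_dvd_natCard hm)) (k := j)
    (congrArg Subtype.val hj :)
  rw [inv_mul_eq_one] at h1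
  exact h1 ▸ ha

/-- `A` is a Sylow 2-subgroup. -/
theorem le_of_two {R : Subgroup Γ} (hR : IsPGroup 2 R) (hAR : A ≤ R) : R = A := by
  refine le_antisymm (fun r hr => ?_) hAR
  obtain ⟨k, hk⟩ := hR ⟨r, hr⟩
  exact h.mem_of_two (h.le_normalizer_of_two hR hAR hr) (congrArg Subtype.val hk :)

/-- Every 2-element lies in a conjugate of `A`. -/
theorem exists_conj_mem {t : Γ} {k : ℕ} (htk : t ^ 2 ^ k = 1) :
    ∃ g : Γ, g⁻¹ * t * g ∈ A := by
  haveI : Fact (Nat.Prime 2) := ⟨Nat.prime_two⟩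
  obtain ⟨P, hP⟩ := (IsPGroup.iff_orderOf.2 fun y : zpowers t => by
    obtain ⟨i, -, hi⟩ := (Nat.dvd_prime_pow Nat.prime_two).1
      ((Subgroup.orderOf_dvd_natCard _ y.2).trans
        (Nat.card_zpowers t ▸ orderOf_dvd_of_pow_eq_one htk))
    exact ⟨i, by rwa [Subgroup.orderOf_coe] at hi⟩ : IsPGroup 2 (zpowers t)).exists_le_sylow
  obtain ⟨P₀, hP₀⟩ := h.two_isPGroup.exists_le_sylow
  obtain ⟨g, hg⟩ := MulAction.exists_smul_eq Γ P₀ P
  subst hg
  obtain ⟨z, hz, e⟩ := Subgroup.mem_map.1 (show t ∈ (P₀ : Subgroup Γ).map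
    (MulAut.conj g).toMonoidHom from hP (mem_zpowers t))
  have e' : g * z * g⁻¹ = t := e
  refine ⟨g, ?_⟩
  rw [← e', show g⁻¹ * (g * z * g⁻¹) * g = z by group, ← h.le_of_two P₀.2 hP₀]
  exact hz

/-- The involutions exchanging `W` and `x • W`, and the torus. -/
theorem torus {x : Γ} (hx : x ∉ N) :
    Nat.card ((tor A x)) + 1 = Nat.card W ∧
    ∃ u : Γ, u * u = 1 ∧ u ∉ N ∧ x⁻¹ * u ∈ N ∧ (∀ t ∈ (tor A x), u * t * u = t⁻¹) ∧
      ∃ a ∈ A, a ≠ 1 ∧ ∀ w ∈ W, a • (u • w) * (u • w) = w := by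
  classical
  -- the exchanging involutions
  let S := {b : Γ // b * b = 1 ∧ b ∉ N ∧ x⁻¹ * b ∈ N}
  -- one for each further point
  have hS : ∀ y : Γ, y ∉ N → x⁻¹ * y ∉ N → ∃ b : S, y⁻¹ * b.1 * y ∈ A := by
    intro y hy hxy
    obtain ⟨a, ha, n, hn, e⟩ := (h.points (x := y⁻¹) fun hm => hy (inv_mem_iff.1 hm)).2 (y⁻¹ * x)
      fun hm => hxy (by
        have := inv_mem hm
        rwa [mul_inv_rev, inv_inv] at this)
    have ha2 := h.invA a ha
    have hxe : x = y * a * y⁻¹ * n := by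
      calc x = y * (y⁻¹ * x) := by group
        _ = y * a * y⁻¹ * n := by rw [e]; group
    have hbb : y * a * y⁻¹ * (y * a * y⁻¹) = 1 := by
      rw [show y * a * y⁻¹ * (y * a * y⁻¹) = y * (a * a) * y⁻¹ by group, ha2, mul_one,
        mul_inv_cancel]
    refine ⟨⟨y * a * y⁻¹, hbb, fun hm => hx ?_, ?_⟩, ?_⟩
    · rw [hxe]; exact (N).mul_mem hm hn
    · rw [show x⁻¹ * (y * a * y⁻¹) = n⁻¹ by rw [hxe]; group]
      exact inv_mem hn
    · show y⁻¹ * (y * a * y⁻¹) * y ∈ A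
      rwa [show y⁻¹ * (y * a * y⁻¹) * y = a by group]
  -- each fixes exactly one point
  let Q := {p : Γ ⧸ N // p ≠ ((1 : Γ) : Γ ⧸ N) ∧ p ≠ (x : Γ ⧸ N)}
  have hQ : Nat.card Q + 1 = Nat.card W := by
    have h1 := Nat.card_congr (Equiv.optionSubtypeNe
      (⟨(x : Γ ⧸ N), fun e => hx (by
        rw [QuotientGroup.eq, mul_one, inv_mem_iff] at e; exact e)⟩ :
        {p : Γ ⧸ N // p ≠ ((1 : Γ) : Γ ⧸ N)}))
    rw [Finite.card_option, Nat.card_congr ((Equiv.subtypeEquivRight fun p => by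
      rw [Ne, Subtype.ext_iff]).trans (Equiv.subtypeSubtypeEquivSubtypeInter _
        (fun p => p ≠ (x : Γ ⧸ N))))] at h1
    have h2 := Nat.card_congr (Equiv.optionSubtypeNe ((1 : Γ) : Γ ⧸ N))
    rw [Finite.card_option, ← h1, (h.points hx).1] at h2
    simpa using h2
  have hex : ∀ p : Q, ∃ b : S, (p : Γ ⧸ N).out⁻¹ * b.1 * (p : Γ ⧸ N).out ∈ A := by
    intro p
    refine hS _ (fun hm => p.2.1 ?_) fun hm => p.2.2 ?_
    · rw [← QuotientGroup.out_eq' (p : Γ ⧸ N), QuotientGroup.eq, mul_one]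
      exact inv_mem hm
    · rw [← QuotientGroup.out_eq' (p : Γ ⧸ N), QuotientGroup.eq]
      have := inv_mem hm
      rwa [mul_inv_rev, inv_inv] at this
  choose g hg using hex
  have hb1 : ∀ b : S, b.1 ≠ 1 := fun b e => b.2.2.1 (by rw [e]; exact one_mem _)
  have hginj : Function.Injective g := by
    intro p p' e
    have h1 := hg p
    have h2 := hg p'
    rw [e] at h1
    set b := (g p').1
    set y := (p : Γ ⧸ N).out with hy
    set y' := (p' : Γ ⧸ N).out with hy'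
    have hmem : y⁻¹ * y' ∈ N := by
      by_contra hne
      refine h.conj_not_mem h1 (fun e1 => hb1 (g p') ?_) hne ?_
      · have : y * (y⁻¹ * b * y) * y⁻¹ = 1 := by rw [e1]; group
        rwa [show y * (y⁻¹ * b * y) * y⁻¹ = b by group] at this
      · rw [show (y⁻¹ * y')⁻¹ * (y⁻¹ * b * y) * (y⁻¹ * y') = y'⁻¹ * b * y' by group]
        exact le_normalizer h2
    have : (p : Γ ⧸ N) = p' := by
      rw [← QuotientGroup.out_eq' (p : Γ ⧸ N), ← QuotientGroup.out_eq' (p' : Γ ⧸ N),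
        QuotientGroup.eq]
      exact hmem
    exact Subtype.ext this
  haveI : Nonempty S := by
    haveI : Nonempty Q := by
      refine (Nat.card_pos_iff.1 ?_).1
      have := h.two_le_q
      omega
    exact ⟨g (Classical.arbitrary Q)⟩
  obtain ⟨⟨u, huu, huN, hux⟩⟩ := (inferInstance : Nonempty S)
  have hui : u⁻¹ = u := inv_eq_of_mul_eq_one_right huu
  -- left multiplication by `u` maps `S` into the torus
  have hmap : ∀ b : S, u * b.1 ∈ (tor A x) := by
    intro b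
    have hbi : b.1⁻¹ = b.1 := inv_eq_of_mul_eq_one_right b.2.1
    have h1 : u * x ∈ N := by
      have := inv_mem hux
      rwa [mul_inv_rev, inv_inv, hui] at this
    have h2 : b.1 * x ∈ N := by
      have := inv_mem b.2.2.2
      rwa [mul_inv_rev, inv_inv, hbi] at this
    refine (mem_tor (A := A)).2 ⟨?_, ?_⟩
    · rw [show u * b.1 = u * x * (x⁻¹ * b.1) by group]
      exact (N).mul_mem h1 b.2.2.2
    · rw [show x⁻¹ * (u * b.1) * x = x⁻¹ * u * (b.1 * x) by group]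
      exact (N).mul_mem hux h2
  let f : S → (tor A x) := fun b => ⟨u * b.1, hmap b⟩
  have hf : Function.Injective f := fun b b' e =>
    Subtype.ext (mul_left_cancel (congrArg Subtype.val e :))
  -- the torus is semiregular on `A`
  obtain ⟨a₀, ha₀, ha₀1⟩ := h.exists_ne_one
  have hTA : Nat.card ((tor A x)) + 1 ≤ Nat.card W := by
    rw [← h.card_A, ← Nat.card_congr (Equiv.optionSubtypeNe (1 : A)), Finite.card_option]
    refine Nat.succ_le_succ (Nat.card_le_card_of_injective (fun t : (tor A x) =>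
      (⟨⟨(t : Γ) * a₀ * (t : Γ)⁻¹, (mem_normalizer_iff.1 ((mem_tor (A := A)).1 t.2).1 a₀).1 ha₀⟩,
        fun e => ha₀1 (conj_eq_one_iff.1 (congrArg Subtype.val e))⟩ : {a : A // a ≠ 1})) ?_)
    intro t t' e
    have e1 : (t : Γ) * a₀ * (t : Γ)⁻¹ = (t' : Γ) * a₀ * (t' : Γ)⁻¹ :=
      congrArg Subtype.val (congrArg Subtype.val e)
    have hm := mul_mem (inv_mem t'.2) t.2
    have hc : Commute ((t' : Γ)⁻¹ * t) a₀ := by
      show (t' : Γ)⁻¹ * t * a₀ = a₀ * ((t' : Γ)⁻¹ * t)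
      calc (t' : Γ)⁻¹ * t * a₀ = (t' : Γ)⁻¹ * ((t : Γ) * a₀ * (t : Γ)⁻¹) * t := by group
        _ = a₀ * ((t' : Γ)⁻¹ * t) := by rw [e1]; group
    exact Subtype.ext (inv_mul_eq_one.1 (h.odd_inv _ a₀
      ((h.tor_odd hx).of_dvd_nat ((tor A x).orderOf_dvd_natCard hm)) (h.orderOf_eq ha₀ ha₀1) hc)).symm
  have hle1 := Nat.card_le_card_of_injective g hginj
  have hle2 := Nat.card_le_card_of_injective f hf
  have hcT : Nat.card ((tor A x)) + 1 = Nat.card W := by omega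
  have hbij : Function.Bijective f :=
    (Nat.bijective_iff_injective_and_card f).2 ⟨hf, by omega⟩
  refine ⟨hcT, u, huu, huN, hux, fun t ht => ?_, ?_⟩
  · obtain ⟨b, e⟩ := hbij.2 ⟨t, ht⟩
    have e' : u * b.1 = t := congrArg Subtype.val e
    rw [← e', mul_inv_rev, inv_eq_of_mul_eq_one_right b.2.1, hui, ← mul_assoc, huu, one_mul]
  -- the fixed point of `u`
  obtain ⟨y, hy⟩ := h.exists_conj_mem (t := u) (k := 1) (by rw [pow_one, pow_two, huu])
  have hyN : y ∉ N := fun hm => huN (by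
    have := (N).mul_mem ((N).mul_mem hm (le_normalizer hy)) ((N).inv_mem hm)
    rwa [show y * (y⁻¹ * u * y) * y⁻¹ = u by group] at this)
  have hxy : x⁻¹ * y ∉ N := fun hm => huN (by
    have h1 := (N).mul_mem ((N).mul_mem hm (le_normalizer hy)) ((N).inv_mem hm)
    rw [show x⁻¹ * y * (y⁻¹ * u * y) * (x⁻¹ * y)⁻¹ = x⁻¹ * u * x by group] at h1
    have h2 := (N).mul_mem ((N).inv_mem hux) h1
    rw [show (x⁻¹ * u)⁻¹ * (x⁻¹ * u * x) = x by group] at h2
    exact absurd h2 hx)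
  obtain ⟨a, ha, n, hn, hyan⟩ := (h.points hx).2 y hyN
  have ha1 : a ≠ 1 := fun e => hxy (by
    rw [hyan, e, one_mul, show x⁻¹ * (x * n) = n by group]; exact hn)
  refine ⟨a, ha, ha1, fun w hw => ?_⟩
  have hai : a⁻¹ = a := inv_eq_of_mul_eq_one_right (h.invA a ha)
  -- `a u a` fixes the vectors of `x • W`
  have hb : x⁻¹ * (a * u * a) * x ∈ A := by
    have h1 := (mem_normalizer_iff.1 hn _).1 hy
    rw [hyan, show n * ((a * x * n)⁻¹ * u * (a * x * n)) * n⁻¹ = x⁻¹ * (a⁻¹ * u * a) * x by group,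
      hai] at h1
    exact h1
  have hxu : ∀ w' ∈ W, (a * u * a) • (u • w') = u • w' := by
    intro w' hw'
    have hm : x⁻¹ • u • w' ∈ W := by
      rw [smul_smul]
      exact h.mem_normalizer_iff'.1 hux w' hw'
    have h2 := hm _ hb
    rw [smul_smul, show x⁻¹ * (a * u * a) * x * x⁻¹ = x⁻¹ * (a * u * a) by group, mul_smul,
      smul_left_cancel_iff] at h2
    exact h2
  have h1 : u • (a • u • w) = a • u • w := by
    conv_rhs => rw [← hxu w hw, mul_smul, mul_smul, smul_smul a a, h.invA a ha, one_smul]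
  set d := a • (u • w) * (u • w) with hd
  have hdW : d ∈ W := (h.le_series ha).2 _
  have hav : a • (u • w) = d * u • w := by rw [hd, h.cancel]
  rw [hav, smul_mul', smul_smul, huu, one_smul] at h1
  -- `d * w` is fixed by `u`
  have h2 : u • (d * w) = d * w := by
    rw [smul_mul']
    calc u • d * u • w = u • d * w * (w * u • w) := by
          rw [← mul_assoc, h.cancel]
      _ = d * u • w * (w * u • w) := by rw [h1]
      _ = d * w := by rw [mul_comm w (u • w), ← mul_assoc, h.cancel]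
  by_contra hne
  exact huN (h.mem_normalizer_of_meet (mul_mem hdW hw) (fun e => hne (h.eq_of_mul e))
    (by rw [h2]; exact mul_mem hdW hw))

/-- The stabiliser of `W` is `A` extended by a torus. -/
theorem exists_mul_tor {x n : Γ} (hx : x ∉ N) (hn : n ∈ N) :
    ∃ a ∈ A, ∃ t ∈ (tor A x), n = a * t := by
  have hnx : n * x ∉ N := fun hm => hx (((N).mul_mem_cancel_left hn).1 hm)
  obtain ⟨a, ha, m, hm, e⟩ := (h.points hx).2 _ hnx
  refine ⟨a, ha, a⁻¹ * n, (mem_tor (A := A)).2 ⟨(N).mul_mem ((N).inv_mem (le_normalizer ha)) hn, ?_⟩, by group⟩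
  rw [show x⁻¹ * (a⁻¹ * n) * x = x⁻¹ * (a⁻¹ * (n * x)) by group, e,
    show x⁻¹ * (a⁻¹ * (a * x * m)) = m by group]
  exact hm

/-- `|N(A)| = q (q - 1)` and `|Γ| = (q + 1) q (q - 1)`. -/
theorem card_normalizer_group :
    Nat.card N = Nat.card W * (Nat.card W - 1) ∧
      Nat.card Γ = (Nat.card W + 1) * (Nat.card W * (Nat.card W - 1)) := by
  obtain ⟨x, hx⟩ := h.exists_not_normalizer
  have hT : Nat.card ((tor A x)) = Nat.card W - 1 := by have := (h.torus hx).1; omega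
  have hN : Nat.card N = Nat.card W * (Nat.card W - 1) := by
    rw [← hT, ← h.card_A, ← Nat.card_prod]
    refine (Nat.card_eq_of_bijective (fun p : A × (tor A x) => (⟨(p.1 : Γ) * p.2,
      (N).mul_mem (le_normalizer p.1.2) ((mem_tor (A := A)).1 p.2.2).1⟩ : N)) ⟨?_, ?_⟩).symm
    · rintro ⟨a, t⟩ ⟨a', t'⟩ e
      have e1 : (a : Γ) * t = a' * t' := congrArg Subtype.val e
      have e2 : (a' : Γ)⁻¹ * a = t' * (t : Γ)⁻¹ := by
        rw [inv_mul_eq_iff_eq_mul, ← mul_assoc, eq_mul_inv_iff_mul_eq, e1]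
      have h1 : (a' : Γ)⁻¹ * a = 1 := eq_one_of_odd_of_two_pow
        ((h.tor_odd hx).of_dvd_nat (e2 ▸ (tor A x).orderOf_dvd_natCard
          (mul_mem t'.2 (inv_mem t.2)))) (k := 1)
        (by rw [pow_one, pow_two]; exact h.invA _ (mul_mem (inv_mem a'.2) a.2))
      obtain rfl : a = a' := Subtype.ext (inv_mul_eq_one.1 h1).symm
      obtain rfl : t = t' := Subtype.ext (mul_left_cancel e1)
      rfl
    · rintro ⟨n, hn⟩
      obtain ⟨a, ha, t, ht, e⟩ := h.exists_mul_tor hx hn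
      exact ⟨(⟨a, ha⟩, ⟨t, ht⟩), Subtype.ext e.symm⟩
  refine ⟨hN, ?_⟩
  rw [(N).card_eq_card_quotient_mul_card_subgroup, (h.points hx).1, hN]

/-- The torus is transitive on `W`. -/
theorem tor_trans_W {x : Γ} (hx : x ∉ N) {v w : V} (hv : v ∈ W) (hv1 : v ≠ 1) (hw : w ∈ W)
    (hw1 : w ≠ 1) : ∃ t ∈ (tor A x), t • v = w := by
  classical
  let f : (tor A x) → {u : W // u ≠ 1} := fun t =>
    ⟨⟨(t : Γ) • v, h.mem_normalizer_iff'.1 ((mem_tor (A := A)).1 t.2).1 v hv⟩,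
      fun e => hv1 (smul_one_iff.1 (congrArg Subtype.val e))⟩
  have hf : Function.Bijective f := by
    rw [Nat.bijective_iff_injective_and_card]
    refine ⟨fun t t' e => ?_, ?_⟩
    · have e1 : (t : Γ) • v = (t' : Γ) • v := congrArg Subtype.val (congrArg Subtype.val e)
      have hm := mul_mem (inv_mem t'.2) t.2
      exact Subtype.ext (inv_mul_eq_one.1 (h.fix_odd _
        ((h.tor_odd hx).of_dvd_nat ((tor A x).orderOf_dvd_natCard hm)) v
        (by rw [mul_smul, e1, inv_smul_smul]) hv1)).symm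
    · have h1 := Nat.card_congr (Equiv.optionSubtypeNe (1 : W))
      rw [Finite.card_option] at h1
      have := (h.torus hx).1
      omega
  obtain ⟨⟨t, ht⟩, e⟩ := hf.2 ⟨⟨w, hw⟩, fun e => hw1 (congrArg Subtype.val e)⟩
  exact ⟨t, ht, congrArg Subtype.val (congrArg Subtype.val e)⟩

/-- `Γ` is transitive on nontrivial vectors. -/
theorem trans_V {v w : V} (hv : v ≠ 1) (hw : w ≠ 1) : ∃ g : Γ, g • v = w := by
  classical
  obtain ⟨x, hx⟩ := h.exists_not_normalizer
  let f : (Γ ⧸ N) × {u : W // u ≠ 1} → {u : V // u ≠ 1} := fun p =>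
    ⟨p.1.out • ((p.2 : W) : V), fun e => p.2.2 (Subtype.ext (smul_one_iff.1 e))⟩
  have hf : Function.Bijective f := by
    rw [Nat.bijective_iff_injective_and_card]
    refine ⟨?_, ?_⟩
    · rintro ⟨p, ⟨⟨a, ha⟩, ha1⟩⟩ ⟨p', ⟨⟨b, hb⟩, hb1⟩⟩ e
      replace e : p.out • a = p'.out • b := congrArg Subtype.val e
      have hmem : p'.out⁻¹ * p.out ∈ N := h.mem_normalizer_of_meet ha
        (fun e1 => ha1 (Subtype.ext e1)) (by rw [mul_smul, e, inv_smul_smul]; exact hb)
      have hpp : p' = p := by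
        rw [← QuotientGroup.out_eq' p, ← QuotientGroup.out_eq' p', QuotientGroup.eq]
        exact hmem
      subst hpp
      obtain rfl : a = b := smul_left_cancel _ e
      rfl
    · have h1 := Nat.card_congr (Equiv.optionSubtypeNe (1 : W))
      have h2 := Nat.card_congr (Equiv.optionSubtypeNe (1 : V))
      rw [Finite.card_option] at h1 h2
      rw [Nat.card_prod, (h.points hx).1]
      refine Nat.add_right_cancel (m := 1) ?_
      rw [h2, ← h.card_V, ← h1]
      ring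
  obtain ⟨⟨p, ⟨a, ha1⟩⟩, e⟩ := hf.2 ⟨v, hv⟩
  obtain ⟨⟨p', ⟨b, hb1⟩⟩, e'⟩ := hf.2 ⟨w, hw⟩
  obtain ⟨t, -, ht⟩ := h.tor_trans_W hx a.2 (fun e1 => ha1 (Subtype.ext e1)) b.2
    fun e1 => hb1 (Subtype.ext e1)
  have e1 : p.out • (a : V) = v := congrArg Subtype.val e
  have e2 : p'.out • (b : V) = w := congrArg Subtype.val e'
  refine ⟨p'.out * t * p.out⁻¹, ?_⟩
  rw [← e1, mul_smul, inv_smul_smul, mul_smul, ht, e2]

/-- `N(A)` is transitive on `A ∖ {1}`. -/
theorem conj_trans {a b : Γ} (ha : a ∈ A) (ha1 : a ≠ 1) (hb : b ∈ A) (hb1 : b ≠ 1) :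
    ∃ t ∈ N, t * a * t⁻¹ = b := by
  classical
  obtain ⟨x, hx⟩ := h.exists_not_normalizer
  let f : (tor A x) → {c : A // c ≠ 1} := fun t =>
    ⟨⟨(t : Γ) * a * (t : Γ)⁻¹, (mem_normalizer_iff.1 (mem_tor.1 t.2).1 a).1 ha⟩,
      fun e => ha1 (conj_eq_one_iff.1 (congrArg Subtype.val e))⟩
  have hf : Function.Bijective f := by
    rw [Nat.bijective_iff_injective_and_card]
    refine ⟨fun t t' e => ?_, ?_⟩
    · have e1 : (t : Γ) * a * (t : Γ)⁻¹ = (t' : Γ) * a * (t' : Γ)⁻¹ :=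
        congrArg Subtype.val (congrArg Subtype.val e)
      have hm := mul_mem (inv_mem t'.2) t.2
      have hc : Commute ((t' : Γ)⁻¹ * t) a := by
        show (t' : Γ)⁻¹ * t * a = a * ((t' : Γ)⁻¹ * t)
        calc (t' : Γ)⁻¹ * t * a = (t' : Γ)⁻¹ * ((t : Γ) * a * (t : Γ)⁻¹) * t := by group
          _ = a * ((t' : Γ)⁻¹ * t) := by rw [e1]; group
      exact Subtype.ext (inv_mul_eq_one.1 (h.odd_inv _ a
        ((h.tor_odd hx).of_dvd_nat ((tor A x).orderOf_dvd_natCard hm)) (h.orderOf_eq ha ha1) hc)).symm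
    · rw [card_ne, h.card_A]
      have := (h.torus hx).1
      omega
  obtain ⟨⟨t, ht⟩, e⟩ := hf.2 ⟨⟨b, hb⟩, fun e => hb1 (congrArg Subtype.val e)⟩
  exact ⟨t, (mem_tor.1 ht).1, congrArg Subtype.val (congrArg Subtype.val e)⟩

/-- The overgroups of `A`. -/
theorem overgroup {Y : Subgroup Γ} (hAY : A ≤ Y) : Y ≤ N ∨ Y = ⊤ := by
  by_cases hYN : Y ≤ N
  · exact Or.inl hYN
  refine Or.inr (top_le_iff.1 ?_)
  obtain ⟨x, hxY, hx⟩ := SetLike.not_le_iff_exists.1 hYN
  obtain ⟨hcT, u, huu, huN, hux, hinv, -⟩ := h.torus hx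
  -- every conjugate of `A` lies in `Y`
  have hconj : ∀ g : Γ, ∀ a ∈ A, g * a * g⁻¹ ∈ Y := by
    intro g a ha
    by_cases hg : g ∈ N
    · exact hAY ((mem_normalizer_iff.1 hg a).1 ha)
    obtain ⟨c, hc, n, hn, rfl⟩ := (h.points hx).2 g hg
    rw [show c * x * n * a * (c * x * n)⁻¹ = c * x * (n * a * n⁻¹) * x⁻¹ * c⁻¹ by group]
    exact Y.mul_mem (Y.mul_mem (Y.mul_mem (Y.mul_mem (hAY hc) hxY)
      (hAY ((mem_normalizer_iff.1 hn a).1 ha))) (Y.inv_mem hxY)) (Y.inv_mem (hAY hc))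
  have hinvY : ∀ b : Γ, b * b = 1 → b ∈ Y := fun b hb => by
    obtain ⟨g, hg⟩ := h.exists_conj_mem (t := b) (k := 1) (by rw [pow_one, pow_two, hb])
    have := hconj g _ hg
    rwa [show g * (g⁻¹ * b * g) * g⁻¹ = b by group] at this
  have hT : ∀ t ∈ (tor A x), t ∈ Y := fun t ht => by
    have hut : u * t * (u * t) = 1 := by
      rw [← mul_assoc, hinv t ht, inv_mul_cancel]
    have := Y.mul_mem (hinvY u huu) (hinvY _ hut)
    rwa [← mul_assoc, huu, one_mul] at this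
  have hN : N ≤ Y := fun n hn => by
    obtain ⟨a, ha, t, ht, rfl⟩ := h.exists_mul_tor hx hn
    exact Y.mul_mem (hAY ha) (hT t ht)
  intro y _
  by_cases hy : y ∈ N
  · exact hN hy
  obtain ⟨a, ha, n, hn, rfl⟩ := (h.points hx).2 y hy
  exact Y.mul_mem (Y.mul_mem (hAY ha) hxY) (hN hn)

/-- A subgroup of odd order stabilising `W` stabilises a second point. -/
theorem exists_le_tor {Y : Subgroup Γ} (hY : Odd (Nat.card Y)) (hYN : Y ≤ N) :
    ∃ x : Γ, x ∉ N ∧ Y ≤ (tor A x) := by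
  obtain ⟨x, hx⟩ := h.exists_not_normalizer
  by_cases hY1 : Y ≤ (tor A x)
  · exact ⟨x, hx, hY1⟩
  obtain ⟨y₀, hy₀, hy₀x⟩ := SetLike.not_le_iff_exists.1 hY1
  obtain ⟨a, ha, t, ht, hy₀e⟩ := h.exists_mul_tor hx (hYN hy₀)
  have hyodd : Odd (orderOf y₀) := hY.of_dvd_nat (Y.orderOf_dvd_natCard hy₀)
  have ht1 : t ≠ 1 := fun e => hy₀x (by
    rw [hy₀e, e, mul_one] at hyodd ⊢
    have : a = 1 := eq_one_of_odd_of_two_pow hyodd (k := 1)
      (by rw [pow_one, pow_two]; exact h.invA a ha)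
    rw [this]; exact one_mem _)
  have htN := ((mem_tor (A := A)).1 ht).1
  have htodd : Odd (orderOf t) := (h.tor_odd hx).of_dvd_nat ((tor A x).orderOf_dvd_natCard ht)
  -- `y₀` fixes the point `c x W` with `[c, t] = a`
  let f : A → A := fun c => ⟨(c : Γ) * (t * c * t⁻¹),
    A.mul_mem c.2 ((mem_normalizer_iff.1 htN _).1 c.2)⟩
  have hf : Function.Injective f := by
    intro c d e
    have e1 : (c : Γ) * (t * c * t⁻¹) = d * (t * d * t⁻¹) := congrArg Subtype.val e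
    by_contra hne
    have hm : (d : Γ)⁻¹ * c ∈ A := mul_mem (inv_mem d.2) c.2
    refine ht1 (h.odd_inv t _ htodd (h.orderOf_eq hm fun e2 => hne
      (Subtype.ext (inv_mul_eq_one.1 e2).symm)) ?_)
    have hi : ((d : Γ)⁻¹ * c)⁻¹ = (d : Γ)⁻¹ * c := inv_eq_of_mul_eq_one_right (h.invA _ hm)
    show t * ((d : Γ)⁻¹ * c) = (d : Γ)⁻¹ * c * t
    have e3 : t * ((d : Γ)⁻¹ * c) * t⁻¹ = ((d : Γ)⁻¹ * c)⁻¹ := by
      calc t * ((d : Γ)⁻¹ * c) * t⁻¹ = (t * d * t⁻¹)⁻¹ * (t * c * t⁻¹) := by group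
        _ = (t * d * t⁻¹)⁻¹ * ((c : Γ)⁻¹ * ((c : Γ) * (t * c * t⁻¹))) := by group
        _ = (t * d * t⁻¹)⁻¹ * ((c : Γ)⁻¹ * ((d : Γ) * (t * d * t⁻¹))) := by rw [e1]
        _ = (t * d * t⁻¹)⁻¹ * ((t * d * t⁻¹) * ((c : Γ)⁻¹ * d)) := by
          rw [(h.commA (mul_mem (inv_mem c.2) d.2)
            ((mem_normalizer_iff.1 htN _).1 d.2)).symm.eq, ← mul_assoc (c : Γ)⁻¹]
        _ = ((d : Γ)⁻¹ * c)⁻¹ := by group
    rw [hi] at e3
    exact mul_inv_eq_iff_eq_mul.1 e3
  obtain ⟨c, hc⟩ := Finite.surjective_of_injective hf ⟨a, ha⟩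
  have hc' : (c : Γ) * (t * c * t⁻¹) = a := congrArg Subtype.val hc
  have hcx : (c : Γ) * x ∉ N := fun hm => hx (((N).mul_mem_cancel_left (le_normalizer c.2)).1 hm)
  refine ⟨c * x, hcx, ?_⟩
  have hy₀c : y₀ ∈ (tor A (c * x)) := by
    refine (mem_tor (A := A)).2 ⟨hYN hy₀, ?_⟩
    have hci : (c : Γ)⁻¹ = c := inv_eq_of_mul_eq_one_right (h.invA _ c.2)
    have hcc : c.1 * (a * (t * c.1 * t⁻¹)) = 1 := by
      rw [← hc', mul_assoc (c : Γ) (t * c.1 * t⁻¹) _,
        h.invA _ ((mem_normalizer_iff.1 htN _).1 c.2), mul_one, h.invA _ c.2]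
    rw [show ((c : Γ) * x)⁻¹ * y₀ * (c * x) =
        x⁻¹ * ((c : Γ)⁻¹ * (a * (t * c * t⁻¹)) * t) * x by rw [hy₀e]; group,
      hci, hcc, one_mul]
    exact ((mem_tor (A := A)).1 ht).2
  intro y hy
  refine (mem_tor (A := A)).2 ⟨hYN hy, ?_⟩
  by_contra hmove
  -- `y₀` also fixes the point `y c x W`
  have hz : y * (c * x) ∉ N := fun hm => hcx (((N).mul_mem_cancel_left (hYN hy)).1 hm)
  have hne : y₀ ≠ 1 := fun e => hy₀x (e ▸ one_mem _)
  have hcomm : Commute y y₀ := by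
    obtain ⟨-, u, huu, -, -, hinv, -⟩ := h.torus hx
    obtain ⟨b, hb, s, hs, hys⟩ := h.exists_mul_tor hx (hYN hy)
    have hst : s * t = t * s := by
      have h1 := hinv _ (mul_mem hs ht)
      have h2 : u * (s * t) * u = s⁻¹ * t⁻¹ := by
        rw [← hinv s hs, ← hinv t ht]
        simp only [mul_assoc, ← mul_assoc u u, huu, one_mul]
      rw [h2] at h1
      have h3 := congrArg (fun z : Γ => z⁻¹) h1
      simp only [mul_inv_rev, inv_inv] at h3
      exact h3.symm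
    -- the commutator lies in `A` and in the odd group `Y`
    have hm : y * y₀ * y⁻¹ * y₀⁻¹ ∈ A := by
      have h1 : y * y₀ * y⁻¹ * y₀⁻¹ =
          b * (s * a * s⁻¹) * (s * t * s⁻¹ * b⁻¹ * (s * t * s⁻¹)⁻¹) *
            (s * t * s⁻¹ * t⁻¹) * a⁻¹ := by
        rw [hys, hy₀e]; group
      have hsN := ((mem_tor (A := A)).1 hs).1
      rw [h1, hst, mul_inv_cancel_right, mul_inv_cancel, mul_one]
      exact A.mul_mem (A.mul_mem (A.mul_mem hb ((mem_normalizer_iff.1 hsN a).1 ha))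
        ((mem_normalizer_iff.1 htN _).1 (A.inv_mem hb))) (A.inv_mem ha)
    have h1 : y * y₀ * y⁻¹ * y₀⁻¹ = 1 := eq_one_of_odd_of_two_pow (hY.of_dvd_nat
      (Y.orderOf_dvd_natCard (Y.mul_mem (Y.mul_mem (Y.mul_mem hy hy₀) (Y.inv_mem hy))
        (Y.inv_mem hy₀)))) (k := 1) (by rw [pow_one, pow_two]; exact h.invA _ hm)
    rw [mul_inv_eq_one, mul_inv_eq_iff_eq_mul] at h1
    exact h1
  refine hne (h.eq_one_of_three hcx hz ?_ hy₀c ((mem_tor (A := A)).2 ⟨hYN hy₀, ?_⟩))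
  · rwa [← mul_assoc]
  · have := ((mem_tor (A := A)).1 hy₀c).2
    rwa [show (y * (↑c * x))⁻¹ * y₀ * (y * (↑c * x)) = (↑c * x)⁻¹ * (y⁻¹ * (y₀ * y)) * (↑c * x) by
      group, ← hcomm.eq, inv_mul_cancel_left]

end Off

end Module

end Cfsg.Agent.CIT
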