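import Cfsg.Agent.Lib.CIT.Defs
import Cfsg.Agent.Lib.CIT.Module
import Cfsg.Agent.Lib.Pearl.SelfCentralizing
import Cfsg.Agent.Lib.PGroup.MaximalClassTwo
import Cfsg.Agent.Lib.PGroup.CyclicMaximal
import Cfsg.Agent.Lib.TwoGroups.QuasiDihedral
import Cfsg.Agent.S3225
import Cfsg.Agent.S0111

/-!
# Simple CIT groups: the small pairs

`exists_dihedral`: with `q = 2` the Sylow 2-subgroups are dihedral.
`false_of_four`: with `q = 4` the group `P` is a Sylow 2-subgroup.
-/

set_option autoImplicit false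
set_option linter.style.haveILetI false

namespace Cfsg.Agent.CIT

open Subgroup
open scoped commutatorElement

variable {G : Type*} [Group G]

/-- A nonabelian simple group has no subgroup of index two. -/
theorem index_ne_two [Finite G] [IsSimpleGroup G] (hne : ∃ a b : G, a * b ≠ b * a)
    (H : Subgroup G) : H.index ≠ 2 := by
  intro h
  obtain ⟨a, b, hab⟩ := hne
  rcases (Subgroup.normal_of_index_eq_two h).eq_bot_or_eq_top with hb | ht
  · rw [hb, Subgroup.index_bot] at h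
    haveI : IsCyclic G := isCyclic_of_prime_card (p := 2) h
    exact hab (IsCyclic.commGroup.mul_comm a b)
  · rw [ht, Subgroup.index_top] at h
    omega

theorem orderOf_two_of_mul_self {x : G} (h : x * x = 1) (hne : x ≠ 1) : orderOf x = 2 :=
  orderOf_eq_prime (by rw [pow_two, h]) hne

theorem elem_comm {p : ℕ} {E : Subgroup G} (hE : Cfsg.IsElementaryAbelian p E) {a b : G}
    (ha : a ∈ E) (hb : b ∈ E) : a * b = b * a := by
  haveI := hE.1
  exact congrArg Subtype.val (mul_comm' (⟨a, ha⟩ : E) ⟨b, hb⟩)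

theorem elem_mul_self {E : Subgroup G} (hE : Cfsg.IsElementaryAbelian 2 E) {a : G} (ha : a ∈ E) :
    a * a = 1 := by rw [← pow_two]; exact hE.2 a ha

theorem mem_centralizer_iff_commute {x y : G} : y ∈ centralizer ({x} : Set G) ↔ Commute y x := by
  rw [mem_centralizer_singleton_iff]; rfl

/-- A finite subgroup mapped into one of the same order is mapped onto it. -/
theorem conj_inv_mem [Finite G] {g : G} {X Y : Subgroup G} (hc : Nat.card X = Nat.card Y)
    (h : ∀ v ∈ X, g * v * g⁻¹ ∈ Y) {y : G} (hy : y ∈ Y) : g⁻¹ * y * g ∈ X := by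
  have heq : X.map (MulAut.conj g).toMonoidHom = Y := by
    refine eq_of_le_of_card_ge ?_ ?_
    · rintro _ ⟨v, hv, rfl⟩
      exact h v hv
    · rw [Subgroup.card_map_of_injective (MulAut.conj g).injective, hc]
  rw [← heq] at hy
  obtain ⟨v, hv, rfl⟩ := hy
  simpa [mul_assoc] using hv

theorem mem_normalizer_of_conj_mem [Finite G] {g : G} {X : Subgroup G}
    (h : ∀ v ∈ X, g * v * g⁻¹ ∈ X) : g ∈ normalizer (X : Set G) := by
  refine mem_normalizer_iff.2 fun n => ⟨h n, fun hn => ?_⟩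
  have := conj_inv_mem rfl h hn
  rwa [show g⁻¹ * (g * n * g⁻¹) * g = n by group] at this

/-- A subgroup inside the union of two subgroups lies in one of them. -/
theorem le_or_le_of_cases {X Y Z : Subgroup G} (h : ∀ x ∈ X, x ∈ Y ∨ x ∈ Z) : X ≤ Y ∨ X ≤ Z := by
  by_contra hc
  rw [not_or, SetLike.not_le_iff_exists, SetLike.not_le_iff_exists] at hc
  obtain ⟨⟨a, haX, haY⟩, ⟨b, hbX, hbZ⟩⟩ := hc
  have ha := (h a haX).resolve_left haY
  have hb := (h b hbX).resolve_right hbZ
  rcases h (a * b) (mul_mem haX hbX) with h' | h'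
  · exact haY ((mul_mem_cancel_right hb).1 h')
  · exact hbZ ((mul_mem_cancel_left ha).1 h')

/-- A 2-element commuting with a nontrivial element of odd order is trivial. -/
theorem eq_one_of_commute_two [Finite G] (hG : IsCIT G) {u t : G} (ht : Odd (orderOf t))
    (ht1 : t ≠ 1) (hut : Commute u t) {k : ℕ} (hu : u ^ 2 ^ k = 1) : u = 1 := by
  induction k generalizing u with
  | zero => simpa using hu
  | succ k ih =>
    have h2 : u ^ 2 = 1 := ih (hut.pow_left 2) (by rw [← pow_mul, ← pow_succ', hu])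
    by_contra hne
    exact ht1 (eq_one_of_commute hG ht (orderOf_eq_prime h2 hne) hut.symm)

/-! ### `q = 2` -/

/-- With `q = 2` a Sylow 2-subgroup is dihedral. -/
theorem exists_dihedral [Finite G] [IsSimpleGroup G] (hG : IsCIT G)
    (hne : ∃ a b : G, a * b ≠ b * a) {P V A : Subgroup G} (h : Pair 2 P V A) :
    ∃ (S : Sylow 2 G) (n : ℕ), 2 ≤ n ∧ Nonempty ((S : Subgroup G) ≃* DihedralGroup n) := by
  haveI : Fact (Nat.Prime 2) := ⟨Nat.prime_two⟩
  obtain ⟨S, hPS⟩ := h.P_two.exists_le_sylow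
  have hVS : V ≤ (S : Subgroup G) := h.leV.trans hPS
  obtain ⟨n, hn⟩ := IsPGroup.iff_card.1 S.isPGroup'
  have hn3 : 3 ≤ n := by
    have h1 := Subgroup.card_le_of_le hPS
    rw [hn, h.cardP] at h1
    exact (Nat.pow_le_pow_iff_right (by norm_num)).1 h1
  set E : Subgroup ↥(S : Subgroup G) := V.subgroupOf (S : Subgroup G) with hEdef
  have hE : Nat.card E = 2 ^ 2 :=
    (Nat.card_congr (Subgroup.subgroupOfEquivOfLe hVS).toEquiv).trans h.cardV
  have hexp : ∀ x ∈ E, x ^ 2 = 1 := fun x hx => Subtype.ext (by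
    rw [SubgroupClass.coe_pow]; exact h.elemV.2 _ hx)
  have hC : centralizer (E : Set ↥(S : Subgroup G)) ≤ E := fun x hx => by
    have hxC : (x : G) ∈ centralizer (V : Set G) := mem_centralizer_iff.2 fun v hv =>
      congrArg Subtype.val (mem_centralizer_iff.1 hx ⟨v, hVS hv⟩ hv)
    rw [h.centV] at hxC
    exact hxC
  obtain ⟨-, x, -, hx⟩ := Pearl.exists_good_of_sq hn3 hn hE hexp hC
  have hna : ¬ IsMulCommutative ↥(S : Subgroup G) := fun hcomm => by
    have htop : (⊤ : Subgroup ↥(S : Subgroup G)) ≤ E := fun g _ =>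
      hC (mem_centralizer_iff.2 fun e _ => by haveI := hcomm; exact mul_comm' e g)
    have h1 := Subgroup.card_le_of_le htop
    rw [card_top, hn, hE] at h1
    have := (Nat.pow_le_pow_iff_right (by norm_num)).1 h1
    omega
  have hc := PGroup.index_commutator_eq_four_of_centralizer hn hna x (by rw [hx]; norm_num)
  obtain ⟨m, rfl⟩ : ∃ m, n = m + 1 := ⟨n - 1, by omega⟩
  have hm : 2 ≤ m := by omega
  obtain ⟨a, b, ha, hb, -, hrel⟩ := PGroup.two_group_commutator_index_four hm hn hc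
  rcases hrel with ⟨hb2, hab⟩ | ⟨hb2, hab⟩ | ⟨hm3, hb2, hab⟩
  · exact ⟨S, 2 ^ m, le_trans (le_of_eq (pow_one 2).symm) (Nat.pow_le_pow_right two_pos (by omega)),
      PGroup.dihedralEquivOfRel ha hb hb2 hab (by rw [hn, pow_succ'])⟩
  · -- quaternion: all involutions are in `⟨a⟩`
    exfalso
    have hEa : E ≤ zpowers a := fun e he => by
      obtain ⟨i, rfl | rfl⟩ := PGroup.two_group_elements hn ha hb e
      · exact ⟨i, rfl⟩
      · exfalso
        have h1 := hexp _ he
        have h2 : (b * a ^ i) ^ 2 = b * a ^ i * b⁻¹ * b ^ 2 * a ^ i := by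
          rw [pow_two (b * a ^ i), pow_two b]; group
        rw [h2, ← conj_zpow, hab, hb2, ← zpow_natCast, ← zpow_neg_one, ← zpow_mul, ← zpow_add,
          ← zpow_add, ← orderOf_dvd_iff_zpow_eq_one, ha] at h1
        push_cast at h1
        rw [show -1 * i + 2 ^ (m - 1) + i = ((2 ^ (m - 1) : ℕ) : ℤ) by push_cast; ring] at h1
        have h3 : 2 ^ m ∣ 2 ^ (m - 1) := by exact_mod_cast h1
        have := (Nat.pow_dvd_pow_iff_le_right (by norm_num)).1 h3
        omega
    haveI : IsCyclic (zpowers a) := Subgroup.isCyclic_zpowers a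
    haveI : IsCyclic E := Subgroup.isCyclic_of_le hEa
    obtain ⟨g, hg⟩ := IsCyclic.exists_ofOrder_eq_natCard (α := E)
    have h4 : orderOf g ∣ 2 := orderOf_dvd_of_pow_eq_one (Subtype.ext (by
      rw [SubgroupClass.coe_pow, hexp _ g.2, OneMemClass.coe_one]))
    rw [hg, hE] at h4
    norm_num at h4
  · -- semidihedral
    exfalso
    have hb1 : b ≠ 1 := fun hb1 => hb (hb1 ▸ one_mem _)
    obtain ⟨x, y, k, hk⟩ := TwoGroups.exists_qdGen (S := ↥(S : Subgroup G))
      ⟨m, hm3, hn, a, b, ha, orderOf_eq_prime hb2 hb1, hab⟩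
    clear ha hb hb2 hab hb1
    have hd2 : 2 ∣ 4 * 2 ^ k := ⟨2 * 2 ^ k, by ring⟩
    set M₀ := hk.part 2 hd2 0 with hM₀
    set M := M₀.map (S : Subgroup G).subtype with hM
    have hmemM : ∀ s : ↥(S : Subgroup G), (s : G) ∈ M ↔ s ∈ M₀ := fun s =>
      Subgroup.mem_map_iff_mem (Subgroup.subtype_injective _)
    have hMS : M ≤ (S : Subgroup G) := Subgroup.map_subtype_le _
    have hMi : M.relIndex (S : Subgroup G) = 2 := by
      rw [Subgroup.relIndex, Subgroup.subgroupOf, hM,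
        Subgroup.comap_map_eq_self_of_injective (Subgroup.subtype_injective _)]
      have h1 := Subgroup.card_mul_index M₀
      rw [hM₀, hk.card_part hd2, hk.card] at h1
      have h8 : 8 * 2 ^ k / 2 = 4 * 2 ^ k := by
        rw [show 8 * 2 ^ k = 4 * 2 ^ k * 2 by ring, Nat.mul_div_cancel _ two_pos]
      rw [h8] at h1
      refine Nat.eq_of_mul_eq_mul_left (show 0 < 2 * (4 * 2 ^ k) by positivity) ?_
      rw [hM₀, h1]; ring
    have hord : ∀ s ∈ (S : Subgroup G), s ∉ M → 2 ^ (2 - 1) < orderOf s := fun s hs hsM => by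
      have hs2 : (⟨s, hs⟩ : ↥(S : Subgroup G)) ^ 2 ≠ 1 := fun h2 => by
        refine hsM ((hmemM ⟨s, hs⟩).2 ?_)
        obtain ⟨i, hi | hi⟩ := hk.exists_form ⟨s, hs⟩
        · rw [hi, hk.x_sq_eq_one_iff] at h2
          rw [hi, hM₀, hk.x_mem_part hd2]
          exact dvd_trans ⟨2 * 2 ^ k, by push_cast; ring⟩ h2
        · rw [hi, hk.xy_sq_eq_one_iff] at h2
          rw [hi, hM₀, hk.xy_mem_part hd2, sub_zero]
          exact h2
      have hs2' : s ^ 2 ≠ 1 := fun h' => hs2 (Subtype.ext (by rw [SubgroupClass.coe_pow]; exact h'))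
      by_contra hle
      simp only [pow_one, Nat.reduceSub, not_lt] at hle
      refine hs2' (orderOf_dvd_iff_pow_eq_one.1 ?_)
      have := orderOf_pos s
      interval_cases (orderOf s) <;> norm_num
    set x₀ : ↥(S : Subgroup G) := x ^ (1 : ℤ) * y with hx₀
    have hx₀2 : x₀ ^ 2 = x ^ ((4 : ℤ) * 2 ^ k) := by rw [hx₀, hk.xy_sq, mul_one]
    have hx₀ord : orderOf (x₀ : G) = 2 ^ 2 := by
      rw [orderOf_coe]
      refine orderOf_eq_prime_pow (p := 2) (n := 1) ?_ (hk.xy_pow_four 1)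
      rw [pow_one, hk.xy_sq_eq_one_iff]
      norm_num
    obtain ⟨g, hg⟩ := S3225.result (even_iff_two_dvd.2 (two_dvd_card hne)) (index_ne_two hne) S M hMS
      hMi 2 (by norm_num) hord (x₀ : G) x₀.2 hx₀ord
    obtain ⟨w, hwM, hw⟩ := hg
    simp only [Subgroup.coe_subtype] at hw
    have hword : orderOf w = 2 ^ 2 := by
      rw [← orderOf_coe, hw, ← hx₀ord]
      exact (orderOf_injective (MulAut.conj g).toMonoidHom (MulAut.conj g).injective _)
    have hw2 : w ^ 2 ≠ 1 := fun h2 => by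
      have := orderOf_le_of_pow_eq_one two_pos h2
      omega
    have hw4 : w ^ 4 = 1 := by
      rw [show (4 : ℕ) = orderOf w by rw [hword]; norm_num, pow_orderOf_eq_one]
    obtain ⟨i, hi⟩ : ∃ i : ℤ, w = x ^ i := by
      obtain ⟨i, rfl | rfl⟩ := hk.exists_form w
      · exact ⟨i, rfl⟩
      · rw [SetLike.mem_coe, hM₀, hk.xy_mem_part hd2, sub_zero] at hwM
        exact absurd ((hk.xy_sq_eq_one_iff i).2 hwM) hw2
    subst hi
    rw [hk.x_pow_four_eq_one_iff] at hw4
    rw [ne_eq, hk.x_sq_eq_one_iff] at hw2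
    obtain ⟨c, rfl⟩ := hw4
    obtain ⟨d, rfl⟩ : ∃ d, c = 2 * d + 1 := by
      rcases Int.even_or_odd c with ⟨d, rfl⟩ | hc'
      · exact absurd ⟨d, by ring⟩ hw2
      · exact hc'
    have hwz : (x ^ ((2 : ℤ) * 2 ^ k * (2 * d + 1))) ^ 2 = x ^ ((4 : ℤ) * 2 ^ k) := by
      rw [pow_two, ← zpow_add, hk.zpow_eq_iff]
      exact ⟨d, by ring⟩
    set z : ↥(S : Subgroup G) := x ^ ((4 : ℤ) * 2 ^ k) with hz
    have hzne : z ≠ 1 := by
      rw [hz, ne_eq, hk.zpow_eq_one_iff]
      intro hd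
      have := Int.le_of_dvd (by positivity) hd
      have : (0 : ℤ) < 2 ^ k := by positivity
      omega
    have hz2 : orderOf (z : G) = 2 := by
      rw [orderOf_coe]
      exact orderOf_eq_prime (by rw [hz, hk.x_sq_eq_one_iff]) hzne
    have hzc : z ∈ center ↥(S : Subgroup G) := (hk.x_mem_center_iff _).2 dvd_rfl
    have hgz : g * (z : G) * g⁻¹ = z := by
      have h1 : ((x ^ ((2 : ℤ) * 2 ^ k * (2 * d + 1)) : ↥(S : Subgroup G)) : G) ^ 2 =
          g * (x₀ : G) ^ 2 * g⁻¹ := by rw [hw, conj_pow]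
      rw [← SubgroupClass.coe_pow, ← SubgroupClass.coe_pow, hwz, hx₀2] at h1
      exact h1.symm
    have hCS : centralizer ({(z : G)} : Set G) = (S : Subgroup G) := by
      refine S.is_maximal' (hG _ hz2) fun s hs => mem_centralizer_singleton_iff.2 ?_
      exact congrArg Subtype.val (mem_center_iff.1 hzc ⟨s, hs⟩)
    have hgS : g ∈ (S : Subgroup G) := by
      rw [← hCS, mem_centralizer_singleton_iff]
      exact mul_inv_eq_iff_eq_mul.1 hgz
    refine hk.zpow_conj_ne (⟨g, hgS⟩ : ↥(S : Subgroup G))⁻¹ (i := 2 * 2 ^ k * (2 * d + 1)) (j := 1) ?_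
    refine Subtype.ext ?_
    rw [Subgroup.coe_mul, Subgroup.coe_mul, hw, ← hx₀]
    simp [mul_assoc]

/-! ### The two sides are permuted by `N(P)` -/

theorem Pair.mem_cases [Finite G] {q : ℕ} {P V A : Subgroup G} (h : Pair q P V A) {g : G}
    (hg : g ∈ normalizer (P : Set G)) {X : Subgroup G} (hX : Cfsg.IsElementaryAbelian 2 X)
    (hXP : X ≤ P) : (∀ v ∈ X, g * v * g⁻¹ ∈ V) ∨ (∀ v ∈ X, g * v * g⁻¹ ∈ A) := by
  have h1 : X ≤ V.comap (MulAut.conj g).toMonoidHom ∨ X ≤ A.comap (MulAut.conj g).toMonoidHom := by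
    refine le_or_le_of_cases fun v hv => ?_
    refine h.sq_cases _ ((mem_normalizer_iff.1 hg v).1 (hXP hv)) ?_
    rw [← map_mul, elem_mul_self hX hv, map_one]
  exact h1.imp (fun h1 v hv => h1 hv) fun h1 v hv => h1 hv

theorem Pair.not_le [Finite G] {q : ℕ} {P V A : Subgroup G} (h : Pair q P V A) : ¬ V ≤ A := fun hle =>
  h.ne (eq_of_le_of_card_ge hle (by rw [h.cardV, h.cardA]))

theorem Pair.fixes_A [Finite G] {q : ℕ} {P V A : Subgroup G} (h : Pair q P V A) {g : G}
    (hg : g ∈ normalizer (P : Set G)) (hgV : g ∈ normalizer (V : Set G)) :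
    g ∈ normalizer (A : Set G) := by
  refine mem_normalizer_of_conj_mem ((h.mem_cases hg h.elemA h.leA).resolve_left fun h1 => ?_)
  refine h.not_le fun v hv => ?_
  have h2 := conj_inv_mem (h.cardA.trans h.cardV.symm) h1 ((mem_normalizer_iff.1 hgV v).1 hv)
  rwa [show g⁻¹ * (g * v * g⁻¹) * g = v by group] at h2

theorem Pair.swaps [Finite G] {q : ℕ} {P V A : Subgroup G} (h : Pair q P V A) {g : G}
    (hg : g ∈ normalizer (P : Set G)) (hgV : g ∉ normalizer (V : Set G)) :
    (∀ v ∈ V, g * v * g⁻¹ ∈ A) ∧ ∀ a ∈ A, g * a * g⁻¹ ∈ V := by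
  refine ⟨(h.mem_cases hg h.elemV h.leV).resolve_left fun h1 => hgV (mem_normalizer_of_conj_mem h1),
    (h.mem_cases hg h.elemA h.leA).resolve_right fun h1 => hgV ?_⟩
  exact h.swap.fixes_A hg (mem_normalizer_of_conj_mem h1)

theorem Pair.mul_mem_of_swaps [Finite G] {q : ℕ} {P V A : Subgroup G} (h : Pair q P V A) {g k : G}
    (hg : g ∈ normalizer (P : Set G)) (hgV : g ∉ normalizer (V : Set G))
    (hk : k ∈ normalizer (P : Set G)) (hkV : k ∉ normalizer (V : Set G)) :
    g * k ∈ normalizer (V : Set G) :=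
  mem_normalizer_of_conj_mem fun v hv => by
    have := (h.swaps hg hgV).2 _ ((h.swaps hk hkV).1 v hv)
    rwa [show g * (k * v * k⁻¹) * g⁻¹ = g * k * v * (g * k)⁻¹ by group] at this

theorem Pair.inf_central {q : ℕ} {P V A : Subgroup G} (h : Pair q P V A) {w x : G}
    (hw : w ∈ V ⊓ A) (hx : x ∈ P) : Commute w x := by
  obtain ⟨v, hv, a, ha, rfl⟩ := h.eq_mul x hx
  exact Commute.mul_right (elem_comm h.elemV hw.1 hv) (elem_comm h.elemA hw.2 ha)

theorem Pair.mul_self_mem {q : ℕ} {P V A : Subgroup G} (h : Pair q P V A) {x : G} (hx : x ∈ P) :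
    x * x ∈ V ⊓ A := by
  obtain ⟨v, hv, a, ha, rfl⟩ := h.eq_mul x hx
  have hai : a⁻¹ = a := inv_eq_of_mul_eq_one_right (elem_mul_self h.elemA ha)
  have hvi : v⁻¹ = v := inv_eq_of_mul_eq_one_right (elem_mul_self h.elemV hv)
  constructor
  · have h1 := mul_mem hv ((mem_normalizer_iff.1 (h.normV (h.leA ha)) v).1 hv)
    rw [hai] at h1
    simpa [mul_assoc] using h1
  · have h1 := mul_mem ((mem_normalizer_iff.1 (h.normA (h.leV hv)) a).1 ha) ha
    rw [hvi] at h1
    simpa [mul_assoc] using h1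

/-! ### `q = 4` -/

section Four

variable [Finite G] {P V A : Subgroup G} (h : Pair 4 P V A)
include h

/-- A 2-group over `P` normalising `P` and `V` is `P`. -/
theorem le_P_of_two {Q : Subgroup G} (hQ : IsPGroup 2 Q) (hPQ : P ≤ Q)
    (hQP : Q ≤ normalizer (P : Set G)) (hQV : Q ≤ normalizer (V : Set G)) : Q ≤ P := by
  haveI : Fact (Nat.Prime 2) := ⟨Nat.prime_two⟩
  obtain ⟨n, hn⟩ := IsPGroup.iff_card.1 hQ
  have h1 := Subgroup.card_dvd_of_le (le_inf hQV hQP)
  rw [hn, h.cardBV] at h1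
  have h2 : n ≤ 6 := by
    by_contra hlt
    have h7 : 2 ^ 7 ∣ 4 ^ 3 * (4 - 1) := (pow_dvd_pow 2 (by omega : 7 ≤ n)).trans h1
    norm_num at h7
  refine (eq_of_le_of_card_ge hPQ ?_).ge
  rw [hn, h.cardP]
  exact (Nat.pow_le_pow_right two_pos h2).trans (by norm_num)

/-- An element of a 2-group over `P` in `N(P)` that fixes `V` lies in `P`. -/
theorem mem_P_of_fixes {Q : Subgroup G} (hQ : IsPGroup 2 Q) (hPQ : P ≤ Q)
    (hQP : Q ≤ normalizer (P : Set G)) {u : G} (hu : u ∈ Q) (huV : u ∈ normalizer (V : Set G)) :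
    u ∈ P :=
  le_P_of_two h (Q := Q ⊓ normalizer (V : Set G)) (hQ.to_le inf_le_left) (le_inf hPQ h.normV)
    (inf_le_left.trans hQP) inf_le_right ⟨hu, huV⟩

/-- An involution in `N(P)` that interchanges `V` and `A` and inverts an element of order three. -/
theorem exists_swapper (hG : IsCIT G) (hns : ∀ S : Sylow 2 G, (S : Subgroup G) ≠ P) :
    ∃ e t : G, e * e = 1 ∧ e ≠ 1 ∧ e ∈ normalizer (P : Set G) ∧ e ∉ normalizer (V : Set G) ∧
      orderOf t = 3 ∧ t ∈ normalizer (V : Set G) ∧ t ∈ normalizer (A : Set G) ∧ e * t * e⁻¹ = t⁻¹ := by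
  haveI : Fact (Nat.Prime 2) := ⟨Nat.prime_two⟩
  haveI : Fact (Nat.Prime 3) := ⟨Nat.prime_three⟩
  obtain ⟨S, hPS⟩ := h.P_two.exists_le_sylow
  obtain ⟨y, hyS, hyP, hyN⟩ := exists_normalizing S.isPGroup' hPS fun hle => hns S (le_antisymm hle hPS)
  have hyV : y ∉ normalizer (V : Set G) := fun hyV => by
    refine hyP (mem_P_of_fixes h (Q := (S : Subgroup G) ⊓ normalizer (P : Set G))
      (S.isPGroup'.to_le inf_le_left) (le_inf hPS le_normalizer) inf_le_right ⟨hyS, hyN⟩ hyV)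
  set B : Subgroup G := normalizer (V : Set G) ⊓ normalizer (P : Set G) with hB
  have hcB : Nat.card B = 192 := by rw [hB, h.cardBV]; norm_num
  obtain ⟨t, ht⟩ := exists_prime_orderOf_dvd_card' (G := B) 3 (by rw [hcB]; norm_num)
  have htA : (t : G) ∈ normalizer (A : Set G) := h.fixes_A t.2.2 t.2.1
  have ht' : y * (t : G) * y⁻¹ ∈ B := by
    refine ⟨mem_normalizer_of_conj_mem fun v hv => ?_,
      (normalizer (P : Set G)).mul_mem ((normalizer (P : Set G)).mul_mem hyN t.2.2)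
        ((normalizer (P : Set G)).inv_mem hyN)⟩
    have h1 := conj_inv_mem (h.cardA.trans h.cardV.symm) (h.swaps hyN hyV).2 hv
    have h2 := (h.swaps hyN hyV).2 _ ((mem_normalizer_iff.1 htA _).1 h1)
    rwa [show y * ((t : G) * (y⁻¹ * v * y) * (t : G)⁻¹) * y⁻¹ =
      y * (t : G) * y⁻¹ * v * (y * (t : G) * y⁻¹)⁻¹ by group] at h2
  set t' : B := ⟨y * (t : G) * y⁻¹, ht'⟩ with ht'def
  have hot' : orderOf t' = 3 := by
    rw [← orderOf_coe, ht'def, ← ht, ← orderOf_coe]
    exact orderOf_injective (MulAut.conj y).toMonoidHom (MulAut.conj y).injective _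
  have hsyl : ∀ u : B, orderOf u = 3 → ∃ R : Sylow 3 B, (R : Subgroup B) = zpowers u := fun u hu => by
    have hp : IsPGroup 3 (zpowers u) := IsPGroup.of_card (n := 1) (by rw [Nat.card_zpowers, hu, pow_one])
    obtain ⟨R, hR⟩ := hp.exists_le_sylow
    refine ⟨R, (eq_of_le_of_card_ge hR ?_).symm⟩
    obtain ⟨j, hj⟩ := IsPGroup.iff_card.1 R.isPGroup'
    have h1 := Subgroup.card_subgroup_dvd_card (R : Subgroup B)
    rw [hj, hcB] at h1
    have h2 : j ≤ 1 := by
      by_contra hlt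
      have h9 : 3 ^ 2 ∣ 192 := (pow_dvd_pow 3 (by omega : 2 ≤ j)).trans h1
      norm_num at h9
    rw [hj, Nat.card_zpowers, hu]
    exact (Nat.pow_le_pow_right (by norm_num) h2).trans (by norm_num)
  obtain ⟨R, hR⟩ := hsyl t ht
  obtain ⟨R', hR'⟩ := hsyl t' hot'
  obtain ⟨b, hb⟩ := MulAction.exists_smul_eq B R' R
  have hbt : b * t' * b⁻¹ ∈ zpowers t := by
    rw [← hR, ← hb, Sylow.coe_subgroup_smul, hR']
    exact Subgroup.smul_mem_pointwise_smul t' (MulAut.conj b) (zpowers t') (mem_zpowers t')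
  set g : G := (b : G) * y with hgdef
  have hgN : g ∈ normalizer (P : Set G) := mul_mem b.2.2 hyN
  have hgV : g ∉ normalizer (V : Set G) := fun hg => hyV (by
    rw [show y = (b : G)⁻¹ * g by rw [hgdef, inv_mul_cancel_left]]
    exact mul_mem (inv_mem b.2.1) hg)
  have ht3 : (t : G) ^ 3 = 1 := by rw [← ht, ← orderOf_coe, pow_orderOf_eq_one]
  have hgt : g * (t : G) * g⁻¹ = t ∨ g * (t : G) * g⁻¹ = (t : G)⁻¹ := by
    obtain ⟨i, hi⟩ := hbt
    have h1 : (t : G) ^ i = g * (t : G) * g⁻¹ := by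
      have := congrArg Subtype.val hi
      simp only [SubgroupClass.coe_zpow, Subgroup.coe_mul, Subgroup.coe_inv, ht'def] at this
      rw [this, hgdef]; group
    have hne1 : g * (t : G) * g⁻¹ ≠ 1 := fun h1 => by
      have : (t : G) = 1 := by
        rw [show (t : G) = g⁻¹ * (g * (t : G) * g⁻¹) * g by group, h1]; group
      rw [← orderOf_coe, this, orderOf_one] at ht
      omega
    rw [← h1, ← zpow_mod_orderOf, orderOf_coe, ht] at *
    have h0 : i % 3 = 0 ∨ i % 3 = 1 ∨ i % 3 = 2 := by omega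
    rcases h0 with h0 | h0 | h0 <;> push_cast at * <;> rw [h0] at hne1 ⊢
    · simp at hne1
    · left; simp
    · right
      rw [show (2 : ℤ) = ((2 : ℕ) : ℤ) from rfl, zpow_natCast]
      exact eq_inv_of_mul_eq_one_left (by rw [← pow_succ, ht3])
  obtain ⟨a, o, ho, hgo⟩ := Nat.exists_eq_two_pow_mul_odd (orderOf_pos g).ne'
  set e := g ^ o with hedef
  have he2 : e ^ 2 ^ a = 1 := by rw [hedef, ← pow_mul, mul_comm, ← hgo, pow_orderOf_eq_one]
  obtain ⟨j, rfl⟩ := ho
  have hgg : g * g ∈ normalizer (V : Set G) := h.mul_mem_of_swaps hgN hgV hgN hgV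
  have heq : e = (g * g) ^ j * g := by rw [hedef, pow_succ, pow_mul, pow_two]
  have heV : e ∉ normalizer (V : Set G) := fun he => hgV (by
    rw [show g = ((g * g) ^ j)⁻¹ * e by rw [heq, inv_mul_cancel_left]]
    exact mul_mem (inv_mem (pow_mem hgg j)) he)
  have he1 : e ≠ 1 := fun he => heV (he ▸ one_mem _)
  have htodd : Odd (orderOf (t : G)) := by rw [orderOf_coe, ht]; decide
  have ht1 : (t : G) ≠ 1 := fun h1 => by rw [← orderOf_coe, h1, orderOf_one] at ht; omega
  rcases hgt with hc | hi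
  · have hcom : Commute g (t : G) := mul_inv_eq_iff_eq_mul.1 hc
    exact absurd (eq_one_of_commute_two hG htodd ht1 (hcom.pow_left _) he2) he1
  · have hgg' : Commute (g * g) (t : G) := by
      refine mul_inv_eq_iff_eq_mul.1 ?_
      rw [show g * g * (t : G) * (g * g)⁻¹ = g * (g * (t : G) * g⁻¹) * g⁻¹ by group, hi,
        show g * (t : G)⁻¹ * g⁻¹ = (g * (t : G) * g⁻¹)⁻¹ by group, hi, inv_inv]
    have het : e * (t : G) * e⁻¹ = (t : G)⁻¹ := by
      rw [heq, show (g * g) ^ j * g * (t : G) * ((g * g) ^ j * g)⁻¹ =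
        (g * g) ^ j * (g * (t : G) * g⁻¹) * ((g * g) ^ j)⁻¹ by group, hi,
        ((hgg'.pow_left j).inv_right).eq, mul_inv_cancel_right]
    refine ⟨e, t, ?_, he1, pow_mem hgN _, heV, by rw [orderOf_coe, ht], t.2.1, htA, het⟩
    rw [← pow_two]
    refine eq_one_of_commute_two hG htodd ht1 ?_ (k := a) (by rw [← pow_mul, mul_comm, pow_mul, he2, one_pow])
    refine mul_inv_eq_iff_eq_mul.1 ?_
    rw [show e ^ 2 * (t : G) * (e ^ 2)⁻¹ = e * (e * (t : G) * e⁻¹) * e⁻¹ by rw [pow_two]; group, het,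
      show e * (t : G)⁻¹ * e⁻¹ = (e * (t : G) * e⁻¹)⁻¹ by group, het, inv_inv]

/-- The group `P⟨e⟩`. -/
def extend {e : G} (he : e * e = 1) (heN : e ∈ normalizer (P : Set G)) : Subgroup G where
  carrier := {x | x ∈ P ∨ x * e ∈ P}
  one_mem' := Or.inl (one_mem _)
  mul_mem' {a b} ha hb := by
    have hei : e⁻¹ = e := inv_eq_of_mul_eq_one_right he
    rcases ha with ha | ha <;> rcases hb with hb | hb
    · exact Or.inl (mul_mem ha hb)
    · exact Or.inr (by rw [mul_assoc]; exact mul_mem ha hb)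
    · refine Or.inr ?_
      have h1 := mul_mem ha ((mem_normalizer_iff.1 heN b).1 hb)
      rw [show a * e * (e * b * e⁻¹) = a * (e * e) * b * e⁻¹ by group, he, mul_one, hei] at h1
      exact h1
    · refine Or.inl ?_
      have h1 := mul_mem ha ((mem_normalizer_iff.1 heN (b * e)).1 hb)
      rw [show a * e * (e * (b * e) * e⁻¹) = a * (e * e) * b by group, he, mul_one] at h1
      exact h1
  inv_mem' {a} ha := by
    rcases ha with ha | ha
    · exact Or.inl (inv_mem ha)
    · refine Or.inr ?_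
      have h1 := (mem_normalizer_iff.1 heN _).1 (inv_mem ha)
      rw [show e * (a * e)⁻¹ * e⁻¹ = e * e⁻¹ * a⁻¹ * e⁻¹ by group, mul_inv_cancel, one_mul,
        inv_eq_of_mul_eq_one_right he] at h1
      exact h1

end Four

/-- With `q = 4` the group `P` is a Sylow 2-subgroup. -/
theorem false_of_four [Finite G] [IsSimpleGroup G] (hG : IsCIT G)
    (hne : ∃ a b : G, a * b ≠ b * a) {P V A : Subgroup G} (h : Pair 4 P V A)
    (hns : ∀ S : Sylow 2 G, (S : Subgroup G) ≠ P) : False := by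
  haveI : Fact (Nat.Prime 2) := ⟨Nat.prime_two⟩
  obtain ⟨e, t, he, he1, heN, heV, ht, htV, htA, het⟩ := exists_swapper h hG hns
  have hei : e⁻¹ = e := inv_eq_of_mul_eq_one_right he
  have heP : e ∉ P := fun he' => heV (h.normV he')
  obtain ⟨heVA, heAV⟩ := h.swaps heN heV
  -- `e` fixes exactly one involution of `V ⊓ A`
  have hWe : ∀ w ∈ V ⊓ A, e * w * e⁻¹ ∈ V ⊓ A := fun w hw => ⟨heAV w hw.2, heVA w hw.1⟩
  have ht1 : t ≠ 1 := fun h1 => by rw [h1, orderOf_one] at ht; omega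
  have htodd : Odd (orderOf t) := by rw [ht]; decide
  obtain ⟨w, hw, hwe⟩ : ∃ w ∈ V ⊓ A, e * w * e⁻¹ ≠ w := by
    by_contra! hall
    have hW : (V ⊓ A : Subgroup G) ≠ ⊥ := fun hbot => by
      have := h.cardInf
      rw [hbot, Subgroup.card_bot] at this
      omega
    obtain ⟨w, hw, hw1⟩ := (V ⊓ A).bot_or_exists_ne_one.resolve_left hW
    have htw : t * w * t⁻¹ ∈ V ⊓ A :=
      ⟨(mem_normalizer_iff.1 htV w).1 hw.1, (mem_normalizer_iff.1 htA w).1 hw.2⟩
    have h1 := hall _ htw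
    rw [show e * (t * w * t⁻¹) * e⁻¹ = e * t * e⁻¹ * (e * w * e⁻¹) * (e * t * e⁻¹)⁻¹ by group, het,
      hall w hw, inv_inv] at h1
    have h2 : Commute (t * t) w := by
      have h3 := congrArg (fun u => t * u * t) h1
      simp only [show t * (t⁻¹ * w * t) * t = w * (t * t) by group,
        show t * (t * w * t⁻¹) * t = t * t * w by group] at h3
      exact h3.symm
    have h3 : Commute t w := by
      have h4 : t = (t * t) * (t * t) := by
        rw [show t * t * (t * t) = t ^ 3 * t by simp only [pow_succ, pow_zero, one_mul, mul_assoc], show t ^ 3 = 1 by rw [← ht, pow_orderOf_eq_one],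
          one_mul]
      rw [h4]
      exact h2.mul_left h2
    exact ht1 (eq_one_of_commute hG htodd (orderOf_two_of_mul_self (elem_mul_self h.elemV hw.1) hw1) h3)
  set z : G := w * (e * w * e⁻¹) with hzdef
  have hzW : z ∈ V ⊓ A := mul_mem hw (hWe w hw)
  have hw2 : w * w = 1 := elem_mul_self h.elemV hw.1
  have hz1 : z ≠ 1 := fun hz => hwe (by
    rw [eq_inv_of_mul_eq_one_right hz, inv_eq_of_mul_eq_one_right hw2])
  have hze : e * z * e⁻¹ = z := by
    rw [hzdef, show e * (w * (e * w * e⁻¹)) * e⁻¹ = e * w * e⁻¹ * ((e * e) * w * (e * e)⁻¹) by group,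
      he, one_mul, inv_one, mul_one]
    exact elem_comm h.elemV (hWe w hw).1 hw.1
  have hfix : ∀ u ∈ V ⊓ A, e * u * e⁻¹ = u → u = 1 ∨ u = z := by
    intro u hu hue
    set C : Subgroup G := (V ⊓ A) ⊓ centralizer {e} with hC
    have hzC : z ∈ C := ⟨hzW, mem_centralizer_singleton_iff.2 (mul_inv_eq_iff_eq_mul.1 hze).symm⟩
    have huC : u ∈ C := ⟨hu, mem_centralizer_singleton_iff.2 (mul_inv_eq_iff_eq_mul.1 hue).symm⟩
    have hwC : w ∉ C := fun hwC => hwe (mul_inv_eq_iff_eq_mul.2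
      (mem_centralizer_singleton_iff.1 hwC.2).symm)
    have hcC : Nat.card C ≤ 2 := by
      have h1 : Nat.card C ∣ 4 := h.cardInf ▸ Subgroup.card_dvd_of_le (inf_le_left (a := V ⊓ A))
      have h2 : Nat.card C ≠ 4 := fun h4 => hwC
        ((eq_of_le_of_card_ge (inf_le_left : C ≤ V ⊓ A) (by rw [h4, h.cardInf])).ge hw)
      have h3 := Nat.le_of_dvd (by norm_num) h1
      interval_cases hn : Nat.card C <;> omega
    have hzp : zpowers z = C := eq_of_le_of_card_ge (zpowers_le.2 hzC) (by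
      rw [Nat.card_zpowers, orderOf_two_of_mul_self (elem_mul_self h.elemV hzW.1) hz1]; exact hcC)
    rw [← hzp] at huC
    obtain ⟨i, hi⟩ := huC
    simp only at hi
    rcases Int.even_or_odd i with ⟨k, rfl⟩ | ⟨k, rfl⟩
    · left
      rw [← hi, ← two_mul, zpow_mul, zpow_two, elem_mul_self h.elemV hzW.1, one_zpow]
    · right
      rw [← hi, zpow_add, zpow_mul, zpow_two, elem_mul_self h.elemV hzW.1, one_zpow, one_mul, zpow_one]
  -- the group `S₁ = P⟨e⟩`
  set S₁ := extend he heN with hS₁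
  have hmem : ∀ x, x ∈ S₁ ↔ x ∈ P ∨ x * e ∈ P := fun x => Iff.rfl
  have hPS₁ : P ≤ S₁ := fun x hx => Or.inl hx
  have heS₁ : e ∈ S₁ := Or.inr (by rw [he]; exact one_mem _)
  have hS₁N : S₁ ≤ normalizer (P : Set G) := fun x hx => by
    rcases hx with hx | hx
    · exact le_normalizer hx
    · rw [show x = x * e * e by rw [mul_assoc, he, mul_one]]
      exact mul_mem (le_normalizer hx) heN
  have hswap : ∀ x ∈ S₁, x ∉ P → x ∉ normalizer (V : Set G) := fun x hx hxP hxV => by
    refine heV ?_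
    rw [show e = x⁻¹ * (x * e) by rw [inv_mul_cancel_left]]
    exact mul_mem (inv_mem hxV) (h.normV (hx.resolve_left hxP))
  have hidx : P.relIndex S₁ = 2 := by
    rw [Subgroup.relIndex, Subgroup.index_eq_two_iff]
    refine ⟨⟨e, heS₁⟩, fun ⟨x, hx⟩ => ?_⟩
    simp only [Subgroup.mem_subgroupOf, Subgroup.coe_mul]
    rcases hx with hx | hx
    · exact Or.inr ⟨hx, fun hxe => heP ((mul_mem_cancel_left hx).1 hxe)⟩
    · exact Or.inl ⟨hx, fun hx' => heP ((mul_mem_cancel_left hx').1 hx)⟩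
  have hS₁two : IsPGroup 2 S₁ := by
    refine IsPGroup.of_card (n := 7) ?_
    rw [← Subgroup.relIndex_bot_left, ← Subgroup.relIndex_mul_relIndex ⊥ P S₁ bot_le hPS₁, hidx,
      Subgroup.relIndex_bot_left, h.cardP]
    norm_num
  -- an elementary abelian subgroup of order 16 of `S₁` lies in `P`
  have hEA : ∀ X : Subgroup G, Cfsg.IsElementaryAbelian 2 X → Nat.card X = 4 ^ 2 → X ≤ S₁ → X ≤ P := by
    intro X hX hcX hXS
    by_contra hXP
    obtain ⟨u, huX, huP⟩ := SetLike.not_le_iff_exists.1 hXP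
    obtain ⟨hu1, hu2⟩ := h.swaps (hS₁N (hXS huX)) (hswap u (hXS huX) huP)
    have hK : P ⊓ X ≤ V ⊓ A := fun k hk => by
      have hc : u * k * u⁻¹ = k := by rw [elem_comm hX huX hk.2, mul_inv_cancel_right]
      rcases h.sq_cases k hk.1 (elem_mul_self hX hk.2) with hkV | hkA
      · exact ⟨hkV, hc ▸ hu1 k hkV⟩
      · exact ⟨hc ▸ hu2 k hkA, hkA⟩
    have h1 := Subgroup.relIndex_mul_relIndex ⊥ (P ⊓ X) X bot_le inf_le_right
    rw [Subgroup.relIndex_bot_left, Subgroup.relIndex_bot_left, Subgroup.inf_relIndex_right, hcX] at h1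
    have h2 : P.relIndex X ≤ 2 := hidx ▸ Subgroup.relIndex_le_of_le_right hXS (by rw [hidx]; norm_num)
    have h3 : Nat.card (P ⊓ X : Subgroup G) ≤ 4 := (Subgroup.card_le_of_le hK).trans h.cardInf.le
    have := Nat.mul_le_mul h3 h2
    omega
  -- `S₁` is its own normaliser among 2-groups
  have hself : ∀ R : Subgroup G, IsPGroup 2 R → S₁ ≤ R → R ≤ S₁ := by
    intro R hR hSR
    by_contra hle
    obtain ⟨y, hyR, hyS, hyN⟩ := exists_normalizing hR hSR hle
    have hyP : y ∈ normalizer (P : Set G) := by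
      have himg : ∀ X : Subgroup G, Cfsg.IsElementaryAbelian 2 X → Nat.card X = 4 ^ 2 → X ≤ P →
          ∀ v ∈ X, y * v * y⁻¹ ∈ P := by
        intro X hX hcX hXP v hv
        have hX' : Cfsg.IsElementaryAbelian 2 (X.map (MulAut.conj y).toMonoidHom) := by
          haveI := hX.1
          refine ⟨Subgroup.map_isMulCommutative _ _, ?_⟩
          rintro _ ⟨u, hu, rfl⟩
          rw [← map_pow, hX.2 u hu, map_one]
        refine hEA _ hX' (by rw [Subgroup.card_map_of_injective (MulAut.conj y).injective, hcX]) ?_ ⟨v, hv, rfl⟩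
        rintro _ ⟨u, hu, rfl⟩
        exact (mem_normalizer_iff.1 hyN u).1 (hPS₁ (hXP hu))
      refine mem_normalizer_of_conj_mem fun x hx => ?_
      obtain ⟨v, hv, a, ha, rfl⟩ := h.eq_mul x hx
      rw [show y * (v * a) * y⁻¹ = y * v * y⁻¹ * (y * a * y⁻¹) by group]
      exact mul_mem (himg V h.elemV h.cardV h.leV v hv) (himg A h.elemA h.cardA h.leA a ha)
    have hQ : IsPGroup 2 (R ⊓ normalizer (P : Set G) : Subgroup G) := hR.to_le inf_le_left
    have hPQ : P ≤ R ⊓ normalizer (P : Set G) := le_inf (hPS₁.trans hSR) le_normalizer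
    by_cases hyV : y ∈ normalizer (V : Set G)
    · exact hyS (hPS₁ (mem_P_of_fixes h hQ hPQ inf_le_right ⟨hyR, hyP⟩ hyV))
    · refine hyS (Or.inr (mem_P_of_fixes h hQ hPQ inf_le_right
        ⟨mul_mem hyR (hSR heS₁), mul_mem hyP heN⟩ (h.mul_mem_of_swaps hyP hyV heN heV)))
  obtain ⟨S, hSle⟩ := hS₁two.exists_le_sylow
  have hSeq : (S : Subgroup G) = S₁ := le_antisymm (hself _ S.isPGroup' hSle) hSle
  have hCz : centralizer ({z} : Set G) = S₁ := by
    have hzS : S₁ ≤ centralizer ({z} : Set G) := fun x hx => by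
      rw [mem_centralizer_iff_commute]
      rcases hx with hx | hx
      · exact (h.inf_central hzW hx).symm
      · rw [show x = x * e * e by rw [mul_assoc, he, mul_one]]
        exact (h.inf_central hzW hx).symm.mul_left (mul_inv_eq_iff_eq_mul.1 hze)
    exact le_antisymm (hself _ (hG z (orderOf_two_of_mul_self (elem_mul_self h.elemV hzW.1) hz1)) hzS) hzS
  -- `e` is conjugate to `z`
  obtain ⟨g, hg⟩ : ∃ g : G, g * e * g⁻¹ = z := by
    rcases S0111.result S P (hSeq ▸ hPS₁) (by rw [hSeq, hidx]) e (orderOf_two_of_mul_self he he1)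
      (hSeq ▸ heS₁) heP with ⟨M, -, hM, -⟩ | ⟨g, hg⟩
    · exact absurd hM (index_ne_two hne M)
    · have hsq : g * e * g⁻¹ * (g * e * g⁻¹) = 1 := by
        rw [show g * e * g⁻¹ * (g * e * g⁻¹) = g * (e * e) * g⁻¹ by group, he, mul_one, mul_inv_cancel]
      have hne1 : g * e * g⁻¹ ≠ 1 := fun h1 => he1 (by
        rw [show e = g⁻¹ * (g * e * g⁻¹) * g by group, h1]; group)
      rcases h.sq_cases _ hg hsq with hV | hA
      · obtain ⟨k, -, hk⟩ := h.transV _ hV z hzW.1 hne1 hz1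
        exact ⟨k * g, by rw [← hk]; group⟩
      · obtain ⟨k, -, hk⟩ := h.transA _ hA z hzW.2 hne1 hz1
        exact ⟨k * g, by rw [← hk]; group⟩
  have hcard : Nat.card (centralizer ({e} : Set G)) = Nat.card S₁ := by
    have hmap : (centralizer ({e} : Set G)).map (MulAut.conj g).toMonoidHom = centralizer {z} := by
      ext x
      simp only [Subgroup.mem_map, mem_centralizer_iff_commute, MulEquiv.coe_toMonoidHom, MulAut.conj_apply]
      constructor
      · rintro ⟨u, hu, rfl⟩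
        rw [← hg]
        exact hu.map (MulAut.conj g).toMonoidHom
      · intro hx
        refine ⟨g⁻¹ * x * g, ?_, by group⟩
        have := hx.map (MulAut.conj g⁻¹).toMonoidHom
        simp only [MulEquiv.coe_toMonoidHom, MulAut.conj_apply, inv_inv, ← hg] at this
        rwa [show g⁻¹ * (g * e * g⁻¹) * g = e by group] at this
    rw [← hCz, ← hmap, Subgroup.card_map_of_injective (MulAut.conj g).injective]
  -- an element of order 4 of `P` centralised by `e`, with square `z`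
  obtain ⟨v, hv, hvA⟩ := SetLike.not_le_iff_exists.1 h.not_le
  have hev : e * v * e⁻¹ ∈ A := heVA v hv
  have hv2 : v * v = 1 := elem_mul_self h.elemV hv
  set x₁ : G := v * (e * v * e⁻¹) with hx₁def
  have hx₁P : x₁ ∈ P := mul_mem (h.leV hv) (h.leA hev)
  have hconj : e * x₁ * e⁻¹ = x₁⁻¹ := by
    refine eq_inv_of_mul_eq_one_left ?_
    rw [hx₁def, show e * (v * (e * v * e⁻¹)) * e⁻¹ * (v * (e * v * e⁻¹)) =
      e * v * e⁻¹ * ((e * e) * v * (e * e)⁻¹) * (v * (e * v * e⁻¹)) by group, he, one_mul, inv_one,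
      mul_one, show e * v * e⁻¹ * v * (v * (e * v * e⁻¹)) = e * v * e⁻¹ * (v * v) * (e * v * e⁻¹) by group,
      hv2, mul_one, elem_mul_self h.elemA hev]
  have hx₁W : x₁ * x₁ ∈ V ⊓ A := h.mul_self_mem hx₁P
  have hx₁ne : x₁ * x₁ ≠ 1 := fun h1 => by
    have hc : Commute v (e * v * e⁻¹) := by
      have hei' : (e * v * e⁻¹)⁻¹ = e * v * e⁻¹ := inv_eq_of_mul_eq_one_right (elem_mul_self h.elemA hev)
      have h2 : x₁ = x₁⁻¹ := eq_inv_of_mul_eq_one_left h1
      rw [hx₁def, mul_inv_rev, hei', inv_eq_of_mul_eq_one_right hv2] at h2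
      exact h2
    rcases h.comm_cases v hv _ hev hc with h' | h'
    · exact hvA h'
    · have := (h.swaps heN heV).1 _ h'
      rw [show e * (e * v * e⁻¹) * e⁻¹ = (e * e) * v * (e * e)⁻¹ by group, he, one_mul, inv_one,
        mul_one] at this
      exact hvA this
  have hx₁z : x₁ * x₁ = z := by
    refine (hfix _ hx₁W ?_).resolve_left hx₁ne
    rw [show e * (x₁ * x₁) * e⁻¹ = e * x₁ * e⁻¹ * (e * x₁ * e⁻¹) by group, hconj, ← mul_inv_rev]
    exact inv_eq_of_mul_eq_one_right (elem_mul_self h.elemV hx₁W.1)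
  set c : G := x₁ * w with hcdef
  have hwx : Commute w x₁ := h.inf_central hw hx₁P
  have hcP : c ∈ P := mul_mem hx₁P (h.leV hw.1)
  have hc2 : c * c = z := by
    rw [hcdef, show x₁ * w * (x₁ * w) = x₁ * (w * x₁) * w by group, hwx.eq,
      show x₁ * (x₁ * w) * w = x₁ * x₁ * (w * w) by group, hw2, mul_one, hx₁z]
  have hce : e * c * e⁻¹ = c := by
    have hewe : e * w * e⁻¹ = w * z := by rw [hzdef, ← mul_assoc, hw2, one_mul]
    have hxinv : x₁⁻¹ = x₁ * z := by
      refine inv_eq_of_mul_eq_one_right ?_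
      rw [← mul_assoc, hx₁z, elem_mul_self h.elemV hzW.1]
    rw [hcdef, show e * (x₁ * w) * e⁻¹ = e * x₁ * e⁻¹ * (e * w * e⁻¹) by group, hconj, hewe, hxinv,
      show x₁ * z * (w * z) = x₁ * (z * w) * z by group, (elem_comm h.elemV hzW.1 hw.1),
      show x₁ * (w * z) * z = x₁ * w * (z * z) by group, elem_mul_self h.elemV hzW.1, mul_one]
  -- the centraliser of `e` grows out of `S₁`
  have hnle : ¬ centralizer ({e} : Set G) ≤ S₁ := fun hle => by
    have heq : centralizer ({e} : Set G) = S₁ := eq_of_le_of_card_ge hle hcard.ge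
    have hvC : v ∈ centralizer ({e} : Set G) := heq ▸ hPS₁ (h.leV hv)
    refine hvA ?_
    have : e * v * e⁻¹ = v := mul_inv_eq_iff_eq_mul.2 (mem_centralizer_singleton_iff.1 hvC).symm
    rwa [this] at hev
  obtain ⟨y, hyC, hyD, hyN⟩ := exists_normalizing (hG e (orderOf_two_of_mul_self he he1))
    (inf_le_left : centralizer ({e} : Set G) ⊓ S₁ ≤ centralizer ({e} : Set G))
    fun hle => hnle fun x hx => (hle hx).2
  have hsq : ∀ d ∈ centralizer ({e} : Set G) ⊓ S₁, d * d = 1 ∨ d * d = z := by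
    have hP' : ∀ d ∈ P, Commute d e → d * d = 1 ∨ d * d = z := fun d hd hde =>
      hfix _ (h.mul_self_mem hd) (mul_inv_eq_iff_eq_mul.2 (hde.mul_left hde).symm.eq)
    rintro d ⟨hdC, hdS⟩
    have hde : Commute d e := mem_centralizer_iff_commute.1 hdC
    rcases hdS with hdP | hdP
    · exact hP' d hdP hde
    · have h1 := hP' _ hdP (hde.mul_left (Commute.refl e))
      rwa [show d * e * (d * e) = d * (e * d) * e by group, ← hde.eq,
        show d * (d * e) * e = d * d * (e * e) by group, he, mul_one] at h1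
  have hcD : c ∈ centralizer ({e} : Set G) ⊓ S₁ :=
    ⟨mem_centralizer_singleton_iff.2 (mul_inv_eq_iff_eq_mul.1 hce).symm, hPS₁ hcP⟩
  have hyz : y * z * y⁻¹ = z := by
    have h1 := hsq _ ((mem_normalizer_iff.1 hyN c).1 hcD)
    rw [show y * c * y⁻¹ * (y * c * y⁻¹) = y * (c * c) * y⁻¹ by group, hc2] at h1
    exact h1.resolve_left fun h2 => hz1 (by
      rw [show z = y⁻¹ * (y * z * y⁻¹) * y by group, h2]; group)
  have hyS : y ∈ S₁ := by
    rw [← hCz, mem_centralizer_singleton_iff]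
    exact mul_inv_eq_iff_eq_mul.1 hyz
  exact hyD ⟨hyC, hyS⟩

end Cfsg.Agent.CIT
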