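import Cfsg.Agent.Lib.CIT.Torus
import Cfsg.Agent.Lib.CIT.Map
import Cfsg.Agent.Lib.CIT.PairSmall
import Cfsg.Agent.Lib.CIT.Embed

/-!
# The case division for simple CIT groups

Either the Sylow 2-subgroups are dihedral, or a Sylow 2-subgroup carries a pair of maximal 2-locals
with `q = 4`, or the normaliser of a Sylow 2-subgroup is strongly embedded.
-/

set_option autoImplicit false
set_option linter.style.haveILetI false
set_option linter.unusedSectionVars false

namespace Cfsg.Agent.CIT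

open Subgroup
open Cfsg (IsElementaryAbelian IsStronglyEmbedded)
open scoped commutatorElement

variable {G : Type*} [Group G] [Finite G] [IsSimpleGroup G]

/-- The three possible outcomes. -/
def Outcome (G : Type*) [Group G] : Prop :=
  (∃ (S : Sylow 2 G) (n : ℕ), 2 ≤ n ∧ Nonempty ((S : Subgroup G) ≃* DihedralGroup n)) ∨
  (∃ P V A : Subgroup G, Pair 4 P V A ∧ ∃ S : Sylow 2 G, (S : Subgroup G) = P) ∨
  ∃ S : Sylow 2 G, IsStronglyEmbedded (normalizer ((S : Subgroup G) : Set G))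

/-- Two bad maximal 2-locals over one group `P` of class at most two. -/
theorem outcome_of_two (hne : ∃ a b : G, a * b ≠ b * a) {M A M₂ A₂ : Subgroup G} (h : Sett M A)
    (h₂ : Sett M₂ A₂) (hP : core M ⊔ A = core M₂ ⊔ A₂) (hMne : M ≠ M₂)
    (hcl : ∀ a ∈ core M ⊔ A, ∀ b ∈ core M ⊔ A, ∀ c ∈ core M ⊔ A, Commute ⁅a, b⁆ c) :
    Outcome G := by
  have hpair := h.pair h₂ hP hMne hcl
  rcases h.two_or_four h₂ hP hMne hcl with hq | hq <;> rw [hq] at hpair
  · exact Or.inl (exists_dihedral h.hG hne hpair)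
  · by_cases hS : ∃ S : Sylow 2 G, (S : Subgroup G) = core M ⊔ A
    · exact Or.inr (Or.inl ⟨_, _, _, hpair, hS⟩)
    · exact (false_of_four h.hG hne hpair fun S e => hS ⟨S, e⟩).elim

/-- The second pushing-up subgroup cannot be normal in two maximal locals. -/
theorem Sett.class_two {M A M₂ A₂ : Subgroup G} (h : Sett M A) (h₂ : Sett M₂ A₂)
    (hP : core M ⊔ A = core M₂ ⊔ A₂) (hMne : M ≠ M₂) :
    ∀ a ∈ core M ⊔ A, ∀ b ∈ core M ⊔ A, ∀ c ∈ core M ⊔ A, Commute ⁅a, b⁆ c := by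
  rcases h.class_or_sol (P := core M ⊔ A) rfl with hcl | ⟨S₁, S₂, hs⟩
  · exact hcl
  exfalso
  have hX2 : IsPGroup 2 (S₂.map (core M ⊔ A : Subgroup G).subtype) :=
    h.sup_two.to_le (map_subtype_le _)
  have hX1 : S₂.map (core M ⊔ A : Subgroup G).subtype ≠ ⊥ := fun e => hs.ne₂
    ((Subgroup.map_eq_bot_iff_of_injective _ (subtype_injective _)).1 e)
  exact hMne ((h.max.normalizer_eq hX2 hX1 (h.le_normalizer_sol rfl hs)).symm.trans
    (h₂.max.normalizer_eq hX2 hX1 (h₂.le_normalizer_sol hP hs)))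

theorem coe_smul_sylow (g : G) (S : Sylow 2 G) :
    ((g • S : Sylow 2 G) : Subgroup G) = (S : Subgroup G).map (MulAut.conj g).toMonoidHom := rfl

/-- Over a bad maximal local whose group `P` is not Sylow. -/
theorem outcome_of_not_sylow (hne : ∃ a b : G, a * b ≠ b * a) {M A : Subgroup G} (h : Sett M A)
    (hns : ∀ S : Sylow 2 G, (S : Subgroup G) ≠ core M ⊔ A) : Outcome G := by
  obtain ⟨y, hyn, hyP, hy2⟩ := exists_two_overgroup h.sup_two hns
  have hyM : y ∉ M := fun hy => hyP (by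
    rw [← h.eq_sup_of_two hy2 (sup_le h.sup_le (zpowers_le.2 hy)) le_sup_left]
    exact mem_sup_right (mem_zpowers y))
  have h₂ := h.map (MulAut.conj y)
  have hP : core M ⊔ A = core (M.map (MulAut.conj y).toMonoidHom) ⊔
      A.map (MulAut.conj y).toMonoidHom := by
    rw [core_map, ← Subgroup.map_sup, map_conj_eq hyn]
  have hMne : M ≠ M.map (MulAut.conj y).toMonoidHom := fun e => hyM (by
    rw [← normalizer_vsub h.max]
    exact mem_normalizer_of_map_conj (by rw [← vsub_map, ← e]))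
  exact outcome_of_two hne h h₂ hP hMne (h.class_two h₂ hP hMne)

/-- Every Sylow subgroup in a bad maximal local is `P` for a suitable offender. -/
theorem exists_sett_sylow {M A : Subgroup G} (h : Sett M A)
    (hsy : ∃ S : Sylow 2 G, (S : Subgroup G) = core M ⊔ A) {S : Sylow 2 G}
    (hS : (S : Subgroup G) ≤ M) :
    ∃ A' : Subgroup G, Sett M A' ∧ (S : Subgroup G) = core M ⊔ A' := by
  haveI : Fact (Nat.Prime 2) := ⟨Nat.prime_two⟩
  obtain ⟨S₀, hS₀⟩ := hsy
  have hS₀M : (S₀ : Subgroup G) ≤ M := hS₀ ▸ h.sup_le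
  obtain ⟨m, hm⟩ := MulAction.exists_smul_eq M (S₀.subtype hS₀M) (S.subtype hS)
  rw [Sylow.smul_subtype hS₀M] at hm
  have he : (m : G) • S₀ = S := Sylow.subtype_injective hm
  have hmap : M.map (MulAut.conj (m : G)).toMonoidHom = M := map_conj_eq (le_normalizer m.2)
  refine ⟨A.map (MulAut.conj (m : G)).toMonoidHom, ?_, ?_⟩
  · have h' := h.map (MulAut.conj (m : G))
    rwa [hmap] at h'
  · rw [← he, coe_smul_sylow, hS₀, Subgroup.map_sup, ← core_map, hmap]

/-- **The case division.** -/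
theorem classification_cases (hne : ∃ a b : G, a * b ≠ b * a) (hG : IsCIT G) : Outcome G := by
  classical
  haveI : Fact (Nat.Prime 2) := ⟨Nat.prime_two⟩
  by_cases hA : ∃ M A : Subgroup G, Sett M A ∧ ∀ S : Sylow 2 G, (S : Subgroup G) ≠ core M ⊔ A
  · obtain ⟨M, A, h, hns⟩ := hA
    exact outcome_of_not_sylow hne h hns
  push Not at hA
  have hbadS : ∀ M : Subgroup G, Bad M → ∀ S : Sylow 2 G, (S : Subgroup G) ≤ M →
      ∃ A : Subgroup G, Sett M A ∧ (S : Subgroup G) = core M ⊔ A := by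
    intro M hM S hS
    obtain ⟨A, h⟩ := hM.exists_sett hG
    exact exists_sett_sylow h (hA M A h) hS
  by_cases hB : ∃ (S : Sylow 2 G) (M M₂ : Subgroup G), Bad M ∧ Bad M₂ ∧ (S : Subgroup G) ≤ M ∧
      (S : Subgroup G) ≤ M₂ ∧ M ≠ M₂
  · obtain ⟨S, M, M₂, hM, hM₂, hS, hS₂, hMne⟩ := hB
    obtain ⟨A, h, hP⟩ := hbadS M hM S hS
    obtain ⟨A₂, h₂, hP₂⟩ := hbadS M₂ hM₂ S hS₂
    have hP' := hP.symm.trans hP₂
    exact outcome_of_two hne h h₂ hP' hMne (h.class_two h₂ hP' hMne)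
  push Not at hB
  -- the assignment
  let f : Sylow 2 G → Subgroup G := fun S =>
    if hb : ∃ M : Subgroup G, Bad M ∧ (S : Subgroup G) ≤ M then hb.choose
    else normalizer (jsub (S : Subgroup G) : Set G)
  have hf1 : ∀ (S : Sylow 2 G) (M : Subgroup G), Bad M → (S : Subgroup G) ≤ M → f S = M := by
    intro S M hM hS
    have hb : ∃ M : Subgroup G, Bad M ∧ (S : Subgroup G) ≤ M := ⟨M, hM, hS⟩
    simp only [f, dif_pos hb]
    exact hB S _ M hb.choose_spec.1 hM hb.choose_spec.2 hS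
  have hf2 : ∀ S : Sylow 2 G, (¬ ∃ M : Subgroup G, Bad M ∧ (S : Subgroup G) ≤ M) →
      f S = normalizer (jsub (S : Subgroup G) : Set G) := fun S hb => by
    simp only [f, dif_neg hb]
  -- a good local over a Sylow subgroup inside a bad local has just that Sylow subgroup
  have hone : ∀ (S : Sylow 2 G) (M M' : Subgroup G), Bad M → (S : Subgroup G) ≤ M →
      IsMaxLocal M' → ¬ Bad M' → (S : Subgroup G) ≤ M' →
      ∀ T : Sylow 2 G, (T : Subgroup G) ≤ M' → T = S := by
    intro S M M' hM hS hM' hb' hS' T hT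
    obtain ⟨A, h, hP⟩ := hbadS M hM S hS
    have hle : M' ≤ normalizer ((S : Subgroup G) : Set G) :=
      ((exists_sylow_of_not_bad hM' hb').2 S hS').symm.le.trans (h.normalizer_jsub_le hP)
    have hTS : (T : Subgroup G) ≤ (S : Subgroup G) := le_sup_right.trans (S.is_maximal'
      (IsPGroup.to_sup_of_normal_left' S.isPGroup' T.isPGroup' (hT.trans hle)) le_sup_left).le
    exact Sylow.ext (T.is_maximal' S.isPGroup' hTS).symm
  -- the value is a maximal local
  have hfmax : ∀ S : Sylow 2 G, IsMaxLocal (f S) ∧ (S : Subgroup G) ≤ f S := by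
    intro S
    by_cases hb : ∃ M : Subgroup G, Bad M ∧ (S : Subgroup G) ≤ M
    · obtain ⟨M, hM, hS⟩ := hb
      rw [hf1 S M hM hS]
      exact ⟨hM.1, hS⟩
    have hSne : (S : Subgroup G) ≠ ⊥ := S.ne_bot_of_dvd_card (two_dvd_card hne)
    obtain ⟨M', hM', hle⟩ := exists_isMaxLocal (isLocal_normalizer S.isPGroup' hSne)
    have hS' : (S : Subgroup G) ≤ M' := le_normalizer.trans hle
    rw [hf2 S hb, (exists_sylow_of_not_bad hM' fun hb' => hb ⟨M', hb', hS'⟩).2 S hS']
    exact ⟨hM', hS'⟩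
  have hmem : ∀ S T : Sylow 2 G, (T : Subgroup G) ≤ f S → f T = f S := by
    intro S T hT
    by_cases hb : ∃ M : Subgroup G, Bad M ∧ (S : Subgroup G) ≤ M
    · obtain ⟨M, hM, hS⟩ := hb
      rw [hf1 S M hM hS] at hT ⊢
      exact hf1 T M hM hT
    have hnb : ¬ Bad (f S) := fun hb' => hb ⟨_, hb', (hfmax S).2⟩
    by_cases hb2 : ∃ M : Subgroup G, Bad M ∧ (T : Subgroup G) ≤ M
    · obtain ⟨M, hM, hT2⟩ := hb2
      have e := hone T M (f S) hM hT2 (hfmax S).1 hnb hT S (hfmax S).2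
      rw [e]
    rw [hf2 T hb2, (exists_sylow_of_not_bad (hfmax S).1 hnb).2 T hT]
  have hconst : ∀ M, IsMaxLocal M → ∀ S T : Sylow 2 G, (S : Subgroup G) ≤ M →
      (T : Subgroup G) ≤ M → f S = f T := by
    intro M hM S T hS hT
    by_cases hb : Bad M
    · rw [hf1 S M hb hS, hf1 T M hb hT]
    by_cases hbS : ∃ M₁ : Subgroup G, Bad M₁ ∧ (S : Subgroup G) ≤ M₁
    · obtain ⟨M₁, hM₁, hS₁⟩ := hbS
      rw [hone S M₁ M hM₁ hS₁ hM hb hS T hT]
    by_cases hbT : ∃ M₁ : Subgroup G, Bad M₁ ∧ (T : Subgroup G) ≤ M₁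
    · obtain ⟨M₁, hM₁, hT₁⟩ := hbT
      rw [hone T M₁ M hM₁ hT₁ hM hb hT S hS]
    rw [hf2 S hbS, hf2 T hbT, (exists_sylow_of_not_bad hM hb).2 S hS,
      (exists_sylow_of_not_bad hM hb).2 T hT]
  have heq : ∀ (g : G) (S : Sylow 2 G), f (g • S) = (f S).map (MulAut.conj g).toMonoidHom := by
    intro g S
    by_cases hb : ∃ M : Subgroup G, Bad M ∧ (S : Subgroup G) ≤ M
    · obtain ⟨M, hM, hS⟩ := hb
      rw [hf1 S M hM hS]
      exact hf1 _ _ (hM.map hG (MulAut.conj g)) (coe_smul_sylow g S ▸ Subgroup.map_mono hS)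
    have hb' : ¬ ∃ M : Subgroup G, Bad M ∧ ((g • S : Sylow 2 G) : Subgroup G) ≤ M := by
      rintro ⟨M, hM, hS⟩
      refine hb ⟨_, hM.map hG (MulAut.conj g).symm, ?_⟩
      rw [coe_smul_sylow] at hS
      exact (map_map_symm (MulAut.conj g) (S : Subgroup G)).ge.trans (Subgroup.map_mono hS)
    rw [hf2 _ hb', hf2 S hb, coe_smul_sylow, normalizer_map_equiv, map_jsub]
  have hnorm : ∀ S, normalizer (f S : Set G) = f S := by
    intro S
    refine le_antisymm (fun g hg => ?_) le_normalizer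
    rw [← normalizer_vsub (hfmax S).1]
    exact mem_normalizer_of_map_conj (by rw [← vsub_map, map_conj_eq hg])
  have hse := isStronglyEmbedded_of_assign hG hne f (fun S => (hfmax S).2)
    (fun S => (hfmax S).1.1.ne_top hne) hnorm heq hmem
    (fun M hM => by
      by_cases hb : Bad M
      · obtain ⟨A, h⟩ := hb.exists_sett hG
        obtain ⟨S, hS⟩ := hA M A h
        exact ⟨S, hS ▸ h.sup_le⟩
      · exact (exists_sylow_of_not_bad hM hb).1) hconst
  obtain ⟨S⟩ : Nonempty (Sylow 2 G) := inferInstance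
  have hfS := normal_sylow_of_stronglyEmbedded hG hne (hse S) (hfmax S).1.1 S (hfmax S).2
  refine Or.inr (Or.inr ⟨S, hfS ▸ hse S⟩)

end Cfsg.Agent.CIT
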