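import Mathlib
import Cfsg.Prelude.Def_Exceptional
import Cfsg.Prelude.Def_Transfer
import Cfsg.Agent.S0205

/-!
# CIT groups: shared vocabulary

A CIT group is a finite group in which the centraliser of each involution is a 2-group.
This file fixes the interfaces between the parts of the classification of the simple CIT groups.
-/

set_option autoImplicit false

namespace Cfsg.Agent.CIT

open Subgroup
open Cfsg (IsElementaryAbelian IsSuzuki)

variable {G : Type*} [Group G]

/-- Every involution has a 2-group as centraliser. -/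
def IsCIT (G : Type*) [Group G] : Prop :=
  ∀ t : G, orderOf t = 2 → IsPGroup 2 (centralizer ({t} : Set G))

/-- The conclusion shared by the CIT and CN classification theorems. -/
def Concl (G : Type*) [Group G] : Prop :=
    (∃ (F : Type) (_ : Field F) (_ : Fintype F),
        (Fintype.card F = 9 ∨ (∃ n : ℕ, Fintype.card F = 2 ^ n) ∨
          ((Fintype.card F).Prime ∧ ∃ k : ℕ, Fintype.card F = 2 ^ k + 1 ∨ Fintype.card F + 1 = 2 ^ k)) ∧
        Nonempty (G ≃* Matrix.ProjectiveSpecialLinearGroup (Fin 2) F)) ∨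
    (∃ (F : Type) (_ : Field F) (_ : Fintype F), Fintype.card F = 4 ∧
        Nonempty (G ≃* Matrix.ProjectiveSpecialLinearGroup (Fin 3) F)) ∨
    IsSuzuki G

/-- A nontrivial element of odd order commutes with no involution. -/
theorem eq_one_of_commute [Finite G] (hG : IsCIT G) {x t : G} (hx : Odd (orderOf x))
    (ht : orderOf t = 2) (hxt : Commute x t) : x = 1 := by
  obtain ⟨k, hk⟩ := IsPGroup.iff_orderOf.1 (hG t ht)
    ⟨x, mem_centralizer_singleton_iff.2 hxt.eq⟩
  rw [Subgroup.orderOf_mk] at hk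
  rcases k with _ | k
  · exact orderOf_eq_one_iff.1 (hk.trans (pow_zero 2))
  · rw [hk] at hx
    exact absurd hx (Nat.not_odd_iff_even.2 ⟨2 ^ k, by rw [pow_succ]; ring⟩)

/-- The centraliser of a nontrivial 2-subgroup is a 2-group. -/
theorem isPGroup_centralizer [Finite G] (hG : IsCIT G) {D : Subgroup G} (hD : IsPGroup 2 D)
    (hne : D ≠ ⊥) : IsPGroup 2 (centralizer (D : Set G)) := by
  haveI : Fact (Nat.Prime 2) := ⟨Nat.prime_two⟩
  obtain ⟨k, hk⟩ := IsPGroup.iff_card.1 hD
  have h2 : 2 ∣ Nat.card D := by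
    rcases k with _ | k
    · exact absurd (Subgroup.eq_bot_of_card_eq D (hk.trans (pow_zero 2))) hne
    · exact hk ▸ dvd_pow_self 2 k.succ_ne_zero
  obtain ⟨t, ht⟩ := exists_prime_orderOf_dvd_card' 2 h2
  refine (hG (t : G) (by rw [Subgroup.orderOf_coe, ht])).to_le ?_
  exact fun x hx => mem_centralizer_singleton_iff.2 (hx t t.2).symm

/-- A non-abelian finite simple group has even order. -/
theorem two_dvd_card [Finite G] [IsSimpleGroup G] (hne : ∃ a b : G, a * b ≠ b * a) :
    2 ∣ Nat.card G := by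
  by_contra h
  have hodd : Odd (Nat.card G) := Nat.not_even_iff_odd.1 fun he => h he.two_dvd
  obtain ⟨a, b, hab⟩ := hne
  exact hab (IsSimpleGroup.comm_iff_isSolvable.2 (S0205.result hodd) a b)

/-- A 2-local subgroup: a nontrivial 2-subgroup of it is normal in it. -/
def IsLocal (H : Subgroup G) : Prop :=
  ∃ D : Subgroup G, D ≤ H ∧ D ≠ ⊥ ∧ IsPGroup 2 D ∧ H ≤ normalizer (D : Set G)

/-- A maximal 2-local subgroup. -/
def IsMaxLocal (M : Subgroup G) : Prop :=
  IsLocal M ∧ ∀ H : Subgroup G, IsLocal H → M ≤ H → H = M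

/-- Two maximal 2-locals `N(V)`, `N(A)` over the common 2-group `P = V A` of order `q³`:
each induces `SL(2, q)` on its natural module. -/
structure Pair (q : ℕ) (P V A : Subgroup G) : Prop where
  two_le : 2 ≤ q
  P_two : IsPGroup 2 P
  elemV : IsElementaryAbelian 2 V
  elemA : IsElementaryAbelian 2 A
  ne : V ≠ A
  leV : V ≤ P
  leA : A ≤ P
  cardP : Nat.card P = q ^ 3
  cardV : Nat.card V = q ^ 2
  cardA : Nat.card A = q ^ 2
  cardInf : Nat.card (V ⊓ A : Subgroup G) = q
  eq_mul : ∀ x ∈ P, ∃ v ∈ V, ∃ a ∈ A, v * a = x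
  sq_cases : ∀ x ∈ P, x * x = 1 → x ∈ V ∨ x ∈ A
  comm_cases : ∀ v ∈ V, ∀ a ∈ A, Commute v a → v ∈ A ∨ a ∈ V
  centV : centralizer (V : Set G) = V
  centA : centralizer (A : Set G) = A
  normV : P ≤ normalizer (V : Set G)
  normA : P ≤ normalizer (A : Set G)
  maxV : IsMaxLocal (normalizer (V : Set G))
  maxA : IsMaxLocal (normalizer (A : Set G))
  cardNV : Nat.card (normalizer (V : Set G)) = q ^ 2 * ((q + 1) * q * (q - 1))
  cardNA : Nat.card (normalizer (A : Set G)) = q ^ 2 * ((q + 1) * q * (q - 1))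
  cardBV : Nat.card (normalizer (V : Set G) ⊓ normalizer (P : Set G) : Subgroup G) = q ^ 3 * (q - 1)
  cardBA : Nat.card (normalizer (A : Set G) ⊓ normalizer (P : Set G) : Subgroup G) = q ^ 3 * (q - 1)
  overV : ∀ Y : Subgroup G, P ≤ Y → Y ≤ normalizer (V : Set G) →
    Y ≤ normalizer (P : Set G) ∨ Y = normalizer (V : Set G)
  overA : ∀ Y : Subgroup G, P ≤ Y → Y ≤ normalizer (A : Set G) →
    Y ≤ normalizer (P : Set G) ∨ Y = normalizer (A : Set G)
  interV : ∀ g ∈ normalizer (V : Set G), g ∉ normalizer (P : Set G) →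
    P ⊓ P.map (MulAut.conj g).toMonoidHom = V
  interA : ∀ g ∈ normalizer (A : Set G), g ∉ normalizer (P : Set G) →
    P ⊓ P.map (MulAut.conj g).toMonoidHom = A
  transV : ∀ x ∈ V, ∀ y ∈ V, x ≠ 1 → y ≠ 1 →
    ∃ g ∈ normalizer (V : Set G), g * x * g⁻¹ = y
  transA : ∀ x ∈ A, ∀ y ∈ A, x ≠ 1 → y ≠ 1 →
    ∃ g ∈ normalizer (A : Set G), g * x * g⁻¹ = y

/-- The pair with the two sides exchanged. -/
theorem Pair.swap {q : ℕ} {P V A : Subgroup G} [Finite G] (h : Pair q P V A) : Pair q P A V where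
  two_le := h.two_le
  P_two := h.P_two
  elemV := h.elemA
  elemA := h.elemV
  ne := h.ne.symm
  leV := h.leA
  leA := h.leV
  cardP := h.cardP
  cardV := h.cardA
  cardA := h.cardV
  cardInf := by rw [inf_comm]; exact h.cardInf
  eq_mul := fun x hx => by
    obtain ⟨v, hv, a, ha, e⟩ := h.eq_mul x⁻¹ (inv_mem hx)
    exact ⟨a⁻¹, inv_mem ha, v⁻¹, inv_mem hv, by rw [← mul_inv_rev, e, inv_inv]⟩
  sq_cases := fun x hx hs => (h.sq_cases x hx hs).symm
  comm_cases := fun a ha v hv hc => (h.comm_cases v hv a ha hc.symm).symm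
  centV := h.centA
  centA := h.centV
  normV := h.normA
  normA := h.normV
  maxV := h.maxA
  maxA := h.maxV
  cardNV := h.cardNA
  cardNA := h.cardNV
  cardBV := h.cardBA
  cardBA := h.cardBV
  overV := h.overA
  overA := h.overV
  interV := h.interA
  interA := h.interV
  transV := h.transA
  transA := h.transV

end Cfsg.Agent.CIT
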