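import Cfsg.Agent.Lib.CIT.Defs
import Cfsg.Agent.Lib.PSL2.Classes
import Cfsg.Agent.Lib.TICentralisers.Zassenhaus
import Cfsg.Agent.Lib.FittingHeight.TwoPowerArith
import Cfsg.Agent.Lib.RankTwoSimple.Basic
import Cfsg.Agent.S0340
import Cfsg.Agent.S0508

/-!
# CIT groups: the recognition endings
-/

set_option autoImplicit false
set_option linter.style.haveILetI false

namespace Cfsg.Agent.CIT

open Subgroup
open Cfsg (IsSuzuki IsStronglyEmbedded)
open Cfsg.Agent.Involution

variable {G : Type*} [Group G] [Finite G] [IsSimpleGroup G]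

/-- The admissible orders of the field of a CIT group `PSL(2, q)` with `q` odd. -/
theorem prime_power_cases {p r k : ℕ} (hp : p.Prime) (hp2 : p ≠ 2) (hr : r ≠ 0)
    (h : p ^ r = 2 ^ k + 1 ∨ p ^ r + 1 = 2 ^ k) :
    p ^ r = 9 ∨ (p ^ r).Prime := by
  have hodd := hp.odd_of_ne_two hp2
  have h3 : 3 ≤ p := by have := hp.two_le; omega
  have hm : 3 ≤ p ^ r := h3.trans (Nat.le_self_pow hr p)
  rcases h with h | h
  · rcases FittingHeight.TwoPower.cases_of_pow_eq_add_one hodd h3 hr h with rfl | ⟨rfl, rfl⟩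
    · exact Or.inr (by rwa [pow_one])
    · exact Or.inl (by norm_num)
  · have hk : 2 ≤ k := by
      by_contra hk
      interval_cases k <;> omega
    obtain rfl := FittingHeight.TwoPower.eq_one_of_pow_add_one hodd hk h
    exact Or.inr (by rwa [pow_one])

/-- A CIT group isomorphic to some `PSL(2, q)` has `q` among the listed values. -/
theorem psl_field (hG : IsCIT G) (hne : ∃ a b : G, a * b ≠ b * a) (F : Type) [Field F]
    [Fintype F] (e : G ≃* Matrix.ProjectiveSpecialLinearGroup (Fin 2) F) :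
    Fintype.card F = 9 ∨ (∃ n : ℕ, Fintype.card F = 2 ^ n) ∨
      ((Fintype.card F).Prime ∧ ∃ k : ℕ, Fintype.card F = 2 ^ k + 1 ∨ Fintype.card F + 1 = 2 ^ k) := by
  classical
  haveI : Fact (Nat.Prime 2) := ⟨Nat.prime_two⟩
  obtain ⟨p, hpc⟩ := CharP.exists F
  obtain ⟨r, hp, hF⟩ := FiniteField.card F p
  rcases eq_or_ne p 2 with rfl | hp2
  · exact Or.inr (Or.inl ⟨r, hF⟩)
  have h2 : (2 : F) ≠ 0 := by
    intro h
    have h' : ((2 : ℕ) : F) = 0 := by exact_mod_cast h
    exact hp2 ((Nat.prime_dvd_prime_iff_eq hp Nat.prime_two).1 ((CharP.cast_eq_zero_iff F p 2).1 h'))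
  obtain ⟨x, hx⟩ := exists_prime_orderOf_dvd_card' 2 (two_dvd_card hne)
  have hP : IsPGroup 2 (centralizer ({e x} : Set (Matrix.ProjectiveSpecialLinearGroup (Fin 2) F))) := by
    refine ((hG x hx).map e.toMonoidHom).to_le fun y hy => ?_
    refine ⟨e.symm y, mem_centralizer_singleton_iff.2 (e.injective ?_), e.apply_symm_apply y⟩
    rw [map_mul, map_mul, e.apply_symm_apply]
    exact mem_centralizer_singleton_iff.1 hy
  obtain ⟨k, hk⟩ := IsPGroup.iff_card.1 hP
  obtain ⟨hc1, hc3⟩ := PSL2.card_centralizer_involution h2 (e.orderOf_eq x ▸ hx : orderOf (e x) = 2)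
  have hoddF : Fintype.card F % 2 = 1 := by
    rw [hF]; exact Nat.odd_iff.1 ((hp.odd_of_ne_two hp2).pow)
  have hk' : Fintype.card F = 2 ^ k + 1 ∨ Fintype.card F + 1 = 2 ^ k := by
    rcases (show Fintype.card F % 4 = 1 ∨ Fintype.card F % 4 = 3 by omega) with h | h
    · have := hc1 h
      have : 0 < Fintype.card F := Fintype.card_pos
      exact Or.inl (by omega)
    · have := hc3 h
      exact Or.inr (by omega)
  rcases prime_power_cases hp hp2 r.ne_zero (hF ▸ hk') with h | h
  · exact Or.inl (hF.trans h)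
  · exact Or.inr (Or.inr ⟨hF ▸ h, k, hk'⟩)

/-- A CIT group isomorphic to some `PSL(2, q)` satisfies the conclusion. -/
theorem concl_of_psl (hG : IsCIT G) (hne : ∃ a b : G, a * b ≠ b * a) (F : Type) [Field F]
    [Fintype F] (e : G ≃* Matrix.ProjectiveSpecialLinearGroup (Fin 2) F) : Concl G :=
  Or.inl ⟨F, inferInstance, inferInstance, psl_field hG hne F e, ⟨e⟩⟩

/-- A strongly embedded Sylow 2-normaliser in a CIT group gives the TI configuration. -/
theorem cfg_of_normalizer (hG : IsCIT G) (hne : ∃ a b : G, a * b ≠ b * a) (S : Sylow 2 G)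
    (hse : IsStronglyEmbedded (normalizer ((S : Subgroup G) : Set G))) :
    TICentralisers.Cfg (normalizer ((S : Subgroup G) : Set G)) (S : Subgroup G) := by
  classical
  haveI : Fact (Nat.Prime 2) := ⟨Nat.prime_two⟩
  set M := normalizer ((S : Subgroup G) : Set G) with hM
  have hSM : (S : Subgroup G) ≤ M := le_normalizer
  -- 2-subgroups of `M` lie in `S`
  have hMS : ∀ P : Subgroup G, IsPGroup 2 P → P ≤ M → P ≤ (S : Subgroup G) := fun P hP hPM x hx =>
    ((hP.inf_normalizer_sylow S).le ⟨hx, hPM hx⟩).2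
  haveI : Nontrivial (S : Subgroup G) :=
    (Subgroup.nontrivial_iff_ne_bot _).2 (S.ne_bot_of_dvd_card (two_dvd_card hne))
  haveI := S.2.center_nontrivial
  have hZ : 2 ∣ Nat.card (Subgroup.center (S : Subgroup G)) := by
    obtain ⟨n, hn, hc⟩ := (S.2.to_subgroup (Subgroup.center (S : Subgroup G))).nontrivial_iff_card.1
      inferInstance
    exact hc ▸ dvd_pow_self 2 hn.ne'
  obtain ⟨z, hz⟩ := exists_prime_orderOf_dvd_card' 2 hZ
  set t : G := ((z : (S : Subgroup G)) : G) with htdef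
  have ht2 : orderOf t = 2 := by rw [htdef, Subgroup.orderOf_coe, Subgroup.orderOf_coe, hz]
  have htM : t ∈ M := hSM (z : (S : Subgroup G)).2
  have hCt : centralizer ({t} : Set G) = (S : Subgroup G) := by
    refine le_antisymm (hMS _ (hG t ht2) fun x hx => ?_) fun x hx => ?_
    · exact StrongEmb.mem_of_commute hse htM ht2 (mem_centralizer_singleton_iff.1 hx)
    · exact mem_centralizer_singleton_iff.2
        (congrArg Subtype.val (Subgroup.mem_center_iff.1 z.2 ⟨x, hx⟩))
  have hC : ∀ s, s ∈ M → orderOf s = 2 → centralizer ({s} : Set G) = (S : Subgroup G) := by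
    intro s hs hs2
    obtain ⟨b, hb⟩ := isConj_iff.1 (StrongEmb.isConj_involutions hse ht2 hs2)
    have hbM : b ∈ M := StrongEmb.mem_of_conj_eq hse htM ht2 hb hs
    have hst : ∀ x : G, Commute x s ↔ Commute (b⁻¹ * x * b) t := fun x => by
      constructor <;> intro h
      · have h' := h.map (MulAut.conj b⁻¹).toMonoidHom
        simpa [← hb, mul_assoc] using h'
      · have h' := h.map (MulAut.conj b).toMonoidHom
        simpa [hb, mul_assoc] using h'
    ext x
    rw [mem_centralizer_singleton_iff]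
    change Commute x s ↔ _
    rw [hst x]
    change b⁻¹ * x * b * t = t * (b⁻¹ * x * b) ↔ _
    rw [← mem_centralizer_singleton_iff, hCt]
    exact (mem_normalizer_iff''.1 hbM x).symm
  have hnc : ¬ IsMulCommutative G := fun h => by
    obtain ⟨a, b, hab⟩ := hne
    exact hab (h.is_comm.comm a b)
  have hcfg : TICentralisers.Cfg M (S : Subgroup G) := by
    refine ⟨fun c hc ⟨s, hs2, hsc⟩ => ?_, hse, hC, fun A hA hAc => ?_⟩
    · -- `c` is a nontrivial 2-element
      obtain ⟨k, hk⟩ := IsPGroup.iff_orderOf.1 (hG s hs2)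
        ⟨c, mem_centralizer_singleton_iff.2 hsc.symm.eq⟩
      rw [Subgroup.orderOf_mk] at hk
      have hle : centralizer ({c} : Set G) ≤ centralizer ((zpowers c : Subgroup G) : Set G) :=
        fun x hx => mem_centralizer_iff.2 fun y hy => by
          obtain ⟨n, rfl⟩ := mem_zpowers_iff.1 hy
          exact ((show Commute x c from mem_centralizer_singleton_iff.1 hx).zpow_right n).symm.eq
      exact ((isPGroup_centralizer hG (IsPGroup.of_card (n := k) (by rw [Nat.card_zpowers, hk]))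
        (by rwa [Ne, zpowers_eq_bot])).to_le hle).isNilpotent
    · rcases IsSimpleGroup.eq_bot_or_eq_top_of_normal A hA with h | h
      · exact h
      · subst h
        exact absurd ⟨⟨fun a b => congrArg Subtype.val
          (hAc.is_comm.comm (⟨a, mem_top a⟩ : (⊤ : Subgroup G)) ⟨b, mem_top b⟩)⟩⟩ hnc
  exact hcfg

/-- The normaliser of a Sylow 2-subgroup strongly embedded: a Zassenhaus group. -/
theorem concl_of_normalizer (hG : IsCIT G) (hne : ∃ a b : G, a * b ≠ b * a) (S : Sylow 2 G)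
    (hse : IsStronglyEmbedded (normalizer ((S : Subgroup G) : Set G))) : Concl G := by
  have hcfg := cfg_of_normalizer hG hne S hse
  rcases S0340.result hcfg.isZassenhaus with ⟨F, iF, iFt, ⟨e⟩⟩ | h
  · exact @concl_of_psl _ _ _ _ hG hne F iF iFt e
  · exact Or.inr (Or.inr h)

/-- Dihedral Sylow 2-subgroups: Brauer–Suzuki–Wall. -/
theorem exists_psl_of_dihedral (hG : IsCIT G) (hne : ∃ a b : G, a * b ≠ b * a) (S : Sylow 2 G) (n : ℕ)
    (hn : 2 ≤ n) (eS : (S : Subgroup G) ≃* DihedralGroup n) :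
    ∃ (F : Type) (_ : Field F) (_ : Fintype F),
      Nonempty (G ≃* Matrix.ProjectiveSpecialLinearGroup (Fin 2) F) := by
  classical
  haveI : Fact (Nat.Prime 2) := ⟨Nat.prime_two⟩
  haveI : Nontrivial (S : Subgroup G) :=
    (Subgroup.nontrivial_iff_ne_bot _).2 (S.ne_bot_of_dvd_card (two_dvd_card hne))
  haveI := S.2.center_nontrivial
  have hZ : 2 ∣ Nat.card (Subgroup.center (S : Subgroup G)) := by
    obtain ⟨m, hm, hc⟩ := (S.2.to_subgroup (Subgroup.center (S : Subgroup G))).nontrivial_iff_card.1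
      inferInstance
    exact hc ▸ dvd_pow_self 2 hm.ne'
  obtain ⟨z, hz⟩ := exists_prime_orderOf_dvd_card' 2 hZ
  set t : G := ((z : (S : Subgroup G)) : G) with htdef
  have ht2 : orderOf t = 2 := by rw [htdef, Subgroup.orderOf_coe, Subgroup.orderOf_coe, hz]
  have hcore : Cfsg.oddCore (centralizer ({t} : Set G)) = ⊥ := by
    obtain ⟨k, hk⟩ := IsPGroup.iff_card.1 ((hG t ht2).to_subgroup
      (Cfsg.oddCore (centralizer ({t} : Set G))))
    have hodd := PCore.odd_card_oddCore (G := centralizer ({t} : Set G))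
    rcases k with _ | k
    · exact Subgroup.eq_bot_of_card_eq _ (hk.trans (pow_zero 2))
    · rw [hk] at hodd
      exact absurd hodd (Nat.not_odd_iff_even.2 ⟨2 ^ k, by rw [pow_succ]; ring⟩)
  have hbot : ∀ Y : Subgroup G,
      Y ≤ (Cfsg.oddCore (centralizer ({t} : Set G))).map (centralizer ({t} : Set G)).subtype →
      Y = ⊥ := fun Y hY => by rwa [hcore, Subgroup.map_bot, le_bot_iff] at hY
  obtain ⟨F, iF, iFt, -, ⟨e⟩⟩ := S0508.result S n hn ⟨eS⟩ t ht2 (z : (S : Subgroup G)).2
    (fun s hs => congrArg Subtype.val (Subgroup.mem_center_iff.1 z.2 ⟨s, hs⟩)) _ rfl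
    (fun h => absurd (hbot _ le_rfl) h)
    (fun s _ hs => absurd (mem_centralizer_iff.2 fun y hy => by
      rw [SetLike.mem_coe, hbot _ le_rfl, Subgroup.mem_bot] at hy
      rw [hy, one_mul, mul_one]) hs)
    (fun Y hY hY1 => absurd (hbot Y hY) hY1)
  exact ⟨F, iF, iFt, ⟨e⟩⟩

/-- Dihedral Sylow 2-subgroups give the conclusion. -/
theorem concl_of_dihedral (hG : IsCIT G) (hne : ∃ a b : G, a * b ≠ b * a) (S : Sylow 2 G) (n : ℕ)
    (hn : 2 ≤ n) (eS : (S : Subgroup G) ≃* DihedralGroup n) : Concl G := by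
  obtain ⟨F, iF, iFt, ⟨e⟩⟩ := exists_psl_of_dihedral hG hne S n hn eS
  exact @concl_of_psl _ _ _ _ hG hne F iF iFt e

end Cfsg.Agent.CIT
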