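import Mathlib

/-!
# The arithmetic behind the order `20160`

`m` is the number of involutions, `R` the set of orders of the tori inverted by involutions,
`f a` is `64` over the order of a torus normalizer modulo the torus and `n a` is the number of
real elements with centralizer of order `a`.
-/

set_option autoImplicit false

namespace Cfsg.Agent.CIT.FourCount

def fs : List ℕ := [32, 16, 8]

theorem check_one : ∀ a < 116, ∀ f ∈ fs, 15 ∣ 123 + f * (a - 1) → a ∣ 123 + f * (a - 1) →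
    64 / f ∣ a - 1 → 123 + f * (a - 1) = 315 := by
  decide +kernel

/-- `b` is the second order determined by `a`, the multiplier `t` and the weights. -/
def twoB (a t f g : ℕ) : ℕ := (123 + f * a - f - g) / (t * a - g)

/-- The conditions on two torus orders `a < b`. -/
def Two (a t f g b : ℕ) : Prop :=
  (123 + f * a - f - g) % (t * a - g) = 0 ∧ a < b ∧ g < t * a ∧ b % 2 = 1 ∧ 15 ∣ t * a * b ∧
    64 / f ∣ a - 1 ∧ 64 / g ∣ b - 1 ∧ f * (a - 1) * b + g * (b - 1) * a < 51 * a * b

instance (a t f g b : ℕ) : Decidable (Two a t f g b) := by unfold Two; infer_instance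

theorem check_two : ∀ a < 104, 3 ≤ a → a % 2 = 1 → ∀ t < 103 / a + 1, ∀ f ∈ fs, ∀ g ∈ fs,
    Two a t f g (twoB a t f g) → t * a * twoB a t f g = 315 := by
  decide +kernel

/-- `c` is the third order determined by `a`, `b`, the multiplier `t` and the weights. -/
def threeC (a b t f g k : ℕ) : ℕ := (123 + f * a + g * b - f - g - k) / (t * a * b - k)

/-- The conditions on three torus orders `a < b < c`. -/
def Three (a b t f g k c : ℕ) : Prop :=
  (123 + f * a + g * b - f - g - k) % (t * a * b - k) = 0 ∧ k < t * a * b ∧ b < c ∧ c % 2 = 1 ∧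
    15 ∣ t * a * b * c ∧ 64 / f ∣ a - 1 ∧ 64 / g ∣ b - 1 ∧ 64 / k ∣ c - 1 ∧
    f * (a - 1) * b * c + g * (b - 1) * a * c + k * (c - 1) * a * b < 51 * a * b * c

instance (a b t f g k c : ℕ) : Decidable (Three a b t f g k c) := by unfold Three; infer_instance

/-- No three orders start with `a < b`. -/
def NoThree (a b : ℕ) : Prop :=
  ∀ t < 115 / (a * b) + 1, ∀ f ∈ fs, ∀ g ∈ fs, ∀ k ∈ fs, ¬ Three a b t f g k (threeC a b t f g k)

instance (a b : ℕ) : Decidable (NoThree a b) := by unfold NoThree; infer_instance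

set_option synthInstance.maxSize 4000 in
theorem check_three : ∀ a < 12, 3 ≤ a → a % 2 = 1 → ∀ b < 40, a < b → b % 2 = 1 →
    NoThree a b := by
  decide +kernel

theorem mem_fs {x : ℕ} : x ∈ fs ↔ x = 32 ∨ x = 16 ∨ x = 8 := by simp [fs]

theorem le_32 {x : ℕ} (hx : x ∈ fs) : x ≤ 32 := by rcases mem_fs.1 hx with rfl | rfl | rfl <;> norm_num

theorem one_case {m a f : ℕ} (hf : f ∈ fs) (ha : 3 ≤ a) (hm : m = 123 + f * (a - 1)) (h15 : 15 ∣ m)
    (hdvd : a ∣ m) (he : 64 / f ∣ a - 1) : m = 315 := by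
  have hbound : a < 116 := by
    obtain ⟨t, ht⟩ := hdvd
    obtain ⟨a, rfl⟩ : ∃ a', a = a' + 1 := ⟨a - 1, by omega⟩
    rw [Nat.add_sub_cancel] at hm
    rcases mem_fs.1 hf with rfl | rfl | rfl
    · rcases le_or_gt t 32 with h | h <;> nlinarith
    · rcases le_or_gt t 16 with h | h <;> nlinarith
    · rcases le_or_gt t 8 with h | h <;> nlinarith
  subst hm
  exact check_one a hbound f hf h15 hdvd he

theorem two_case {m a b f g t : ℕ} (hf : f ∈ fs) (hg : g ∈ fs) (ha : 3 ≤ a) (hab : a < b)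
    (hao : a % 2 = 1) (hbo : b % 2 = 1) (ht : m = t * a * b)
    (hm : m = 123 + f * (a - 1) + g * (b - 1)) (h15 : 15 ∣ m)
    (hea : 64 / f ∣ a - 1) (heb : 64 / g ∣ b - 1)
    (hd : f * (a - 1) * b + g * (b - 1) * a < 51 * a * b) : m = 315 := by
  have hf' := le_32 hf
  have hg' := le_32 hg
  have hfa : f ≤ f * a := Nat.le_mul_of_pos_right _ (by omega)
  have hgb : g ≤ g * b := Nat.le_mul_of_pos_right _ (by omega)
  rw [Nat.mul_sub_one, Nat.mul_sub_one] at hm
  have hta : g < t * a := by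
    by_contra h
    have := Nat.mul_le_mul_right b (not_lt.1 h)
    omega
  have heq : (t * a - g) * b = 123 + f * a - f - g := by rw [Nat.sub_mul]; omega
  have hD : 0 < t * a - g := Nat.sub_pos_of_lt hta
  have hbound : t * a ≤ 103 := by
    by_contra h
    have h1 : (t * a - g) * (a + 1) ≤ (t * a - g) * b := Nat.mul_le_mul_left _ hab
    have h2 : (f + 40) * a ≤ (t * a - g) * a := Nat.mul_le_mul_right _ (by omega)
    rw [Nat.mul_succ] at h1
    rw [Nat.add_mul] at h2
    have h3 : 120 ≤ 40 * a := by omega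
    omega
  have hta' : t < 103 / a + 1 := Nat.lt_succ_of_le ((Nat.le_div_iff_mul_le (by omega)).2 hbound)
  have ha' : a < 104 := by
    rcases Nat.eq_zero_or_pos t with rfl | htpos
    · simp at hta
    · have := Nat.le_mul_of_pos_left a htpos
      omega
  have hb : twoB a t f g = b := by
    unfold twoB
    rw [← heq, Nat.mul_div_cancel_left _ hD]
  have key := check_two a ha' ha hao t hta' f hf g hg
  rw [hb] at key
  refine ht.trans (key ⟨?_, hab, hta, hbo, ht ▸ h15, hea, heb, hd⟩)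
  rw [← heq, Nat.mul_mod_right]

theorem three_case {m a b c f g k t : ℕ} (hf : f ∈ fs) (hg : g ∈ fs) (hk : k ∈ fs) (ha : 3 ≤ a)
    (hab : a < b) (hbc : b < c) (hao : a % 2 = 1) (hbo : b % 2 = 1) (hco : c % 2 = 1)
    (ht : m = t * a * b * c) (hm : m = 123 + f * (a - 1) + g * (b - 1) + k * (c - 1)) (h15 : 15 ∣ m)
    (hea : 64 / f ∣ a - 1) (heb : 64 / g ∣ b - 1) (hec : 64 / k ∣ c - 1)
    (hd : f * (a - 1) * b * c + g * (b - 1) * a * c + k * (c - 1) * a * b < 51 * a * b * c) :
    False := by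
  have hf' := le_32 hf
  have hg' := le_32 hg
  have hk' := le_32 hk
  have hfa : f ≤ f * a := Nat.le_mul_of_pos_right _ (by omega)
  have hgb : g ≤ g * b := Nat.le_mul_of_pos_right _ (by omega)
  have hkc : k ≤ k * c := Nat.le_mul_of_pos_right _ (by omega)
  rw [Nat.mul_sub_one, Nat.mul_sub_one, Nat.mul_sub_one] at hm
  have hta : k < t * a * b := by
    by_contra h
    have := Nat.mul_le_mul_right c (not_lt.1 h)
    omega
  have heq : (t * a * b - k) * c = 123 + f * a + g * b - f - g - k := by rw [Nat.sub_mul]; omega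
  have hD : 0 < t * a * b - k := Nat.sub_pos_of_lt hta
  have hbound : t * (a * b) ≤ 115 := by
    rw [← mul_assoc]
    by_contra h
    have h1 : (t * a * b - k) * (b + 1) ≤ (t * a * b - k) * c := Nat.mul_le_mul_left _ hbc
    have h2 : (f + g + 20) * b ≤ (t * a * b - k) * b := Nat.mul_le_mul_right _ (by omega)
    rw [Nat.mul_succ] at h1
    rw [Nat.add_mul, Nat.add_mul] at h2
    have h3 : 100 ≤ 20 * b := by omega
    have h4 : f * a ≤ f * b := Nat.mul_le_mul_left _ hab.le
    omega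
  have htpos : 1 ≤ t := Nat.pos_of_ne_zero fun e => by subst e; simp at hta
  have hab' : a * b ≤ 115 := le_trans (Nat.le_mul_of_pos_left _ htpos) hbound
  have ha' : a < 12 := by
    by_contra h
    have := Nat.mul_le_mul (not_lt.1 h) (show 13 ≤ b by omega)
    omega
  have hb' : b < 40 := by
    have := Nat.mul_le_mul_right b ha
    omega
  have hta' : t < 115 / (a * b) + 1 :=
    Nat.lt_succ_of_le ((Nat.le_div_iff_mul_le (Nat.mul_pos (by omega) (by omega))).2 hbound)
  have key := check_three a ha' ha hao b hb' hab hbo t hta' f hf g hg k hk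
  have hc : threeC a b t f g k = c := by
    unfold threeC
    rw [← heq, Nat.mul_div_cancel_left _ hD]
  rw [hc] at key
  exact key ⟨by rw [← heq, Nat.mul_mod_right], hta, hbc, hco, ht ▸ h15, hea, heb, hec, hd⟩

/-- Four or more odd numbers have a product exceeding `123 + 32 Σ (a - 1)`. -/
theorem big_prod {R : Finset ℕ} (hR : ∀ a ∈ R, 3 ≤ a ∧ a % 2 = 1) (hc : 4 ≤ R.card) :
    123 + 32 * ∑ a ∈ R, (a - 1) < ∏ a ∈ R, a := by
  obtain ⟨R₀, hsub, h4⟩ := Finset.exists_subset_card_eq hc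
  have base : 123 + 32 * ∑ a ∈ R₀, (a - 1) < ∏ a ∈ R₀, a ∧ 100 ≤ ∏ a ∈ R₀, a := by
    have hle : 123 + 32 * ∑ a ∈ R₀, (a - 1) < ∏ a ∈ R₀, a := by
      have e := R₀.map_orderEmbOfFin_univ h4
      have mono := (R₀.orderEmbOfFin h4).strictMono
      have memR : ∀ i, R₀.orderEmbOfFin h4 i ∈ R := fun i => hsub (R₀.orderEmbOfFin_mem h4 i)
      rw [← e, Finset.sum_map, Finset.prod_map, Fin.sum_univ_four, Fin.prod_univ_four]
      have h01 := mono (show (0 : Fin 4) < 1 by decide)
      have h12 := mono (show (1 : Fin 4) < 2 by decide)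
      have h23 := mono (show (2 : Fin 4) < 3 by decide)
      have ha := hR _ (memR 0)
      have hb := hR _ (memR 1)
      have hc := hR _ (memR 2)
      have hd := hR _ (memR 3)
      simp only [RelEmbedding.coe_toEmbedding] at *
      obtain ⟨x, hx⟩ : ∃ x, R₀.orderEmbOfFin h4 0 = x + 3 := ⟨_, (Nat.sub_add_cancel ha.1).symm⟩
      obtain ⟨y, hy⟩ : ∃ y, R₀.orderEmbOfFin h4 1 = y + 5 :=
        ⟨R₀.orderEmbOfFin h4 1 - 5, by omega⟩
      obtain ⟨z, hz⟩ : ∃ z, R₀.orderEmbOfFin h4 2 = z + 7 :=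
        ⟨R₀.orderEmbOfFin h4 2 - 7, by omega⟩
      obtain ⟨w, hw⟩ : ∃ w, R₀.orderEmbOfFin h4 3 = w + 9 :=
        ⟨R₀.orderEmbOfFin h4 3 - 9, by omega⟩
      rw [hx, hy, hz, hw]
      simp only [Nat.succ_sub_succ_eq_sub, Nat.sub_zero]
      ring_nf
      omega
    exact ⟨hle, by omega⟩
  have ext : ∀ T : Finset ℕ, Disjoint R₀ T → (∀ a ∈ T, 3 ≤ a) →
      123 + 32 * ∑ a ∈ R₀ ∪ T, (a - 1) < ∏ a ∈ R₀ ∪ T, a ∧ 100 ≤ ∏ a ∈ R₀ ∪ T, a := by
    intro T
    induction T using Finset.induction_on with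
    | empty => intro _ _; simpa using base
    | insert x T hx ih =>
      intro hdisj hT
      rw [Finset.disjoint_insert_right] at hdisj
      obtain ⟨i1, i2⟩ := ih hdisj.2 fun a ha => hT a (Finset.mem_insert_of_mem ha)
      have hxn : x ∉ R₀ ∪ T := by simp [hdisj.1, hx]
      have hx3 := hT x (Finset.mem_insert_self x T)
      rw [Finset.union_insert, Finset.sum_insert hxn, Finset.prod_insert hxn]
      have h1 := Nat.mul_le_mul hx3 i2
      obtain ⟨y, rfl⟩ : ∃ y, x = y + 1 := ⟨x - 1, by omega⟩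
      have h2 := Nat.mul_le_mul_left y i2
      rw [Nat.add_mul, one_mul] at h1 ⊢
      constructor <;> omega
  have := (ext (R \ R₀) Finset.disjoint_sdiff fun a ha => (hR a (Finset.sdiff_subset ha)).1).1
  rwa [Finset.union_sdiff_of_subset hsub] at this

theorem prod_dvd {R : Finset ℕ} {m : ℕ} (hd : ∀ a ∈ R, a ∣ m)
    (hco : ∀ a ∈ R, ∀ b ∈ R, a ≠ b → Nat.Coprime a b) : ∏ a ∈ R, a ∣ m := by
  induction R using Finset.induction_on with
  | empty => simp
  | insert x T hx ih =>
    rw [Finset.prod_insert hx]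
    refine Nat.Coprime.mul_dvd_of_dvd_of_dvd (Nat.Coprime.prod_right fun i hi => ?_)
      (hd x (Finset.mem_insert_self x T))
      (ih (fun a ha => hd a (Finset.mem_insert_of_mem ha)) fun a ha b hb =>
        hco a (Finset.mem_insert_of_mem ha) b (Finset.mem_insert_of_mem hb))
    exact hco x (Finset.mem_insert_self x T) i (Finset.mem_insert_of_mem hi) fun e => hx (e ▸ hi)

/-- The arithmetic conclusion. -/
theorem arith (m : ℕ) (R : Finset ℕ) (f n : ℕ → ℕ)
    (hm : m = 123 + ∑ a ∈ R, f a * (a - 1)) (h15 : 15 ∣ m)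
    (hR : ∀ a ∈ R, 3 ≤ a ∧ a % 2 = 1 ∧ a ∣ m ∧ f a ∈ fs ∧ 64 / f a ∣ a - 1)
    (hco : ∀ a ∈ R, ∀ b ∈ R, a ≠ b → Nat.Coprime a b)
    (hn : ∀ a ∈ R, n a * a = f a * (a - 1) * m)
    (hd : ∑ a ∈ R, n a < 51 * m) : m = 315 := by
  have hprod := prod_dvd (fun a ha => (hR a ha).2.2.1) hco
  rcases Nat.lt_or_ge R.card 4 with hc | hc
  swap
  · exfalso
    have h1 := big_prod (fun a ha => ⟨(hR a ha).1, (hR a ha).2.1⟩) hc
    have h2 : ∑ a ∈ R, f a * (a - 1) ≤ 32 * ∑ a ∈ R, (a - 1) := by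
      rw [Finset.mul_sum]
      exact Finset.sum_le_sum fun a ha => Nat.mul_le_mul_right _ (le_32 (hR a ha).2.2.2.1)
    have := Nat.le_of_dvd (by omega) hprod
    omega
  have e := R.map_orderEmbOfFin_univ rfl
  obtain hc | hc | hc | hc : R.card = 0 ∨ R.card = 1 ∨ R.card = 2 ∨ R.card = 3 := by omega
  · rw [Finset.card_eq_zero.1 hc] at hm
    simp at hm
    omega
  · obtain ⟨a, rfl⟩ := Finset.card_eq_one.1 hc
    simp only [Finset.sum_singleton] at hm
    obtain ⟨h3, ho, hdv, hf, he⟩ := hR a (Finset.mem_singleton_self a)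
    exact one_case hf h3 hm h15 hdv he
  · obtain ⟨x, y, hxy, rfl⟩ := Finset.card_eq_two.1 hc
    rw [Finset.sum_pair hxy] at hm hd
    rw [Finset.prod_pair hxy] at hprod
    obtain ⟨t, ht⟩ := hprod
    have hx := hR x (by simp)
    have hy := hR y (by simp)
    have e1 := hn x (by simp)
    have e2 := hn y (by simp)
    have hd' : f x * (x - 1) * y + f y * (y - 1) * x < 51 * x * y := by
      refine Nat.lt_of_mul_lt_mul_right (a := m) ?_
      calc (f x * (x - 1) * y + f y * (y - 1) * x) * m = (n x + n y) * (x * y) := by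
            linear_combination y * e1.symm + x * e2.symm
        _ < 51 * m * (x * y) := Nat.mul_lt_mul_of_pos_right hd (Nat.mul_pos (by omega) (by omega))
        _ = 51 * x * y * m := by ring
    rcases lt_or_gt_of_ne hxy with h | h
    · exact two_case (t := t) hx.2.2.2.1 hy.2.2.2.1 hx.1 h hx.2.1 hy.2.1 (by rw [ht]; ring)
        (by omega) h15 hx.2.2.2.2 hy.2.2.2.2 hd'
    · exact two_case (t := t) hy.2.2.2.1 hx.2.2.2.1 hy.1 h hy.2.1 hx.2.1 (by rw [ht]; ring)
        (by omega) h15 hy.2.2.2.2 hx.2.2.2.2 (by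
          calc f y * (y - 1) * x + f x * (x - 1) * y < 51 * x * y := by omega
            _ = 51 * y * x := by ring)
  · exfalso
    have e := R.map_orderEmbOfFin_univ hc
    set v := R.orderEmbOfFin hc
    have memR : ∀ i, v i ∈ R := fun i => R.orderEmbOfFin_mem hc i
    rw [← e, Finset.sum_map, Fin.sum_univ_three] at hm hd
    rw [← e, Finset.prod_map, Fin.prod_univ_three] at hprod
    simp only [RelEmbedding.coe_toEmbedding] at hm hd hprod
    obtain ⟨t, ht⟩ := hprod
    have hx := hR _ (memR 0)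
    have hy := hR _ (memR 1)
    have hz := hR _ (memR 2)
    have hd' : f (v 0) * (v 0 - 1) * v 1 * v 2 + f (v 1) * (v 1 - 1) * v 0 * v 2 +
        f (v 2) * (v 2 - 1) * v 0 * v 1 < 51 * v 0 * v 1 * v 2 := by
      refine Nat.lt_of_mul_lt_mul_right (a := m) ?_
      calc (f (v 0) * (v 0 - 1) * v 1 * v 2 + f (v 1) * (v 1 - 1) * v 0 * v 2 +
            f (v 2) * (v 2 - 1) * v 0 * v 1) * m
          = (n (v 0) + n (v 1) + n (v 2)) * (v 0 * v 1 * v 2) := by
            have e0 := hn _ (memR 0)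
            have e1 := hn _ (memR 1)
            have e2 := hn _ (memR 2)
            linear_combination (v 1 * v 2) * e0.symm + (v 0 * v 2) * e1.symm +
              (v 0 * v 1) * e2.symm
        _ < 51 * m * (v 0 * v 1 * v 2) :=
          Nat.mul_lt_mul_of_pos_right hd (Nat.mul_pos (Nat.mul_pos (by omega) (by omega)) (by omega))
        _ = 51 * v 0 * v 1 * v 2 * m := by ring
    exact three_case (t := t) hx.2.2.2.1 hy.2.2.2.1 hz.2.2.2.1 hx.1
      (v.strictMono (by decide)) (v.strictMono (by decide)) hx.2.1 hy.2.1 hz.2.1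
      (by rw [ht]; ring) (by omega) h15 hx.2.2.2.2 hy.2.2.2.2 hz.2.2.2.2 hd'

end Cfsg.Agent.CIT.FourCount
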