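import Cfsg.Agent.Lib.CIT.FourCountTorus
import Cfsg.Agent.Lib.CIT.FourCountArith
import Cfsg.Agent.Lib.ConjFun.Basic
import Cfsg.Agent.Lib.CLarge.Basic

/-!
# The order of a simple CIT group with a pair for `q = 4`

There is one class of involutions, with centralizers Sylow subgroups of order `64`. Counting the
pairs of an involution and an element of odd order inverted by it gives `|G| = 64 * 315`.
-/

set_option autoImplicit false
set_option linter.unusedSectionVars false

namespace Cfsg.Agent.CIT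

open Subgroup
open scoped Classical

namespace FourCount

variable {G : Type*} [Group G] [Finite G]

theorem centralizer_conj (g y : G) :
    centralizer ({g * y * g⁻¹} : Set G) =
      (centralizer ({y} : Set G)).map (MulAut.conj g).toMonoidHom := by
  ext d
  rw [ConjFun.mem_conjMap, mem_centralizer_singleton_iff, mem_centralizer_singleton_iff]
  constructor
  · intro h
    calc g⁻¹ * d * g * y = g⁻¹ * (d * (g * y * g⁻¹)) * g := by group
      _ = y * (g⁻¹ * d * g) := by rw [h]; group
  · intro h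
    calc d * (g * y * g⁻¹) = g * (g⁻¹ * d * g * y) * g⁻¹ := by group
      _ = g * y * g⁻¹ * d := by rw [h]; group

theorem inv_conj {x z : G} (g : G) (hx : x ∈ Inv z) : g * x * g⁻¹ ∈ Inv (g * z * g⁻¹) := by
  refine ⟨fun e => hx.1 (conj_eq_one_iff.1 e), by rw [orderOf_conj]; exact hx.2.1, ?_⟩
  calc g * z * g⁻¹ * (g * x * g⁻¹) * (g * z * g⁻¹)⁻¹ = g * (z * x * z⁻¹) * g⁻¹ := by group
    _ = (g * x * g⁻¹)⁻¹ := by rw [hx.2.2]; group

variable {P V A : Subgroup G}

section Sylow2

variable (h : Pair 4 P V A) (S : Sylow 2 G) (hSP : (S : Subgroup G) = P) (hG : IsCIT G)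

include h

theorem sqV {x : G} (hx : x ∈ V) : x * x = 1 := by rw [← pow_two]; exact h.elemV.2 x hx

theorem sqA {x : G} (hx : x ∈ A) : x * x = 1 := by rw [← pow_two]; exact h.elemA.2 x hx

theorem commV {x y : G} (hx : x ∈ V) (hy : y ∈ V) : Commute x y :=
  congrArg Subtype.val (h.elemV.1.is_comm.comm ⟨x, hx⟩ ⟨y, hy⟩)

theorem commA {x y : G} (hx : x ∈ A) (hy : y ∈ A) : Commute x y :=
  congrArg Subtype.val (h.elemA.1.is_comm.comm ⟨x, hx⟩ ⟨y, hy⟩)

theorem commute_inf {w p : G} (hw : w ∈ V ⊓ A) (hp : p ∈ P) : Commute p w := by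
  obtain ⟨v, hv, a, ha, rfl⟩ := h.eq_mul p hp
  exact ((commV h hv hw.1).mul_left (commA h ha hw.2))

/-- Squares of `P` lie in `V ⊓ A`. -/
theorem sq_mem {p : G} (hp : p ∈ P) : p * p ∈ V ⊓ A := by
  obtain ⟨v, hv, a, ha, rfl⟩ := h.eq_mul p hp
  have ha' : a⁻¹ = a := inv_eq_of_mul_eq_one_right (sqA h ha)
  have hv' : v⁻¹ = v := inv_eq_of_mul_eq_one_right (sqV h hv)
  refine mem_inf.2 ⟨?_, ?_⟩
  · have h1 := (mem_normalizer_iff.1 (h.normV (h.leA ha)) v).1 hv
    rw [ha'] at h1
    simpa [mul_assoc] using mul_mem hv h1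
  · have h1 := (mem_normalizer_iff.1 (h.normA (h.leV hv)) a).1 ha
    rw [hv'] at h1
    simpa [mul_assoc] using mul_mem h1 ha

theorem pow_four {p : G} (hp : p ∈ P) : (p * p) * (p * p) = 1 := sqV h (sq_mem h hp).1

theorem exists_ne_one : ∃ w ∈ V ⊓ A, w ≠ 1 := by
  have : Nontrivial (V ⊓ A : Subgroup G) :=
    Finite.one_lt_card_iff_nontrivial.1 (by rw [h.cardInf]; norm_num)
  exact (Subgroup.nontrivial_iff_exists_ne_one _).1 this

theorem orderOf_inf {w : G} (hw : w ∈ V ⊓ A) (hw1 : w ≠ 1) : orderOf w = 2 :=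
  orderOf_two_iff.2 ⟨hw1, sqV h hw.1⟩

include hSP

theorem card_G : Nat.card G = 64 * P.index ∧ ¬ 2 ∣ P.index := by
  refine ⟨?_, hSP ▸ S.not_dvd_index⟩
  rw [← Subgroup.card_mul_index P, h.cardP]
  norm_num

theorem exists_conj_mem_P {t : G} {k : ℕ} (ht : orderOf t = 2 ^ k) : ∃ g : G, g * t * g⁻¹ ∈ P := by
  obtain ⟨Q, hQ⟩ := (IsPGroup.of_card (p := 2) (n := k) (by rw [Nat.card_zpowers, ht]) :
    IsPGroup 2 (zpowers t)).exists_le_sylow
  obtain ⟨g, hg⟩ := MulAction.exists_smul_eq G Q S
  refine ⟨g, ?_⟩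
  rw [← hSP, ← hg, Sylow.coe_subgroup_smul]
  exact Subgroup.smul_mem_pointwise_smul _ (MulAut.conj g) _ (hQ (mem_zpowers t))

include hG

/-- The centralizer of an involution of `V ⊓ A` is `P`. -/
theorem cent_inf {w : G} (hw : w ∈ V ⊓ A) (hw1 : w ≠ 1) : centralizer ({w} : Set G) = P := by
  have hle : P ≤ centralizer ({w} : Set G) := fun p hp =>
    mem_centralizer_singleton_iff.2 (commute_inf h hw hp).eq
  rw [← hSP] at hle ⊢
  exact S.is_maximal' (hG w (orderOf_inf h hw hw1)) hle

/-- All involutions are conjugate. -/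
theorem exists_conj {w t : G} (hw : w ∈ V ⊓ A) (hw1 : w ≠ 1) (ht : orderOf t = 2) :
    ∃ g : G, g * w * g⁻¹ = t := by
  obtain ⟨g, hg⟩ := exists_conj_mem_P h S hSP (k := 1) (by rw [ht, pow_one])
  have ht' : orderOf (g * t * g⁻¹) = 2 := by rw [orderOf_conj, ht]
  obtain ⟨hne, hsq⟩ := orderOf_two_iff.1 ht'
  rcases h.sq_cases _ hg hsq with e | e
  · obtain ⟨k, -, hk⟩ := h.transV w hw.1 _ e hw1 hne
    exact ⟨g⁻¹ * k, by rw [mul_inv_rev, inv_inv]; calc
      g⁻¹ * k * w * (k⁻¹ * g) = g⁻¹ * (k * w * k⁻¹) * g := by group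
      _ = t := by rw [hk]; group⟩
  · obtain ⟨k, -, hk⟩ := h.transA w hw.2 _ e hw1 hne
    exact ⟨g⁻¹ * k, by rw [mul_inv_rev, inv_inv]; calc
      g⁻¹ * k * w * (k⁻¹ * g) = g⁻¹ * (k * w * k⁻¹) * g := by group
      _ = t := by rw [hk]; group⟩

theorem cent_conj_P {t : G} (ht : orderOf t = 2) :
    ∃ g : G, centralizer ({t} : Set G) = P.map (MulAut.conj g).toMonoidHom := by
  obtain ⟨w, hw, hw1⟩ := exists_ne_one h
  obtain ⟨g, rfl⟩ := exists_conj h S hSP hG hw hw1 ht
  exact ⟨g, by rw [centralizer_conj, cent_inf h S hSP hG hw hw1]⟩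

theorem card_involutions : {t : G | orderOf t = 2}.ncard = P.index := by
  obtain ⟨w, hw, hw1⟩ := exists_ne_one h
  have hset : {t : G | orderOf t = 2} = Set.range fun g : G => g * w * g⁻¹ := by
    ext t
    refine ⟨fun ht => exists_conj h S hSP hG hw hw1 ht, ?_⟩
    rintro ⟨g, rfl⟩
    exact (orderOf_conj g w).trans (orderOf_inf h hw hw1)
  have h1 := ncard_conj_mul w
  rw [← hset, cent_inf h S hSP hG hw hw1, (card_G h S hSP).1, h.cardP] at h1
  omega

/-- A 2-group centralizing an involution, with that as its only involution, has order at most `8`. -/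
theorem card_le_eight {z : G} (hz : orderOf z = 2) (E : Subgroup G)
    (hE : E ≤ centralizer ({z} : Set G)) (huniq : ∀ j ∈ E, orderOf j = 2 → j = z) :
    Nat.card E ≤ 8 := by
  obtain ⟨g, hg⟩ := cent_conj_P h S hSP hG hz
  let V' := V.map (MulAut.conj g).toMonoidHom
  have hV' : Nat.card V' = 16 := by
    rw [ConjFun.card_conjMap, h.cardV]
    norm_num
  have hsup : Nat.card (E ⊔ V' : Subgroup G) ≤ 64 := by
    have hle : E ⊔ V' ≤ P.map (MulAut.conj g).toMonoidHom :=
      sup_le (hg ▸ hE) (Subgroup.map_mono h.leV)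
    refine le_trans (Subgroup.card_le_of_le hle) ?_
    rw [ConjFun.card_conjMap, h.cardP]
    norm_num
  have hinf : Nat.card (E ⊓ V' : Subgroup G) ≤ 2 := by
    have hsub : ((E ⊓ V' : Subgroup G) : Set G) ⊆ {1, z} := by
      rintro x ⟨hxE, v, hv, rfl⟩
      by_cases hv1 : (MulAut.conj g).toMonoidHom v = 1
      · exact Or.inl hv1
      · exact Or.inr (huniq _ hxE (orderOf_two_iff.2 ⟨hv1, by rw [← map_mul, sqV h hv, map_one]⟩))
    calc Nat.card (E ⊓ V' : Subgroup G) = ((E ⊓ V' : Subgroup G) : Set G).ncard :=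
          (Nat.card_coe_set_eq _)
      _ ≤ ({1, z} : Set G).ncard := Set.ncard_le_ncard hsub
      _ ≤ 2 := by
          refine (Set.ncard_insert_le _ _).trans ?_
          rw [Set.ncard_singleton]
  have h1 := CLarge.card_mul_card_le E V'
  have h2 := Nat.mul_le_mul hsup hinf
  rw [hV'] at h1
  omega

omit hG hSP in
theorem ncard_union : ((V : Set G) ∪ A).ncard = 28 := by
  have h1 := Set.ncard_union_add_ncard_inter (V : Set G) (A : Set G)
  rw [← Subgroup.coe_inf, ← Nat.card_coe_set_eq (V : Set G), ← Nat.card_coe_set_eq (A : Set G),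
    ← Nat.card_coe_set_eq ((V ⊓ A : Subgroup G) : Set G)] at h1
  simp only [SetLike.coe_sort_coe, h.cardV, h.cardA, h.cardInf] at h1
  omega

omit hG hSP in
theorem sq_one_iff {p : G} (hp : p ∈ P) : p * p = 1 ↔ p ∈ (V : Set G) ∪ A :=
  ⟨fun e => h.sq_cases p hp e, fun e => e.elim (sqV h) (sqA h)⟩

/-- An involution has exactly `12` square roots. -/
theorem ncard_sqrt {t : G} (ht : orderOf t = 2) : {x : G | x * x = t}.ncard = 12 := by
  obtain ⟨w₀, hw₀, hw₀1⟩ := exists_ne_one h
  have hinv : ∀ g w : G, {x : G | x * x = g * w * g⁻¹}.ncard = {x : G | x * x = w}.ncard := by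
    intro g w
    rw [← Set.ncard_image_of_injective {x : G | x * x = w} (MulAut.conj g).injective]
    congr 1
    ext y
    constructor
    · intro hy
      refine ⟨g⁻¹ * y * g, ?_, by simp [mul_assoc]⟩
      calc g⁻¹ * y * g * (g⁻¹ * y * g) = g⁻¹ * (y * y) * g := by group
        _ = w := by rw [hy]; group
    · rintro ⟨x, hx, rfl⟩
      show (MulAut.conj g) x * (MulAut.conj g) x = _
      rw [← map_mul, hx]
      rfl
  have hconst : ∀ w, orderOf w = 2 → {x : G | x * x = w}.ncard = {x : G | x * x = w₀}.ncard := by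
    intro w hw
    obtain ⟨g, rfl⟩ := exists_conj h S hSP hG hw₀ hw₀1 hw
    exact hinv g w₀
  rw [hconst t ht]
  letI := Fintype.ofFinite G
  have h36 : ((P : Set G) \ ((V : Set G) ∪ A)).ncard = 36 := by
    rw [Set.ncard_sdiff (Set.union_subset h.leV h.leA), ncard_union h]
    have : (P : Set G).ncard = 64 := by
      rw [← Nat.card_coe_set_eq]
      exact h.cardP.trans (by norm_num)
    omega
  rw [Set.ncard_eq_toFinset_card'] at h36
  have h3 : (((V ⊓ A : Subgroup G) : Set G) \ {1}).toFinset.card = 3 := by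
    rw [← Set.ncard_eq_toFinset_card', Set.ncard_sdiff_singleton_of_mem (one_mem _),
      ← Nat.card_coe_set_eq]
    simp only [SetLike.coe_sort_coe, h.cardInf]
  rw [Finset.card_eq_sum_card_fiberwise (f := fun p : G => p * p)
    (t := (((V ⊓ A : Subgroup G) : Set G) \ {1}).toFinset)] at h36
  · rw [Finset.sum_congr rfl (g := fun _ => {x : G | x * x = w₀}.ncard) ?_, Finset.sum_const,
      smul_eq_mul, h3] at h36
    · omega
    intro w hw
    rw [Set.mem_toFinset] at hw
    obtain ⟨hw, hw1⟩ := hw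
    rw [← hconst w (orderOf_inf h hw hw1), ← Set.ncard_coe_finset]
    congr 1
    ext x
    simp only [Finset.coe_filter, Set.mem_toFinset, Set.mem_setOf_eq]
    refine ⟨fun e => e.2, fun e => ⟨?_, e⟩⟩
    have hxP : x ∈ P := by
      rw [← cent_inf h S hSP hG hw hw1, mem_centralizer_singleton_iff, ← e, mul_assoc]
    exact ⟨hxP, fun e' => hw1 (e ▸ (sq_one_iff h hxP).2 e')⟩
  · intro x hx
    simp only [Finset.mem_coe, Set.mem_toFinset] at hx ⊢
    exact ⟨sq_mem h hx.1, fun e => hx.2 ((sq_one_iff h hx.1).1 e)⟩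

omit hSP hG in
/-- In `P`, the commutator map from `A` by an element of `V \ A` has fibres of size `4`. -/
theorem ncard_comm_fibre {v w : G} (hv : v ∈ V) (hvA : v ∉ A) (hw : w ∈ V ⊓ A) :
    {a : G | a ∈ A ∧ v * a * (v * a) = w}.ncard = 4 := by
  have hv' : v⁻¹ = v := inv_eq_of_mul_eq_one_right (sqV h hv)
  have hnA : ∀ a ∈ A, v * a * v ∈ A := fun a ha => by
    have := (mem_normalizer_iff.1 (h.normA (h.leV hv)) a).1 ha
    rwa [hv'] at this
  let φ : A →* (V ⊓ A : Subgroup G) :=
    { toFun := fun a => ⟨v * a * (v * a), sq_mem h (mul_mem (h.leV hv) (h.leA a.2))⟩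
      map_one' := Subtype.ext (by simp [sqV h hv])
      map_mul' := fun a b => Subtype.ext (by
        show v * ((a : G) * b) * (v * ((a : G) * b)) = v * a * (v * a) * (v * b * (v * b))
        have hc : Commute (v * (b : G) * v) (a : G) := commA h (hnA b b.2) a.2
        calc v * ((a : G) * b) * (v * ((a : G) * b))
            = v * a * (v * v)⁻¹ * b * v * a * b := by rw [sqV h hv]; group
          _ = v * a * v⁻¹ * (v⁻¹ * b * v) * a * b := by group
          _ = v * a * v * ((v * b * v) * a) * b := by rw [hv']; group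
          _ = v * a * v * (a * (v * b * v)) * b := by rw [hc.eq]
          _ = v * a * (v * a) * (v * b * (v * b)) := by group) }
  have hker : φ.ker = (V ⊓ A).subgroupOf A := by
    ext a
    rw [MonoidHom.mem_ker, mem_subgroupOf]
    constructor
    · intro e
      have e1 : v * (a : G) * (v * a) = 1 := congrArg Subtype.val e
      have hc : Commute v (a : G) := by
        have := inv_eq_of_mul_eq_one_right e1
        rw [mul_inv_rev, inv_eq_of_mul_eq_one_right (sqA h a.2), hv'] at this
        exact this.symm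
      exact ⟨(h.comm_cases v hv a a.2 hc).resolve_left hvA, a.2⟩
    · intro e
      refine Subtype.ext (show v * (a : G) * (v * a) = 1 from ?_)
      rw [(commV h hv e.1).eq]
      calc (a : G) * v * (a * v) = a * (v * a) * v := by group
        _ = a * (a * v) * v := by rw [(commV h hv e.1).eq]
        _ = 1 := by rw [← mul_assoc, sqA h a.2, one_mul, sqV h hv]
  have hkc : Nat.card φ.ker = 4 := by
    rw [hker, Nat.card_congr (subgroupOfEquivOfLe inf_le_right).toEquiv, h.cardInf]
  have hsurj : Function.Surjective φ := by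
    rw [← MonoidHom.range_eq_top]
    refine eq_top_of_card_eq _ ?_
    have h1 := Subgroup.card_mul_index φ.ker
    rw [Subgroup.index_ker, hkc, h.cardA] at h1
    rw [h.cardInf]
    omega
  obtain ⟨a₀, ha₀⟩ := hsurj ⟨w, hw⟩
  have himg : {a : G | a ∈ A ∧ v * a * (v * a) = w} =
      (fun k : G => (a₀ : G) * k) '' ((φ.ker.map A.subtype : Subgroup G) : Set G) := by
    ext a
    constructor
    · rintro ⟨ha, e⟩
      refine ⟨(a₀ : G)⁻¹ * a, ⟨a₀⁻¹ * ⟨a, ha⟩, ?_, rfl⟩, by simp⟩
      rw [SetLike.mem_coe, MonoidHom.mem_ker, map_mul, map_inv, ha₀, inv_mul_eq_one]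
      exact Subtype.ext e.symm
    · rintro ⟨_, ⟨k, hk, rfl⟩, rfl⟩
      refine ⟨mul_mem a₀.2 k.2, ?_⟩
      have := congrArg Subtype.val (show φ (a₀ * k) = ⟨w, hw⟩ by
        rw [map_mul, ha₀, MonoidHom.mem_ker.1 hk, mul_one])
      exact this
  rw [himg, Set.ncard_image_of_injective _ (mul_right_injective _), ← Nat.card_coe_set_eq]
  exact (Subgroup.card_map_of_injective A.subtype_injective).trans hkc

/-- For a noncentral involution `i` of `P` there are `4` involutions `s` with `(z s)² = i`. -/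
theorem ncard_fibre {z i : G} (hz : z ∈ V ⊓ A) (hz1 : z ≠ 1) (hi : i ∈ V) (hiA : i ∉ A) :
    {s : G | orderOf s = 2 ∧ (z * s) * (z * s) = i}.ncard = 4 := by
  have hi1 : i ≠ 1 := fun e => hiA (e ▸ one_mem A)
  obtain ⟨g, hgN, hgi⟩ := h.transV i hi z hz.1 hi1 hz1
  let z' := g * z * g⁻¹
  have hz'V : z' ∈ V := (mem_normalizer_iff.1 hgN z).1 hz.1
  have hz'1 : z' ≠ 1 := fun e => hz1 (conj_eq_one_iff.1 e)
  have hz'A : z' ∉ A := by
    intro hz'
    have h1 := cent_inf h S hSP hG (mem_inf.2 ⟨hz'V, hz'⟩) hz'1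
    rw [centralizer_conj, cent_inf h S hSP hG hz hz1] at h1
    refine hiA ?_
    rw [← h.centA, mem_centralizer_iff]
    intro a ha
    have hga : g * a * g⁻¹ ∈ P := by
      rw [← h1]
      exact ⟨a, h.leA ha, rfl⟩
    have h2 := (commute_inf h hz hga).eq
    rw [← hgi] at h2
    have h3 : g * (a * i) * g⁻¹ = g * (i * a) * g⁻¹ := by
      calc g * (a * i) * g⁻¹ = g * a * g⁻¹ * (g * i * g⁻¹) := by group
        _ = g * i * g⁻¹ * (g * a * g⁻¹) := h2
        _ = g * (i * a) * g⁻¹ := by group
    exact mul_left_cancel (mul_right_cancel h3)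
  have hz'2 : z' * z' = 1 := sqV h hz'V
  have key : MulAut.conj g '' {s : G | orderOf s = 2 ∧ (z * s) * (z * s) = i} =
      {a : G | a ∈ A ∧ z' * a * (z' * a) = z} := by
    ext a
    constructor
    · rintro ⟨s, ⟨hs, e⟩, rfl⟩
      rw [MulAut.conj_apply]
      have e' : z' * (g * s * g⁻¹) * (z' * (g * s * g⁻¹)) = z := by
        rw [← hgi, ← e]
        simp only [z']
        group
      refine ⟨?_, e'⟩
      obtain ⟨ha1, ha2⟩ := orderOf_two_iff.1 (show orderOf (g * s * g⁻¹) = 2 by rw [orderOf_conj, hs])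
      set a := g * s * g⁻¹
      have hcomm : a * z = z * a := by
        have hzinv : (z' * a * (z' * a))⁻¹ = z' * a * (z' * a) := by
          rw [e']
          exact inv_eq_self (orderOf_inf h hz hz1)
        calc a * z = a * (z' * a * (z' * a)) := by rw [e']
          _ = (a * z' * (a * z')) * a := by group
          _ = (z' * a * (z' * a))⁻¹ * a := by
              rw [mul_inv_rev, mul_inv_rev, inv_eq_of_mul_eq_one_right ha2,
                inv_eq_of_mul_eq_one_right hz'2]
          _ = z * a := by rw [hzinv, e']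
      have haP : a ∈ P := by
        rw [← cent_inf h S hSP hG hz hz1]
        exact mem_centralizer_singleton_iff.2 hcomm
      rcases h.sq_cases a haP ha2 with haV | haA
      · exact absurd (e'.symm.trans (sqV h (mul_mem hz'V haV))) hz1
      · exact haA
    · rintro ⟨ha, e⟩
      have ha1 : a ≠ 1 := by
        rintro rfl
        rw [mul_one, hz'2] at e
        exact hz1 e.symm
      refine ⟨g⁻¹ * a * g, ⟨?_, ?_⟩, by simp [mul_assoc]⟩
      · have := orderOf_conj g⁻¹ a
        rw [inv_inv] at this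
        rw [this]
        exact orderOf_two_iff.2 ⟨ha1, sqA h ha⟩
      · calc z * (g⁻¹ * a * g) * (z * (g⁻¹ * a * g)) = g⁻¹ * (z' * a * (z' * a)) * g := by
              simp only [z']; group
          _ = i := by rw [e, ← hgi]; group
  rw [← Set.ncard_image_of_injective _ (MulAut.conj g).injective, key]
  exact ncard_comm_fibre h hz'V hz'A hz

/-- The fundamental count: `123` involutions `s` have `z s` of even order or equal to `1`. -/
theorem index_eq {z : G} (hz : z ∈ V ⊓ A) (hz1 : z ≠ 1) : P.index = 123 + (Inv z).ncard := by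
  rw [← card_involutions h S hSP hG]
  have hzo := orderOf_inf h hz hz1
  have hzz : z * z = 1 := sqV h hz.1
  have hzi : z⁻¹ = z := inv_eq_self hzo
  letI := Fintype.ofFinite G
  -- the three parts
  have ha : {s : G | orderOf s = 2 ∧ Commute s z}.ncard = 27 := by
    have e : {s : G | orderOf s = 2 ∧ Commute s z} = ((V : Set G) ∪ A) \ {1} := by
      ext s
      constructor
      · rintro ⟨hs, hc⟩
        have hsP : s ∈ P := by
          rw [← cent_inf h S hSP hG hz hz1]
          exact mem_centralizer_singleton_iff.2 hc.eq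
        exact ⟨(sq_one_iff h hsP).1 (orderOf_two_iff.1 hs).2, (orderOf_two_iff.1 hs).1⟩
      · rintro ⟨hs, hs1⟩
        have hsP : s ∈ P := hs.elim (fun e => h.leV e) (fun e => h.leA e)
        exact ⟨orderOf_two_iff.2 ⟨hs1, (sq_one_iff h hsP).2 hs⟩, commute_inf h hz hsP⟩
    rw [e, Set.ncard_sdiff_singleton_of_mem
      (show (1 : G) ∈ (V : Set G) ∪ A from Or.inl (one_mem V)), ncard_union h]
  have hcomm : ∀ s : G, orderOf s = 2 → ∀ n : ℕ, orderOf ((z * s) ^ n) = 2 →
      Commute z ((z * s) ^ n) ∧ Commute s ((z * s) ^ n) := by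
    intro s hs n hn
    have hss := inv_eq_self hs
    have hkk := inv_eq_self hn
    have h1 : z * (z * s) ^ n * z⁻¹ = (z * s) ^ n := by
      rw [← conj_pow]
      conv_rhs => rw [← hkk, ← inv_pow]
      congr 1
      rw [mul_inv_rev, hss, hzi]
      calc z * (z * s) * z = (z * z) * s * z := by group
        _ = s * z := by rw [hzz, one_mul]
    have hcz : Commute z ((z * s) ^ n) := mul_inv_eq_iff_eq_mul.1 h1
    refine ⟨hcz, ?_⟩
    have := (hcz.inv_left).mul_left ((Commute.refl (z * s)).pow_right n)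
    rwa [inv_mul_cancel_left] at this
  have hb : {s : G | orderOf s = 2 ∧ orderOf ((z * s) ^ 2) = 2}.ncard = 96 := by
    rw [Set.ncard_eq_toFinset_card', Finset.card_eq_sum_card_fiberwise
      (f := fun s : G => (z * s) ^ 2)
      (t := (((V : Set G) ∪ A) \ ((V : Set G) ∩ A)).toFinset)]
    · rw [Finset.sum_congr rfl (g := fun _ => 4) ?_, Finset.sum_const, smul_eq_mul,
        ← Set.ncard_eq_toFinset_card', Set.ncard_sdiff (Set.inter_subset_left.trans
          Set.subset_union_left), ncard_union h, ← Subgroup.coe_inf, ← Nat.card_coe_set_eq]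
      · simp only [SetLike.coe_sort_coe, h.cardInf]
      intro i hi
      rw [Set.mem_toFinset] at hi
      rw [← Set.ncard_coe_finset]
      have hi1 : i ≠ 1 := fun e => hi.2 (e ▸ ⟨one_mem V, one_mem A⟩)
      have hset : ({s : G | orderOf s = 2 ∧ orderOf ((z * s) ^ 2) = 2}.toFinset.filter
          (fun s => (z * s) ^ 2 = i) : Set G) = {s : G | orderOf s = 2 ∧ (z * s) * (z * s) = i} := by
        ext s
        simp only [Finset.coe_filter, Set.mem_toFinset, Set.mem_setOf_eq, pow_two]
        refine ⟨fun e => ⟨e.1.1, e.2⟩, fun e => ⟨⟨e.1, ?_⟩, e.2⟩⟩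
        rw [e.2]
        exact orderOf_two_iff.2 ⟨hi1, hi.1.elim (sqV h) (sqA h)⟩
      rw [hset]
      rcases hi.1 with hiV | hiA
      · exact ncard_fibre h S hSP hG hz hz1 hiV fun e => hi.2 ⟨hiV, e⟩
      · exact ncard_fibre h.swap S hSP hG ⟨hz.2, hz.1⟩ hz1 hiA fun e => hi.2 ⟨e, hiA⟩
    · intro s hs
      simp only [Finset.mem_coe, Set.mem_toFinset, Set.mem_setOf_eq] at hs ⊢
      obtain ⟨hcz, hcs⟩ := hcomm s hs.1 2 hs.2
      obtain ⟨hne, hsq⟩ := orderOf_two_iff.1 hs.2
      have hiP : (z * s) ^ 2 ∈ P := by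
        rw [← cent_inf h S hSP hG hz hz1]
        exact mem_centralizer_singleton_iff.2 hcz.symm.eq
      refine ⟨(sq_one_iff h hiP).1 hsq, fun hi => ?_⟩
      have hsP : s ∈ P := by
        rw [← cent_inf h S hSP hG (mem_inf.2 hi) hne]
        exact mem_centralizer_singleton_iff.2 hcs.eq
      refine hne ?_
      rw [(commute_inf h hz hsP).symm.mul_pow, pow_two, pow_two, hzz, one_mul,
        (orderOf_two_iff.1 hs.1).2]
  have hc : {s : G | orderOf s = 2 ∧ z * s ≠ 1 ∧ Odd (orderOf (z * s))}.ncard = (Inv z).ncard := by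
    rw [← Set.ncard_image_of_injective (Inv z) (mul_right_injective z)]
    congr 1
    ext s
    constructor
    · rintro ⟨hs, hne, hodd⟩
      refine ⟨z * s, ⟨hne, hodd, ?_⟩, by simp [← mul_assoc, hzz]⟩
      rw [mul_inv_rev, inv_eq_self hs, hzi]
      calc z * (z * s) * z = (z * z) * s * z := by group
        _ = s * z := by rw [hzz, one_mul]
    · rintro ⟨x, ⟨hx1, hxo, hxz⟩, rfl⟩
      refine ⟨orderOf_two_iff.2 ⟨fun e => ?_, ?_⟩, ?_⟩
      · have : x = z := by rw [← hzi]; exact (inv_eq_of_mul_eq_one_right e).symm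
        rw [this, hzo] at hxo
        exact absurd hxo (by decide)
      · calc z * x * (z * x) = z * x * z⁻¹ * x := by rw [hzi]; group
          _ = 1 := by rw [hxz, inv_mul_cancel]
      · show z * (z * x) ≠ 1 ∧ Odd (orderOf (z * (z * x)))
        rw [← mul_assoc, hzz, one_mul]
        exact ⟨hx1, hxo⟩
  have hunion : {t : G | orderOf t = 2} = ({s : G | orderOf s = 2 ∧ Commute s z} ∪
      {s : G | orderOf s = 2 ∧ orderOf ((z * s) ^ 2) = 2}) ∪
      {s : G | orderOf s = 2 ∧ z * s ≠ 1 ∧ Odd (orderOf (z * s))} := by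
    ext s
    refine ⟨fun hs => ?_, fun hs => by rcases hs with (hs | hs) | hs <;> exact hs.1⟩
    by_cases hcz : Commute s z
    · exact Or.inl (Or.inl ⟨hs, hcz⟩)
    have hne : z * s ≠ 1 := fun e => hcz (by
      rw [← inv_eq_of_mul_eq_one_right e, hzi])
    rcases Nat.even_or_odd (orderOf (z * s)) with he | ho
    swap
    · exact Or.inr ⟨hs, hne, ho⟩
    refine Or.inl (Or.inr ⟨hs, orderOf_two_iff.2 ⟨fun e => hcz ?_, ?_⟩⟩)
    · rw [pow_two] at e
      have := inv_eq_of_mul_eq_one_right e
      rw [mul_inv_rev, inv_eq_self hs, hzi] at this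
      exact this
    obtain ⟨n, hn⟩ := he
    have hpos := orderOf_pos (z * s)
    have hi : orderOf ((z * s) ^ n) = 2 := by
      rw [orderOf_pow, hn, ← two_mul, Nat.gcd_eq_right (Dvd.intro_left 2 rfl)]
      exact Nat.mul_div_cancel 2 (by omega)
    obtain ⟨hcz', hcs'⟩ := hcomm s hs n hi
    obtain ⟨g, hg⟩ := cent_conj_P h S hSP hG hi
    have hzs : z * s ∈ P.map (MulAut.conj g).toMonoidHom := by
      rw [← hg]
      exact mem_centralizer_singleton_iff.2 (hcz'.mul_left hcs').eq
    obtain ⟨p, hp, hpe⟩ := hzs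
    rw [← hpe, pow_two, ← map_mul, ← map_mul, pow_four h hp, map_one]
  rw [hunion, Set.ncard_union_eq ?_, Set.ncard_union_eq ?_, ha, hb, hc]
  · refine Set.disjoint_left.2 ?_
    rintro s ⟨hs, hcz⟩ ⟨-, h2⟩
    refine (orderOf_two_iff.1 h2).1 ?_
    rw [hcz.symm.mul_pow, pow_two, pow_two, hzz, one_mul, (orderOf_two_iff.1 hs).2]
  · refine Set.disjoint_left.2 ?_
    rintro s (⟨hs, hcz⟩ | ⟨-, h2⟩) ⟨-, hne, hodd⟩
    · refine hne (eq_one_of_sq hodd ?_)
      rw [← pow_two, hcz.symm.mul_pow, pow_two, pow_two, hzz, one_mul, (orderOf_two_iff.1 hs).2]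
    · refine (orderOf_two_iff.1 h2).1 ?_
      have h3 : Odd (orderOf ((z * s) ^ 2)) := hodd.of_dvd_nat (orderOf_pow_dvd 2)
      rw [h2] at h3
      exact absurd h3 (by decide)

/-- Every involution inverts `index - 123` nontrivial elements of odd order. -/
theorem ncard_inv {t : G} (ht : orderOf t = 2) : 123 + (Inv t).ncard = P.index := by
  obtain ⟨w, hw, hw1⟩ := exists_ne_one h
  obtain ⟨g, rfl⟩ := exists_conj h S hSP hG hw hw1 ht
  rw [index_eq h S hSP hG hw hw1]
  congr 1
  rw [← Set.ncard_image_of_injective (Inv w) (MulAut.conj g).injective]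
  congr 1
  ext y
  constructor
  · intro hy
    refine ⟨g⁻¹ * y * g, ?_, by simp [mul_assoc]⟩
    have := inv_conj g⁻¹ hy
    simpa [mul_assoc] using this
  · rintro ⟨x, hx, rfl⟩
    exact inv_conj g hx

end Sylow2

/-- The real elements of odd order. -/
def Real (G : Type*) [Group G] : Set G := {x | ∃ z : G, orderOf z = 2 ∧ x ∈ Inv z}

theorem conj_mem_real {x : G} (g : G) (hx : x ∈ Real G) : g * x * g⁻¹ ∈ Real G := by
  obtain ⟨z, hz, hxz⟩ := hx
  exact ⟨g * z * g⁻¹, (orderOf_conj g z).trans hz, inv_conj g hxz⟩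

section Classes

variable (hG : IsCIT G)
include hG

/-- Tori with a common prime divisor in their orders are conjugate. -/
theorem exists_conj_cent {x y : G} (hx : x ∈ Real G) (hy : y ∈ Real G) {q : ℕ} (hq : q.Prime)
    (hqx : q ∣ Nat.card (centralizer ({x} : Set G))) (hqy : q ∣ Nat.card (centralizer ({y} : Set G))) :
    ∃ g : G, centralizer ({y} : Set G) = (centralizer ({x} : Set G)).map (MulAut.conj g).toMonoidHom := by
  have : Fact q.Prime := ⟨hq⟩
  obtain ⟨zx, hzx, hxz⟩ := hx
  obtain ⟨zy, hzy, hyz⟩ := hy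
  obtain ⟨Q, hQ⟩ := exists_sylow_le hG hxz hzx hqx
  obtain ⟨Q', hQ'⟩ := exists_sylow_le hG hyz hzy hqy
  obtain ⟨g, hg⟩ := MulAction.exists_smul_eq G Q Q'
  obtain ⟨d, hd⟩ := exists_prime_orderOf_dvd_card' q
    (Q.dvd_card_of_dvd_card (hqx.trans (Subgroup.card_subgroup_dvd_card _)))
  rw [← Subgroup.orderOf_coe] at hd
  have hd1 : (d : G) ≠ 1 := fun e => by
    rw [e, orderOf_one] at hd
    exact hq.ne_one hd.symm
  have hmem : g * (d : G) * g⁻¹ ∈ centralizer ({y} : Set G) := by
    refine hQ' ?_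
    rw [← hg, Sylow.coe_subgroup_smul]
    exact Subgroup.smul_mem_pointwise_smul _ (MulAut.conj g) _ d.2
  refine ⟨g, ?_⟩
  rw [← cent_eq hG hxz hzx (hQ d.2) hd1, ← centralizer_conj,
    cent_eq hG hyz hzy hmem fun e => hd1 (conj_eq_one_iff.1 e)]

variable [Fintype G]

/-- The real elements with a torus of order `a`, times the normalizer order. -/
theorem card_real_mul {x : G} (hx : x ∈ Real G) :
    ((Real G).toFinset.filter (fun y => Nat.card (centralizer ({y} : Set G)) =
      Nat.card (centralizer ({x} : Set G)))).card *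
        Nat.card (normalizer (centralizer ({x} : Set G) : Set G)) =
      Nat.card G * (Nat.card (centralizer ({x} : Set G)) - 1) := by
  obtain ⟨z, hz, hxz⟩ := id hx
  let f : G → Subgroup G := fun g => (centralizer ({x} : Set G)).map (MulAut.conj g).toMonoidHom
  have hf : ∀ a b, f a = f b ↔ a⁻¹ * b ∈ normalizer (centralizer ({x} : Set G) : Set G) := by
    intro a b
    rw [mem_normalizer_iff_map_conj_eq]
    show _ ↔ (centralizer ({x} : Set G)).map (MulAut.conj (a⁻¹ * b)).toMonoidHom = _
    rw [ConjFun.conjMap_mul]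
    constructor
    · intro e
      show (f b).map _ = _
      rw [← e, ← ConjFun.conjMap_mul, inv_mul_cancel, ConjFun.conjMap_one]
    · intro e
      have := congrArg (fun H : Subgroup G => H.map (MulAut.conj a).toMonoidHom) e
      simp only [← ConjFun.conjMap_mul, mul_inv_cancel_left] at this
      exact this.symm
  rw [Finset.card_eq_sum_card_fiberwise (f := fun y : G => centralizer ({y} : Set G))
    (t := (Set.range f).toFinset), Finset.sum_congr rfl
    (g := fun _ => Nat.card (centralizer ({x} : Set G)) - 1), Finset.sum_const, smul_eq_mul,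
    ← Set.ncard_eq_toFinset_card', ← ncard_range_mul f _ hf]
  · ring
  · intro U hU
    rw [Set.mem_toFinset] at hU
    obtain ⟨g, rfl⟩ := hU
    obtain ⟨z', hz', hx'⟩ := conj_mem_real g hx
    have hU : f g = centralizer ({g * x * g⁻¹} : Set G) := (centralizer_conj g x).symm
    have hc : Nat.card (centralizer ({g * x * g⁻¹} : Set G)) =
        Nat.card (centralizer ({x} : Set G)) := by
      rw [centralizer_conj, ConjFun.card_conjMap]
    rw [← Set.ncard_coe_finset, hU, ← hc]
    have hset : ((((Real G).toFinset.filter fun y => Nat.card (centralizer ({y} : Set G)) =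
        Nat.card (centralizer ({g * x * g⁻¹} : Set G))).filter fun y =>
          centralizer ({y} : Set G) = centralizer ({g * x * g⁻¹} : Set G) : Finset G) : Set G) =
        (centralizer ({g * x * g⁻¹} : Set G) : Set G) \ {1} := by
      ext y
      simp only [Finset.coe_filter, Finset.mem_filter, Set.mem_toFinset, Set.mem_setOf_eq,
        Set.mem_sdiff, SetLike.mem_coe, Set.mem_singleton_iff]
      constructor
      · rintro ⟨⟨⟨z'', hz'', hy⟩, -⟩, e⟩
        exact ⟨e ▸ self_mem, hy.1⟩
      · rintro ⟨hy, hy1⟩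
        have e := cent_eq hG hx' hz' hy hy1
        exact ⟨⟨⟨z', hz', mem_inv hG hx' hz' hy hy1⟩, by rw [e]⟩, e⟩
    rw [hset, Set.ncard_sdiff_singleton_of_mem (one_mem (centralizer ({g * x * g⁻¹} : Set G))),
      ← Nat.card_coe_set_eq]
    rfl
  · intro y hy
    simp only [Finset.mem_coe, Finset.mem_filter, Set.mem_toFinset] at hy ⊢
    have h1 : Nat.card (centralizer ({x} : Set G)) ≠ 1 := fun e => hxz.1 (by
      have h2 := Subgroup.eq_bot_of_card_eq _ e
      have h3 : x ∈ centralizer ({x} : Set G) := self_mem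
      rwa [h2, mem_bot] at h3)
    obtain ⟨q, hq, hqx⟩ := Nat.exists_prime_and_dvd h1
    obtain ⟨g, hg⟩ := exists_conj_cent hG hx hy.1 hq hqx (hy.2 ▸ hqx)
    exact ⟨g, hg.symm⟩

end Classes

end FourCount

open FourCount in
/-- A simple CIT group with a pair for `q = 4` over a Sylow 2-subgroup has order `20160`. -/
theorem card_of_four {G : Type*} [Group G] [Finite G] [IsSimpleGroup G] (hG : IsCIT G)
    (_hne : ∃ a b : G, a * b ≠ b * a) {P V A : Subgroup G} (h : Pair 4 P V A)
    (hS : ∃ S : Sylow 2 G, (S : Subgroup G) = P) : Nat.card G = 20160 := by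
  obtain ⟨S, hSP⟩ := hS
  letI := Fintype.ofFinite G
  obtain ⟨hcard, hodd⟩ := card_G h S hSP
  set m := P.index with hm
  let a : G → ℕ := fun x => Nat.card (centralizer ({x} : Set G))
  let R : Finset ℕ := (Real G).toFinset.image a
  let n : ℕ → ℕ := fun k => ((Real G).toFinset.filter (fun y => a y = k)).card
  have hR : ∀ k ∈ R, ∃ e : ℕ, (e = 2 ∨ e = 4 ∨ e = 8) ∧ e ∣ k - 1 ∧ 3 ≤ k ∧ k % 2 = 1 ∧
      k ∣ m ∧ n k * k * e = 64 * m * (k - 1) := by
    intro k hk
    obtain ⟨x, hx, rfl⟩ := Finset.mem_image.1 hk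
    rw [Set.mem_toFinset] at hx
    obtain ⟨z, hz, hxz⟩ := id hx
    obtain ⟨e, he, hdiv, hN⟩ := FourCount.card_normalizer hG hxz hz
      fun E hE hu => card_le_eight h S hSP hG hz E hE hu
    have ho := Nat.odd_iff.1 (odd_cent hG hxz hz)
    have h1 : a x ≠ 1 := fun e => hxz.1 (by
      have h2 := Subgroup.eq_bot_of_card_eq _ e
      have h3 : x ∈ centralizer ({x} : Set G) := self_mem
      rwa [h2, mem_bot] at h3)
    refine ⟨e, he, hdiv, by simp only [a] at h1 ⊢; omega, ho, ?_, ?_⟩
    · refine Nat.Coprime.dvd_of_dvd_mul_left ?_ (hcard ▸ Subgroup.card_subgroup_dvd_card _)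
      exact Nat.Coprime.pow_right 6 (Nat.coprime_two_right.2 (Nat.odd_iff.2 ho))
    · have := card_real_mul hG hx
      rw [hN, hcard] at this
      rw [mul_assoc]
      exact this
  choose e he hediv hk3 hko hkm hne' using hR
  let f : ℕ → ℕ := fun k => if hk : k ∈ R then 64 / e k hk else 8
  have hf : ∀ k (hk : k ∈ R), f k * e k hk = 64 := fun k hk => by
    simp only [f, dif_pos hk]
    rcases he k hk with e' | e' | e' <;> rw [e']
  have hnf : ∀ k ∈ R, n k * k = f k * (k - 1) * m := by
    intro k hk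
    refine Nat.eq_of_mul_eq_mul_right (show 0 < e k hk by rcases he k hk with e' | e' | e' <;> omega) ?_
    rw [hne' k hk]
    calc 64 * m * (k - 1) = f k * e k hk * m * (k - 1) := by rw [hf k hk]
      _ = f k * (k - 1) * m * e k hk := by ring
  -- the double count
  have hI : ({t : G | orderOf t = 2}).toFinset.card = m := by
    rw [← Set.ncard_eq_toFinset_card']
    exact card_involutions h S hSP hG
  have hpos : 0 < m := Nat.pos_of_ne_zero Subgroup.index_ne_zero_of_finite
  have hsum : m = 123 + ∑ k ∈ R, f k * (k - 1) := by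
    have h1 := Finset.sum_card_bipartiteAbove_eq_sum_card_bipartiteBelow
      (r := fun (t x : G) => x ∈ Inv t) (s := ({t : G | orderOf t = 2}).toFinset)
      (t := (Real G).toFinset)
    have hl : ∀ t ∈ ({t : G | orderOf t = 2}).toFinset,
        ((Real G).toFinset.bipartiteAbove (fun (t x : G) => x ∈ Inv t) t).card = m - 123 := by
      intro t ht
      rw [Set.mem_toFinset] at ht
      rw [hm, ← ncard_inv h S hSP hG ht, Nat.add_sub_cancel_left, Set.ncard_eq_toFinset_card']
      congr 1
      ext x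
      simp only [Finset.mem_bipartiteAbove, Set.mem_toFinset]
      exact ⟨fun e => e.2, fun e => ⟨⟨t, ht, e⟩, e⟩⟩
    have hr : ∀ x ∈ (Real G).toFinset,
        (({t : G | orderOf t = 2}).toFinset.bipartiteBelow (fun (t x : G) => x ∈ Inv t) x).card =
          a x := by
      intro x hx
      rw [Set.mem_toFinset] at hx
      obtain ⟨z, hz, hxz⟩ := hx
      show _ = Nat.card _
      rw [← ncard_inverters hG hxz hz, Set.ncard_eq_toFinset_card']
      congr 1
      ext t
      simp only [Finset.mem_bipartiteBelow, Set.mem_toFinset, Set.mem_setOf_eq]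
    rw [Finset.sum_congr rfl hl, Finset.sum_congr rfl hr, Finset.sum_const, smul_eq_mul, hI,
      ← Finset.sum_fiberwise_of_maps_to (t := R) (fun x hx => Finset.mem_image_of_mem a hx)] at h1
    have h2 : m * (m - 123) = m * ∑ k ∈ R, f k * (k - 1) := by
      rw [h1, Finset.mul_sum]
      refine Finset.sum_congr rfl fun k hk => ?_
      rw [Finset.sum_congr rfl (g := fun _ => k) fun x hx => (Finset.mem_filter.1 hx).2,
        Finset.sum_const, smul_eq_mul, mul_comm m]
      exact hnf k hk
    have h3 := Nat.eq_of_mul_eq_mul_left hpos h2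
    obtain ⟨w, hw, hw1⟩ := exists_ne_one h
    have := index_eq h S hSP hG hw hw1
    omega
  have hfour : {x : G | orderOf (x * x) = 2}.ncard = 12 * m := by
    rw [Set.ncard_eq_toFinset_card', Finset.card_eq_sum_card_fiberwise (f := fun x : G => x * x)
      (t := ({t : G | orderOf t = 2}).toFinset) (fun x hx => by simpa using hx),
      Finset.sum_congr rfl (g := fun _ => 12), Finset.sum_const, smul_eq_mul, hI, mul_comm]
    intro t ht
    rw [Set.mem_toFinset] at ht
    rw [← ncard_sqrt h S hSP hG ht, Set.ncard_eq_toFinset_card']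
    congr 1
    ext x
    simp only [Finset.mem_filter, Set.mem_toFinset, Set.mem_setOf_eq]
    exact ⟨fun e => e.2, fun e => ⟨e ▸ ht, e⟩⟩
  have hdens : ∑ k ∈ R, n k < 51 * m := by
    have e1 : ∑ k ∈ R, n k = (Real G).ncard := by
      rw [Set.ncard_eq_toFinset_card']
      exact (Finset.card_eq_sum_card_fiberwise fun x hx => Finset.mem_image_of_mem a hx).symm
    have d1 : Disjoint {t : G | orderOf t = 2} {x : G | orderOf (x * x) = 2} :=
      Set.disjoint_left.2 fun x hx hx' => by
        have h2 : orderOf (x * x) = 2 := hx'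
        rw [(orderOf_two_iff.1 hx).2, orderOf_one] at h2
        exact absurd h2 (by decide)
    have d2 : Disjoint ({t : G | orderOf t = 2} ∪ {x : G | orderOf (x * x) = 2}) (Real G) :=
      Set.disjoint_left.2 fun x hx hx' => by
        obtain ⟨z, -, hx1, hxo, -⟩ := hx'
        rcases hx with hx | hx
        · rw [Set.mem_setOf_eq] at hx
          rw [hx] at hxo
          exact absurd hxo (by decide)
        · rw [Set.mem_setOf_eq] at hx
          have h3 : Odd (orderOf (x * x)) := by
            rw [← pow_two]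
            exact hxo.of_dvd_nat (orderOf_pow_dvd 2)
          rw [hx] at h3
          exact absurd h3 (by decide)
    have h1 : ({t : G | orderOf t = 2} ∪ {x : G | orderOf (x * x) = 2} ∪ Real G).ncard ≤
        (({1}ᶜ : Set G)).ncard := by
      refine Set.ncard_le_ncard fun x hx => ?_
      rw [Set.mem_compl_singleton_iff]
      rintro rfl
      rcases hx with (hx | hx) | ⟨z, -, hx, -⟩
      · simp at hx
      · simp at hx
      · exact hx rfl
    rw [Set.ncard_union_eq d2, Set.ncard_union_eq d1, card_involutions h S hSP hG, hfour, ← e1,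
      Set.ncard_compl, Set.ncard_singleton, hcard] at h1
    omega
  have h15 : 15 ∣ m := by
    have h1 : 960 ∣ 64 * m := by
      rw [← hcard]
      have := Subgroup.card_subgroup_dvd_card (normalizer (V : Set G))
      rwa [h.cardNV] at this
    omega
  have h315 : m = 315 := by
    refine arith m R f n hsum h15 (fun k hk => ⟨hk3 k hk, hko k hk, hkm k hk, ?_, ?_⟩) ?_ hnf hdens
    · simp only [f, dif_pos hk, mem_fs]
      rcases he k hk with e' | e' | e' <;> rw [e'] <;> simp
    · simp only [f, dif_pos hk]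
      have := hediv k hk
      rcases he k hk with e' | e' | e' <;> rw [e'] at this ⊢ <;> simpa using this
    · intro k hk l hl hkl
      by_contra hcop
      obtain ⟨q, hq, hqk, hql⟩ := Nat.Prime.not_coprime_iff_dvd.1 hcop
      obtain ⟨x, hx, rfl⟩ := Finset.mem_image.1 hk
      obtain ⟨y, hy, rfl⟩ := Finset.mem_image.1 hl
      rw [Set.mem_toFinset] at hx hy
      obtain ⟨g, hg⟩ := exists_conj_cent hG hx hy hq hqk hql
      exact hkl (by simp only [a, hg, ConjFun.card_conjMap])
  rw [hcard, h315]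

end Cfsg.Agent.CIT
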