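import Cfsg.Agent.Lib.CIT.Defs

/-!
# Tori inverted by involutions in a CIT group

For an element `x ≠ 1` of odd order inverted by an involution the centralizer is an abelian
subgroup of odd order, the centralizer of each of its nontrivial elements and a Hall subgroup,
and it has index a power of two in its normalizer.
-/

set_option autoImplicit false

namespace Cfsg.Agent.CIT.FourCount

open Subgroup

variable {G : Type*} [Group G]

/-- The nontrivial elements of odd order inverted by `z`. -/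
def Inv (z : G) : Set G := {x | x ≠ 1 ∧ Odd (orderOf x) ∧ z * x * z⁻¹ = x⁻¹}

theorem orderOf_two_iff {x : G} : orderOf x = 2 ↔ x ≠ 1 ∧ x * x = 1 := by
  constructor
  · intro h
    refine ⟨fun e => by simp [e] at h, ?_⟩
    rw [← pow_two, ← h, pow_orderOf_eq_one]
  · rintro ⟨h1, h2⟩
    exact orderOf_eq_prime (by rw [pow_two, h2]) h1

theorem inv_eq_self {z : G} (hz : orderOf z = 2) : z⁻¹ = z :=
  inv_eq_of_mul_eq_one_right (orderOf_two_iff.1 hz).2

theorem orderOf_conj (g x : G) : orderOf (g * x * g⁻¹) = orderOf x :=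
  orderOf_injective (MulAut.conj g).toMonoidHom (MulAut.conj g).injective x

theorem eq_one_of_sq {x : G} (hx : Odd (orderOf x)) (h : x * x = 1) : x = 1 := by
  have h1 : orderOf x ∣ 2 := orderOf_dvd_of_pow_eq_one (by rw [pow_two, h])
  rcases (Nat.dvd_prime Nat.prime_two).1 h1 with e | e
  · exact orderOf_eq_one_iff.1 e
  · rw [e] at hx
    exact absurd hx (by decide)

theorem odd_orderOf_of_mem {H : Subgroup G} (hH : Odd (Nat.card H)) {x : G} (hx : x ∈ H) :
    Odd (orderOf x) :=
  hH.of_dvd_nat (by simpa [Subgroup.orderOf_mk] using orderOf_dvd_natCard (⟨x, hx⟩ : H))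

theorem ncard_range_mul [Finite G] {α : Type*} (f : G → α) (H : Subgroup G)
    (hf : ∀ a b, f a = f b ↔ a⁻¹ * b ∈ H) :
    (Set.range f).ncard * Nat.card H = Nat.card G := by
  have hwd : ∀ a b : G, (QuotientGroup.leftRel H) a b → f a = f b := fun a b hab =>
    (hf a b).2 (QuotientGroup.leftRel_apply.1 hab)
  let φ : G ⧸ H → Set.range f := fun q => Quotient.liftOn' q (fun a => ⟨f a, a, rfl⟩)
    fun a b hab => Subtype.ext (hwd a b hab)
  have hφ : Function.Bijective φ := by
    constructor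
    · intro p q
      induction p using QuotientGroup.induction_on with
      | H a =>
        induction q using QuotientGroup.induction_on with
        | H b => exact fun e => QuotientGroup.eq.2 ((hf a b).1 (congrArg Subtype.val e))
    · rintro ⟨_, a, rfl⟩
      exact ⟨(a : G ⧸ H), rfl⟩
  rw [← Nat.card_coe_set_eq, ← Nat.card_congr (Equiv.ofBijective φ hφ),
    ← Subgroup.index_eq_card, mul_comm, Subgroup.card_mul_index]

theorem conj_eq_conj_iff (w a b : G) :
    a * w * a⁻¹ = b * w * b⁻¹ ↔ a⁻¹ * b ∈ centralizer ({w} : Set G) := by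
  rw [mem_centralizer_singleton_iff]
  constructor
  · intro h
    calc a⁻¹ * b * w = a⁻¹ * (b * w * b⁻¹) * b := by group
      _ = w * (a⁻¹ * b) := by rw [← h]; group
  · intro h
    calc a * w * a⁻¹ = a * (w * (a⁻¹ * b)) * b⁻¹ := by group
      _ = b * w * b⁻¹ := by rw [← h]; group

/-- The conjugates of `w` times the order of its centralizer is the group order. -/
theorem ncard_conj_mul [Finite G] (w : G) :
    (Set.range fun g : G => g * w * g⁻¹).ncard * Nat.card (centralizer ({w} : Set G)) = Nat.card G :=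
  ncard_range_mul _ _ (conj_eq_conj_iff w)

section Torus

variable [Finite G] (hG : IsCIT G)
include hG

variable {x z : G} (hx : x ∈ Inv z) (hz : orderOf z = 2)
include hx hz

set_option quotPrecheck false in
local notation "T" => centralizer ({x} : Set G)

theorem odd_cent : Odd (Nat.card T) := by
  rw [Nat.odd_iff]
  by_contra h
  obtain ⟨t, ht⟩ := exists_prime_orderOf_dvd_card' (p := 2) (G := T) (by omega)
  rw [← Subgroup.orderOf_coe] at ht
  exact hx.1 (eq_one_of_commute hG hx.2.1 ht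
    (mem_centralizer_singleton_iff.1 t.2 : (t : G) * x = x * t).symm)

theorem conj_mem_cent {c : G} (hc : c ∈ T) : z * c * z⁻¹ ∈ T := by
  rw [mem_centralizer_singleton_iff] at hc ⊢
  have h1 : Commute (z * c * z⁻¹) x⁻¹ := by
    have := (show Commute c x from hc).map (MulAut.conj z).toMonoidHom
    simpa [hx.2.2] using this
  exact (Commute.inv_right_iff.1 h1).eq

theorem mem_normalizer_self : z ∈ normalizer (T : Set G) := by
  rw [mem_normalizer_iff]
  intro c
  refine ⟨conj_mem_cent hG hx hz, fun h => ?_⟩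
  have h2 := conj_mem_cent hG hx hz h
  rwa [inv_eq_self hz, ← mul_assoc, ← mul_assoc, (orderOf_two_iff.1 hz).2, one_mul, mul_assoc,
    (orderOf_two_iff.1 hz).2, mul_one] at h2

/-- An involution normalizing the torus inverts it. -/
theorem inverts {j : G} (hj : orderOf j = 2) (hjN : j ∈ normalizer (T : Set G)) :
    (∀ c ∈ T, j * c * j⁻¹ = c⁻¹) ∧ ∀ c ∈ T, ∀ d ∈ T, Commute c d := by
  have hjj : ∀ y, j * (j * y * j⁻¹) * j⁻¹ = y := fun y => by
    rw [inv_eq_self hj]
    calc j * (j * y * j) * j = (j * j) * y * (j * j) := by group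
      _ = y := by rw [(orderOf_two_iff.1 hj).2, one_mul, mul_one]
  let φ : T →* T :=
    { toFun := fun c => ⟨j * c * j⁻¹, (mem_normalizer_iff.1 hjN c).1 c.2⟩
      map_one' := Subtype.ext (by simp)
      map_mul' := fun a b => Subtype.ext (by simp only [Subgroup.coe_mul]; group) }
  have hfix : MonoidHom.FixedPointFree φ := by
    intro c hc
    have h1 : j * (c : G) * j⁻¹ = c := congrArg Subtype.val hc
    refine Subtype.ext (eq_one_of_commute hG (odd_orderOf_of_mem (odd_cent hG hx hz) c.2) hj ?_)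
    exact (mul_inv_eq_iff_eq_mul.1 h1).symm
  have hinv : Function.Involutive φ := fun c => Subtype.ext (hjj c)
  refine ⟨fun c hc => ?_, fun c hc d hd => ?_⟩
  · exact congrArg Subtype.val (congrFun (hfix.coe_eq_inv_of_involutive hinv) ⟨c, hc⟩)
  · exact congrArg Subtype.val (hfix.commute_all_of_involutive hinv ⟨c, hc⟩ ⟨d, hd⟩).eq

theorem mem_inv {c : G} (hc : c ∈ T) (hc1 : c ≠ 1) : c ∈ Inv z :=
  ⟨hc1, odd_orderOf_of_mem (odd_cent hG hx hz) hc,
    (inverts hG hx hz hz (mem_normalizer_self hG hx hz)).1 c hc⟩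

theorem cent_eq {c : G} (hc : c ∈ T) (hc1 : c ≠ 1) : centralizer ({c} : Set G) = T := by
  have hy := mem_inv hG hx hz hc hc1
  refine le_antisymm (fun d hd => ?_) (fun d hd => ?_)
  · rw [mem_centralizer_singleton_iff]
    refine (inverts hG hy hz hz (mem_normalizer_self hG hy hz)).2 d hd x ?_
    rw [mem_centralizer_singleton_iff] at hc ⊢
    exact hc.symm
  · rw [mem_centralizer_singleton_iff]
    exact (inverts hG hx hz hz (mem_normalizer_self hG hx hz)).2 d hd c hc

omit [Finite G] hG hx hz in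
theorem self_mem : x ∈ T := mem_centralizer_singleton_iff.2 rfl

/-- The involutions inverting `x` form the coset `z T`. -/
theorem ncard_inverters :
    {t : G | orderOf t = 2 ∧ x ∈ Inv t}.ncard = Nat.card T := by
  have hinv := (inverts hG hx hz hz (mem_normalizer_self hG hx hz)).1
  have himg : {t : G | orderOf t = 2 ∧ x ∈ Inv t} = (fun c => z * c) '' (T : Set G) := by
    ext t
    constructor
    · rintro ⟨ht, htx⟩
      refine ⟨z⁻¹ * t, ?_, by simp⟩
      rw [SetLike.mem_coe, ← conj_eq_conj_iff]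
      rw [hx.2.2, htx.2.2]
    · rintro ⟨c, hc, rfl⟩
      have h1 : (z * c) * x * (z * c)⁻¹ = x⁻¹ := by
        have := (conj_eq_conj_iff x z (z * c)).2 (by rwa [inv_mul_cancel_left])
        rw [← this, hx.2.2]
      refine ⟨orderOf_two_iff.2 ⟨fun e => ?_, ?_⟩, hx.1, hx.2.1, h1⟩
      · simp only at e
        rw [e] at h1
        simp only [one_mul, inv_one, mul_one] at h1
        exact hx.1 (eq_one_of_sq hx.2.1 (mul_eq_one_iff_eq_inv.2 h1))
      · calc z * c * (z * c) = (z * c * z⁻¹) * (z * z) * c := by group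
          _ = 1 := by rw [hinv c hc, (orderOf_two_iff.1 hz).2, mul_one, inv_mul_cancel]
  rw [himg, Set.ncard_image_of_injective _ (mul_right_injective z), ← Nat.card_coe_set_eq]
  rfl

/-- The order of the normalizer of a torus. -/
theorem card_normalizer
    (h8 : ∀ E : Subgroup G, E ≤ centralizer ({z} : Set G) →
      (∀ j ∈ E, orderOf j = 2 → j = z) → Nat.card E ≤ 8) :
    ∃ e : ℕ, (e = 2 ∨ e = 4 ∨ e = 8) ∧ e ∣ Nat.card T - 1 ∧
      Nat.card (normalizer (T : Set G)) = Nat.card T * e := by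
  have hodd := odd_cent hG hx hz
  have hzN := mem_normalizer_self hG hx hz
  obtain ⟨hinv, hcomm⟩ := inverts hG hx hz hz hzN
  let E : Subgroup G := normalizer (T : Set G) ⊓ centralizer ({z} : Set G)
  have hdisj : ∀ c ∈ T, c ∈ E → c = 1 := fun c hc hcE =>
    eq_one_of_commute hG (odd_orderOf_of_mem hodd hc) hz (mem_centralizer_singleton_iff.1 hcE.2)
  have hsq : ∀ u ∈ T, ∃ t ∈ T, t * t = u := by
    intro u hu
    let s : T → T := fun t => t * t
    have hs : Function.Injective s := by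
      intro a b hab
      have h1 : (a : G) * a = b * b := congrArg Subtype.val hab
      have hc : Commute (a : G) (b : G)⁻¹ := (hcomm a a.2 b b.2).inv_right
      refine Subtype.ext (mul_inv_eq_one.1 (eq_one_of_sq
        (odd_orderOf_of_mem hodd (mul_mem a.2 (inv_mem b.2))) ?_))
      calc (a : G) * (b : G)⁻¹ * (a * (b : G)⁻¹) = a * (((b : G)⁻¹) * a) * (b : G)⁻¹ := by group
        _ = a * (a * (b : G)⁻¹) * (b : G)⁻¹ := by rw [hc.eq]
        _ = (a * a) * ((b : G) * b)⁻¹ := by group
        _ = 1 := by rw [h1, mul_inv_cancel]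
    obtain ⟨t, ht⟩ := Finite.surjective_of_injective hs ⟨u, hu⟩
    exact ⟨t, t.2, congrArg Subtype.val ht⟩
  have hfac : ∀ g ∈ normalizer (T : Set G), ∃ t ∈ T, ∃ e ∈ E, t * e = g := by
    intro g hg
    have hy : g⁻¹ * x * g ∈ T := by
      rw [mem_normalizer_iff.1 hg]
      simpa [mul_assoc] using self_mem
    have h1 : (g * z * g⁻¹) * x * (g * z * g⁻¹)⁻¹ = x⁻¹ := by
      calc (g * z * g⁻¹) * x * (g * z * g⁻¹)⁻¹ = g * (z * (g⁻¹ * x * g) * z⁻¹) * g⁻¹ := by group
        _ = x⁻¹ := by rw [hinv _ hy]; group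
    have hu : z⁻¹ * (g * z * g⁻¹) ∈ T := by rw [← conj_eq_conj_iff, h1, hx.2.2]
    obtain ⟨t, ht, htu⟩ := hsq _ (inv_mem hu)
    have htz : t * z * t⁻¹ = g * z * g⁻¹ := by
      calc t * z * t⁻¹ = z * (z⁻¹ * t * z) * t⁻¹ := by group
        _ = z * t⁻¹ * t⁻¹ := by rw [inv_eq_self hz]; conv_lhs => rw [show z * t * z = z * t * z⁻¹ by rw [inv_eq_self hz], hinv t ht]
        _ = z * (t * t)⁻¹ := by group
        _ = g * z * g⁻¹ := by rw [htu]; group
    refine ⟨t, ht, t⁻¹ * g, mem_inf.2 ⟨?_, ?_⟩, by simp⟩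
    · exact mul_mem (inv_mem (Subgroup.le_normalizer ht)) hg
    · rwa [← conj_eq_conj_iff]
  have hcard : Nat.card (normalizer (T : Set G)) = Nat.card T * Nat.card E := by
    let f : T × E → normalizer (T : Set G) := fun p =>
      ⟨(p.1 : G) * p.2, mul_mem (Subgroup.le_normalizer p.1.2) p.2.2.1⟩
    have hf : Function.Bijective f := by
      constructor
      · rintro ⟨t, e⟩ ⟨t', e'⟩ h
        have h1 : (t : G) * e = t' * e' := congrArg Subtype.val h
        have h2 : (t' : G)⁻¹ * t = e' * (e : G)⁻¹ := by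
          rw [eq_mul_inv_iff_mul_eq, mul_assoc, h1, inv_mul_cancel_left]
        have h3 := hdisj _ (mul_mem (inv_mem t'.2) t.2) (h2 ▸ mul_mem e'.2 (inv_mem e.2))
        have h4 : (t : G) = t' := (inv_mul_eq_one.1 h3).symm
        rw [h4] at h1
        exact Prod.ext (Subtype.ext h4) (Subtype.ext (mul_left_cancel h1))
      · rintro ⟨g, hg⟩
        obtain ⟨t, ht, e, he, rfl⟩ := hfac g hg
        exact ⟨(⟨t, ht⟩, ⟨e, he⟩), rfl⟩
    rw [← Nat.card_congr (Equiv.ofBijective f hf), Nat.card_prod]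
  have hzE : z ∈ E := ⟨hzN, mem_centralizer_singleton_iff.2 rfl⟩
  have huniq : ∀ j ∈ E, orderOf j = 2 → j = z := by
    intro j hjE hj
    have h1 : z⁻¹ * j ∈ T := by
      rw [← conj_eq_conj_iff, hx.2.2, (inverts hG hx hz hj hjE.1).1 x (self_mem)]
    exact (inv_mul_eq_one.1 (hdisj _ h1 (mul_mem (inv_mem hzE) hjE))).symm
  have hE8 := h8 E inf_le_right huniq
  have : Fact (Nat.Prime 2) := ⟨Nat.prime_two⟩
  obtain ⟨k, hk⟩ := IsPGroup.iff_card.1 ((hG z hz).to_le (inf_le_right : E ≤ _))
  have h2 : 2 ∣ Nat.card E := by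
    have := orderOf_dvd_natCard (⟨z, hzE⟩ : E)
    rwa [Subgroup.orderOf_mk, hz] at this
  refine ⟨Nat.card E, ?_, ?_, hcard⟩
  · rw [hk] at hE8 h2 ⊢
    rcases k with _ | _ | _ | _ | k
    · norm_num at h2
    · norm_num
    · norm_num
    · norm_num
    · exfalso
      simp only [pow_succ] at hE8
      have := Nat.one_le_two_pow (n := k)
      omega
  · let X := {c : G // c ∈ T ∧ c ≠ 1}
    let _ : MulAction E X :=
      { smul := fun e c => ⟨(e : G) * c.1 * (e : G)⁻¹, (mem_normalizer_iff.1 e.2.1 _).1 c.2.1,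
          fun h => c.2.2 (conj_eq_one_iff.1 h)⟩
        one_smul := fun c => Subtype.ext (show (1 : G) * c.1 * (1 : G)⁻¹ = c.1 by simp)
        mul_smul := fun a b c => Subtype.ext (show ((a : G) * b) * c.1 * ((a : G) * b)⁻¹ =
          (a : G) * ((b : G) * c.1 * (b : G)⁻¹) * (a : G)⁻¹ by group) }
    have hfree : ∀ c : X, MulAction.stabilizer E c = ⊥ := by
      intro c
      rw [eq_bot_iff]
      intro e he
      have h1 : (e : G) * c.1 * (e : G)⁻¹ = c.1 := congrArg Subtype.val (MulAction.mem_stabilizer_iff.1 he)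
      have h2 : (e : G) ∈ T := by
        rw [← cent_eq hG hx hz c.2.1 c.2.2, mem_centralizer_singleton_iff]
        exact mul_inv_eq_iff_eq_mul.1 h1
      exact mem_bot.2 (Subtype.ext (hdisj _ h2 e.2))
    have h1 := Nat.card_congr (MulAction.selfEquivOrbitsQuotientProd (G := E) (X := X) hfree)
    rw [Nat.card_prod] at h1
    have h2 : Nat.card X = Nat.card T - 1 := by
      show Nat.card ↥{c : G | c ∈ T ∧ c ≠ 1} = _
      rw [Nat.card_coe_set_eq, show {c : G | c ∈ T ∧ c ≠ 1} = (T : Set G) \ {1} from rfl,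
        Set.ncard_sdiff_singleton_of_mem (one_mem T), ← Nat.card_coe_set_eq]
      rfl
    rw [← h2, h1]
    exact dvd_mul_left _ _

/-- A prime dividing the torus has a full Sylow subgroup in it. -/
theorem exists_sylow_le {q : ℕ} [Fact q.Prime] (hq : q ∣ Nat.card T) :
    ∃ Q : Sylow q G, (Q : Subgroup G) ≤ T := by
  obtain ⟨y, hy⟩ := exists_prime_orderOf_dvd_card' q hq
  rw [← Subgroup.orderOf_coe] at hy
  obtain ⟨Q, hQ⟩ := (IsPGroup.of_card (p := q) (n := 1)
    (by rw [Nat.card_zpowers, hy, pow_one]) : IsPGroup q (zpowers (y : G))).exists_le_sylow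
  have hyQ : (y : G) ∈ (Q : Subgroup G) := hQ (mem_zpowers _)
  have hy1 : (y : G) ≠ 1 := fun e => by
    rw [e, orderOf_one] at hy
    exact (Fact.out : q.Prime).ne_one hy.symm
  have : Nontrivial (Q : Subgroup G) :=
    (Subgroup.nontrivial_iff_exists_ne_one _).2 ⟨y, hyQ, hy1⟩
  obtain ⟨c, hc⟩ := @exists_ne _ Q.isPGroup'.center_nontrivial (1 : center (Q : Subgroup G))
  have hc1 : ((c : (Q : Subgroup G)) : G) ≠ 1 := fun e => hc (Subtype.ext (Subtype.ext e))
  have hcT : ((c : (Q : Subgroup G)) : G) ∈ T := by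
    rw [← cent_eq hG hx hz y.2 hy1, mem_centralizer_singleton_iff]
    exact (congrArg Subtype.val (mem_center_iff.1 c.2 ⟨y, hyQ⟩)).symm
  refine ⟨Q, fun d hd => ?_⟩
  rw [← cent_eq hG hx hz hcT hc1, mem_centralizer_singleton_iff]
  exact congrArg Subtype.val (mem_center_iff.1 c.2 ⟨d, hd⟩)

end Torus

end Cfsg.Agent.CIT.FourCount
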