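import Cfsg.Agent.Lib.CIT.Defs
import Cfsg.Agent.Lib.CIT.Module
import Cfsg.Agent.Lib.PCore.Basic
import Cfsg.Agent.Lib.PGroup.ElementaryAbelian
import Cfsg.Agent.Lib.Offender.Replacement
import Cfsg.Agent.Lib.FTConsumers.CoprimeClasses
import Cfsg.Agent.Lib.Coprime.Lift

/-!
# Maximal 2-local subgroups of a CIT group with an offender

`M` is a maximal 2-local, `D = O₂(M)`, `V` the involutions of `Z(D)` with `1`. If some elementary
abelian subgroup of `M` of largest order is outside `D`, then `M / D` acts on `V` as `SL(2, q)`.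
-/

set_option autoImplicit false
set_option linter.style.haveILetI false
set_option linter.unusedSectionVars false

namespace Cfsg.Agent.CIT

open Subgroup
open Cfsg (IsElementaryAbelian pCore maxElementaryAbelianSubgroups)
open scoped commutatorElement

variable {G : Type*} [Group G]

/-- The order of a product of two commuting subgroups. -/
theorem card_sup_mul_inf [Finite G] {H K : Subgroup G} (h : ∀ a ∈ H, ∀ b ∈ K, Commute a b) :
    Nat.card (H ⊔ K : Subgroup G) * Nat.card (H ⊓ K : Subgroup G) = Nat.card H * Nat.card K := by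
  have hcm : ∀ (a : H) (b : K), Commute (H.subtype a) (K.subtype b) := fun a b => h _ a.2 _ b.2
  let f : H × K →* G := MonoidHom.noncommCoprod H.subtype K.subtype hcm
  have hr : f.range = H ⊔ K := by
    simp only [f]
    rw [MonoidHom.noncommCoprod_range, Subgroup.range_subtype, Subgroup.range_subtype]
  have hk : Nat.card f.ker = Nat.card (H ⊓ K : Subgroup G) := by
    refine Nat.card_eq_of_bijective (fun p : f.ker => (⟨((p.1.1 : H) : G), p.1.1.2, ?_⟩ :
      (H ⊓ K : Subgroup G))) ⟨?_, ?_⟩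
    · have e : ((p.1.1 : H) : G) * ((p.1.2 : K) : G) = 1 := p.2
      rw [mul_eq_one_iff_eq_inv] at e
      rw [SetLike.mem_coe, e]
      exact K.inv_mem p.1.2.2
    · rintro ⟨⟨a, b⟩, hab⟩ ⟨⟨a', b'⟩, hab'⟩ e
      have e1 : (a : G) = a' := congrArg (fun z : (H ⊓ K : Subgroup G) => (z : G)) e
      have e2 : (a : G) * b = 1 := hab
      have e3 : (a' : G) * b' = 1 := hab'
      rw [← e1, ← e2] at e3
      obtain rfl : a = a' := Subtype.ext e1
      obtain rfl : b = b' := Subtype.ext (mul_left_cancel e3).symm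
      rfl
    · rintro ⟨x, hxH, hxK⟩
      exact ⟨⟨(⟨x, hxH⟩, ⟨x⁻¹, K.inv_mem hxK⟩), mul_inv_cancel x⟩, rfl⟩
  rw [← hr, ← hk, ← Nat.card_prod (α := H), ← index_ker, mul_comm, card_mul_index]

/-- `O₂(M)` inside `G`. -/
def core (M : Subgroup G) : Subgroup G := (pCore 2 M).map M.subtype

theorem core_le (M : Subgroup G) : core M ≤ M := Subgroup.map_subtype_le _

theorem core_two [Finite G] (M : Subgroup G) : IsPGroup 2 (core M) :=
  PCore.isPGroup_pCore.map _

theorem conj_mem_core {M : Subgroup G} {m d : G} (hm : m ∈ M) (hd : d ∈ core M) :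
    m * d * m⁻¹ ∈ core M := by
  obtain ⟨d, hd, rfl⟩ := hd
  have hn : (pCore 2 M).Normal := PCore.pCore_normal
  exact ⟨_, hn.conj_mem d hd ⟨m, hm⟩, rfl⟩

theorem le_normalizer_core (M : Subgroup G) : M ≤ normalizer (core M : Set G) := by
  intro m hm
  refine mem_normalizer_iff.2 fun n => ⟨conj_mem_core hm, fun h => ?_⟩
  have := conj_mem_core (M.inv_mem hm) h
  rwa [show m⁻¹ * (m * n * m⁻¹) * m⁻¹⁻¹ = n by group] at this

theorem le_core {M D : Subgroup G} (hDM : D ≤ M) (hD : IsPGroup 2 D)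
    (hn : M ≤ normalizer (D : Set G)) : D ≤ core M := by
  haveI : (D.subgroupOf M).Normal := (normal_subgroupOf_iff_le_normalizer hDM).2 hn
  have h := PCore.le_pCore (p := 2) (N := D.subgroupOf M)
    (hD.of_equiv (subgroupOfEquivOfLe hDM).symm)
  intro d hd
  exact ⟨⟨d, hDM hd⟩, h (mem_subgroupOf.2 hd), rfl⟩

theorem isLocal_normalizer {D : Subgroup G} (hD : IsPGroup 2 D) (hne : D ≠ ⊥) :
    IsLocal (normalizer (D : Set G)) := ⟨D, le_normalizer, hne, hD, le_rfl⟩

theorem core_ne_bot {M : Subgroup G} (hM : IsLocal M) : core M ≠ ⊥ := by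
  obtain ⟨D, hDM, hne, hD, hn⟩ := hM
  exact fun e => hne (le_bot_iff.1 (e ▸ le_core hDM hD hn))

theorem IsMaxLocal.normalizer_eq {M D : Subgroup G} (hM : IsMaxLocal M) (hD : IsPGroup 2 D)
    (hne : D ≠ ⊥) (hn : M ≤ normalizer (D : Set G)) : normalizer (D : Set G) = M :=
  hM.2 _ (isLocal_normalizer hD hne) hn

theorem exists_isMaxLocal [Finite G] {H : Subgroup G} (hH : IsLocal H) :
    ∃ M, IsMaxLocal M ∧ H ≤ M := by
  obtain ⟨M, hM, hmax⟩ := Set.Finite.exists_maximalFor (fun K : Subgroup G => Nat.card K)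
    {K | IsLocal K ∧ H ≤ K} (Set.toFinite _) ⟨H, hH, le_rfl⟩
  exact ⟨M, ⟨hM.1, fun K hK hMK => (Subgroup.eq_of_le_of_card_ge hMK
    (hmax ⟨hK, hM.2.trans hMK⟩ (Subgroup.card_le_of_le hMK))).symm⟩, hM.2⟩

theorem IsLocal.ne_top [Finite G] [IsSimpleGroup G] (hne : ∃ a b : G, a * b ≠ b * a) {M : Subgroup G}
    (hM : IsLocal M) : M ≠ ⊤ := by
  obtain ⟨D, -, hD1, hD, hn⟩ := hM
  rintro rfl
  haveI : D.Normal := normalizer_eq_top_iff.1 (top_le_iff.1 hn)
  rcases Subgroup.Normal.eq_bot_or_eq_top (inferInstance : D.Normal) with h | h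
  · exact hD1 h
  haveI : Fact (Nat.Prime 2) := ⟨Nat.prime_two⟩
  obtain ⟨a, b, hab⟩ := hne
  subst h
  haveI : Group.IsNilpotent G :=
    (Group.isNilpotent_congr Subgroup.topEquiv).1 hD.isNilpotent
  exact hab (IsSimpleGroup.comm_iff_isSolvable.2 inferInstance a b)

/-- The elements of order at most `2` in the centre of `O₂(M)`. -/
def vsub (M : Subgroup G) : Subgroup G where
  carrier := {x | x ∈ core M ∧ (∀ d ∈ core M, Commute x d) ∧ x * x = 1}
  one_mem' := ⟨one_mem _, fun d _ => Commute.one_left d, one_mul 1⟩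
  mul_mem' := fun {x y} hx hy => ⟨mul_mem hx.1 hy.1,
    fun d hd => (hx.2.1 d hd).mul_left (hy.2.1 d hd), by
      rw [mul_assoc x y, ← mul_assoc y x, (hx.2.1 y hy.1).symm.eq, mul_assoc x y y, hy.2.2,
        mul_one, hx.2.2]⟩
  inv_mem' := fun {x} hx => ⟨inv_mem hx.1, fun d hd => (hx.2.1 d hd).inv_left, by
    rw [← mul_inv_rev, hx.2.2, inv_one]⟩

theorem vsub_le_core (M : Subgroup G) : vsub M ≤ core M := fun _ h => h.1

theorem vsub_commute {M : Subgroup G} {v d : G} (hv : v ∈ vsub M) (hd : d ∈ core M) :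
    Commute v d := hv.2.1 d hd

theorem vsub_sq {M : Subgroup G} {v : G} (hv : v ∈ vsub M) : v * v = 1 := hv.2.2

/-- `V` is commutative. -/
instance vsubCommGroup (M : Subgroup G) : CommGroup (vsub M) :=
  { (inferInstance : Group (vsub M)) with
    mul_comm := fun x y => Subtype.ext (vsub_commute x.2 (vsub_le_core M y.2)).eq }

theorem vsub_elem (M : Subgroup G) : IsElementaryAbelian 2 (vsub M) :=
  ⟨⟨⟨mul_comm⟩⟩, fun v hv => by rw [pow_two]; exact vsub_sq hv⟩

theorem vsub_two (M : Subgroup G) : IsPGroup 2 (vsub M) :=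
  PGroup.isPGroup_of_elementaryAbelian (vsub_elem M)

theorem le_normalizer_vsub (M : Subgroup G) : M ≤ normalizer (vsub M : Set G) := by
  have key : ∀ m ∈ M, ∀ v ∈ vsub M, m * v * m⁻¹ ∈ vsub M := by
    intro m hm v hv
    refine ⟨conj_mem_core hm hv.1, fun d hd => ?_, ?_⟩
    · have h1 := hv.2.1 _ (conj_mem_core (M.inv_mem hm) hd)
      rw [inv_inv] at h1
      calc m * v * m⁻¹ * d = m * (v * (m⁻¹ * d * m)) * m⁻¹ := by group
        _ = m * (m⁻¹ * d * m * v) * m⁻¹ := by rw [h1.eq]
        _ = d * (m * v * m⁻¹) := by group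
    · rw [show m * v * m⁻¹ * (m * v * m⁻¹) = m * (v * v) * m⁻¹ by group, hv.2.2, mul_one,
        mul_inv_cancel]
  intro m hm
  refine mem_normalizer_iff.2 fun n => ⟨key m hm n, fun h => ?_⟩
  have := key _ (M.inv_mem hm) _ h
  rwa [show m⁻¹ * (m * n * m⁻¹) * m⁻¹⁻¹ = n by group] at this

theorem vsub_ne_bot [Finite G] {M : Subgroup G} (hM : IsLocal M) : vsub M ≠ ⊥ := by
  haveI : Fact (Nat.Prime 2) := ⟨Nat.prime_two⟩
  haveI : Nontrivial (core M) := (Subgroup.nontrivial_iff_ne_bot _).2 (core_ne_bot hM)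
  haveI := (core_two M).center_nontrivial
  obtain ⟨z, hz⟩ := exists_ne (1 : Subgroup.center (core M))
  obtain ⟨k, hk⟩ := IsPGroup.iff_orderOf.1 ((core_two M).to_subgroup _) z
  rcases k with _ | k
  · exact absurd (orderOf_eq_one_iff.1 (hk.trans (pow_zero 2))) hz
  set y := z ^ 2 ^ k with hy
  have hy2 : orderOf y = 2 := by
    rw [hy, orderOf_pow_of_dvd (pow_ne_zero _ two_ne_zero) (hk ▸ pow_dvd_pow 2 (Nat.le_succ k)), hk,
      pow_succ, Nat.mul_div_cancel_left _ (by positivity)]
  intro e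
  have hmem : ((y : core M) : G) ∈ vsub M := ⟨SetLike.coe_mem _, fun d hd =>
    (congrArg Subtype.val (Subgroup.mem_center_iff.1 y.2 ⟨d, hd⟩) :).symm, by
      have := pow_orderOf_eq_one y
      rw [hy2, pow_two] at this
      exact congrArg (fun u : Subgroup.center (core M) => ((u : core M) : G)) this⟩
  rw [e, Subgroup.mem_bot] at hmem
  rw [show y = 1 from Subtype.ext (Subtype.ext hmem), orderOf_one] at hy2
  exact absurd hy2 (by omega)

theorem normalizer_vsub [Finite G] {M : Subgroup G} (hM : IsMaxLocal M) :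
    normalizer (vsub M : Set G) = M :=
  hM.normalizer_eq (vsub_two M) (vsub_ne_bot hM.1) (le_normalizer_vsub M)

/-- `C(V) = D`. -/
theorem centralizer_vsub [Finite G] (hG : IsCIT G) {M : Subgroup G} (hM : IsMaxLocal M) :
    centralizer (vsub M : Set G) = core M := by
  refine le_antisymm ?_ fun d hd => mem_centralizer_iff.2 fun v hv => (vsub_commute hv hd).eq
  have hCM : centralizer (vsub M : Set G) ≤ M :=
    (centralizer_le_normalizer _).trans (normalizer_vsub hM).le
  refine le_core hCM (isPGroup_centralizer hG (vsub_two M) (vsub_ne_bot hM.1)) fun m hm => ?_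
  have key : ∀ m ∈ M, ∀ x ∈ centralizer (vsub M : Set G),
      m * x * m⁻¹ ∈ centralizer (vsub M : Set G) := by
    intro m hm x hx
    refine mem_centralizer_iff.2 fun v hv => ?_
    have h1 := mem_centralizer_iff.1 hx _
      ((mem_normalizer_iff.1 (le_normalizer_vsub M (M.inv_mem hm)) v).1 hv)
    rw [inv_inv] at h1
    calc v * (m * x * m⁻¹) = m * (m⁻¹ * v * m * x) * m⁻¹ := by group
      _ = m * (x * (m⁻¹ * v * m)) * m⁻¹ := by rw [h1]
      _ = m * x * m⁻¹ * v := by group
  refine mem_normalizer_iff.2 fun n => ⟨key m hm n, fun h => ?_⟩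
  have := key _ (M.inv_mem hm) _ h
  rwa [show m⁻¹ * (m * n * m⁻¹) * m⁻¹⁻¹ = n by group] at this

/-- The action of `M` on `V`. -/
def act (M : Subgroup G) : M →* MulAut (vsub M) :=
  (vsub M).normalizerMonoidHom.comp (Subgroup.inclusion (le_normalizer_vsub M))

/-- The group `M / D` acting on `V`. -/
abbrev Img (M : Subgroup G) : Subgroup (MulAut (vsub M)) := (act M).range

/-- The image of a subgroup of `G` in `M / D`. -/
def img (M A : Subgroup G) : Subgroup (Img M) := (A.subgroupOf M).map (act M).rangeRestrict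

theorem act_smul (M : Subgroup G) (m : M) (v : vsub M) :
    (((act M).rangeRestrict m • v : vsub M) : G) = (m : G) * v * (m : G)⁻¹ := rfl

theorem act_smul_eq_iff {M : Subgroup G} {m : M} {v : vsub M} :
    (act M).rangeRestrict m • v = v ↔ Commute (m : G) v := by
  rw [Subtype.ext_iff, act_smul, mul_inv_eq_iff_eq_mul]
  rfl

theorem act_eq_one [Finite G] (hG : IsCIT G) {M : Subgroup G} (hM : IsMaxLocal M) {m : M} :
    (act M).rangeRestrict m = 1 ↔ (m : G) ∈ core M := by
  rw [← centralizer_vsub hG hM, mem_centralizer_iff]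
  constructor
  · intro e v hv
    have h : (act M).rangeRestrict m • (⟨v, hv⟩ : vsub M) = ⟨v, hv⟩ := by rw [e, one_smul]
    exact (act_smul_eq_iff.1 h).symm
  · intro h
    refine Subtype.ext (MulEquiv.ext fun v => ?_)
    exact act_smul_eq_iff.2 (Commute.symm (h v v.2))

theorem mem_img {M A : Subgroup G} {x : Img M} :
    x ∈ img M A ↔ ∃ m : M, (m : G) ∈ A ∧ (act M).rangeRestrict m = x := Iff.rfl

/-- Fixed points of the image. -/
theorem mem_fixV_img {M A : Subgroup G} (hAM : A ≤ M) {v : vsub M} :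
    v ∈ Module.fixV (img M A) ↔ (v : G) ∈ centralizer (A : Set G) := by
  rw [Module.mem_fixV, mem_centralizer_iff]
  constructor
  · intro h a ha
    exact act_smul_eq_iff.1 (h _ (mem_img.2 ⟨⟨a, hAM ha⟩, ha, rfl⟩))
  · rintro h _ ⟨m, hm, rfl⟩
    exact act_smul_eq_iff.2 (h _ hm)

/-- The fixed points of an offender. -/
def wsub (M A : Subgroup G) : Subgroup G := vsub M ⊓ centralizer (A : Set G)

theorem card_fixV_img {M A : Subgroup G} (hAM : A ≤ M) :
    Nat.card (Module.fixV (img M A) : Subgroup (vsub M)) = Nat.card (wsub M A) := by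
  refine Nat.card_eq_of_bijective (fun v => (⟨((v : vsub M) : G), (v : vsub M).2,
    (mem_fixV_img hAM).1 v.2⟩ : wsub M A))
    ⟨fun a b e => Subtype.ext (Subtype.ext (congrArg (fun w : wsub M A => (w : G)) e)), ?_⟩
  rintro ⟨x, hx, hxC⟩
  exact ⟨⟨⟨x, hx⟩, (mem_fixV_img hAM).2 hxC⟩, rfl⟩

/-- `M` is a maximal local with an elementary abelian subgroup of largest order outside `O₂(M)`. -/
def Bad (M : Subgroup G) : Prop :=
  IsMaxLocal M ∧ ∃ A : Subgroup G, A ≤ M ∧ IsElementaryAbelian 2 A ∧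
    (∀ B : Subgroup G, B ≤ M → IsElementaryAbelian 2 B → Nat.card B ≤ Nat.card A) ∧ ¬ A ≤ core M

/-- The setting: a quadratic elementary abelian subgroup of largest order outside `O₂(M)`. -/
structure Sett (M A : Subgroup G) : Prop where
  hG : IsCIT G
  max : IsMaxLocal M
  le : A ≤ M
  elem : IsElementaryAbelian 2 A
  largest : ∀ B : Subgroup G, B ≤ M → IsElementaryAbelian 2 B → Nat.card B ≤ Nat.card A
  out : ¬ A ≤ core M
  quad : ∀ a ∈ A, ∀ v ∈ vsub M, a * v * a⁻¹ * v ∈ centralizer (A : Set G)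

variable [Finite G]

/-- An offender gives a quadratic one. -/
theorem Bad.exists_sett (hG : IsCIT G) {M : Subgroup G} (hM : Bad M) : ∃ A, Sett M A := by
  obtain ⟨hmax, A, hAM, hA, hlarge, hout⟩ := hM
  haveI : Fact (Nat.Prime 2) := ⟨Nat.prime_two⟩
  set V' := (vsub M).subgroupOf M with hV'
  have hVM : vsub M ≤ M := (vsub_le_core M).trans (core_le M)
  haveI : V'.Normal := (normal_subgroupOf_iff_le_normalizer hVM).2 (le_normalizer_vsub M)
  have hV'e : IsElementaryAbelian 2 V' := by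
    rw [← PGroup.isElementaryAbelian_map_iff M.subtype_injective, map_subgroupOf_eq_of_le hVM]
    exact vsub_elem M
  have hA' : A.subgroupOf M ∈ maxElementaryAbelianSubgroups 2 M := by
    refine ⟨?_, fun B hB => ?_⟩
    · rw [← PGroup.isElementaryAbelian_map_iff M.subtype_injective, map_subgroupOf_eq_of_le hAM]
      exact hA
    · have h := hlarge _ (map_subtype_le B) (PGroup.isElementaryAbelian_map hB _)
      rw [Subgroup.card_map_of_injective M.subtype_injective] at h
      rwa [Nat.card_congr (subgroupOfEquivOfLe hAM).toEquiv]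
  have hne : ⁅V', A.subgroupOf M⁆ ≠ ⊥ := fun e => hout fun a ha => by
    rw [← centralizer_vsub hG hmax, mem_centralizer_iff]
    intro v hv
    rw [commutator_eq_bot_iff_le_centralizer] at e
    exact (congrArg Subtype.val (mem_centralizer_iff.1 (e (show (⟨v, hVM hv⟩ : M) ∈ V' from hv))
      ⟨a, hAM ha⟩ ha)).symm
  have h1 := Offender.replacement_max hV'e hA'
  have h2 := Offender.replacement_quadratic (A := A.subgroupOf M) hV'e
  have h3 := Offender.replacement_nontrivial hV'e hA' hne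
  set A₁ := ⁅V', A.subgroupOf M⁆ ⊔
    (A.subgroupOf M ⊓ centralizer ((⁅V', A.subgroupOf M⁆ : Subgroup M) : Set M))
  have hcard : Nat.card (A₁.map M.subtype) = Nat.card A := by
    rw [Subgroup.card_map_of_injective M.subtype_injective,
      ← Nat.card_congr (subgroupOfEquivOfLe hAM).toEquiv]
    exact le_antisymm (hA'.2 _ h1.1) (h1.2 _ hA'.1)
  refine ⟨A₁.map M.subtype, hG, hmax, map_subtype_le _, PGroup.isElementaryAbelian_map h1.1 _,
    fun B hB hBe => hcard ▸ hlarge B hB hBe, fun hle => h3 ?_, ?_⟩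
  · rw [commutator_eq_bot_iff_le_centralizer]
    intro v hv
    refine mem_centralizer_iff.2 fun a ha => Subtype.ext ?_
    exact (vsub_commute hv (hle ⟨a, ha, rfl⟩)).symm
  · rintro _ ⟨a, ha, rfl⟩ v hv
    refine mem_centralizer_iff.2 ?_
    rintro _ ⟨b, hb, rfl⟩
    have h4 := commutator_eq_bot_iff_le_centralizer.1 h2
      (commutator_mem_commutator (show (⟨v, hVM hv⟩ : M) ∈ V' from hv) ha)
    have h5 : (⁅(⟨v, hVM hv⟩ : M), a⁆ : M) * b = b * ⁅(⟨v, hVM hv⟩ : M), a⁆ :=
      (mem_centralizer_iff.1 h4 b hb).symm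
    have h6 := congrArg Subtype.val h5
    rw [commutatorElement_def] at h6
    simp only [Subgroup.coe_mul, Subgroup.coe_inv] at h6
    have hv' : v⁻¹ = v := inv_eq_of_mul_eq_one_right (vsub_sq hv)
    rw [hv'] at h6
    have hw : (a : G) * v * (a : G)⁻¹ * v = v * a * v * (a : G)⁻¹ := by
      have h7 := congrArg Subtype.val (mul_comm
        (⟨(a : G) * v * (a : G)⁻¹, (mem_normalizer_iff.1 (le_normalizer_vsub M a.2) v).1 hv⟩ :
          vsub M) ⟨v, hv⟩)
      rw [Subgroup.coe_mul, Subgroup.coe_mul] at h7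
      rw [h7]
      group
    show (b : G) * ((a : G) * v * (a : G)⁻¹ * v) = (a : G) * v * (a : G)⁻¹ * v * b
    rw [hw]
    exact h6.symm

namespace Sett

variable {M A : Subgroup G} (h : Sett M A)
include h

theorem commA {a b : G} (ha : a ∈ A) (hb : b ∈ A) : Commute a b :=
  congrArg Subtype.val (h.elem.1.is_comm.comm ⟨a, ha⟩ ⟨b, hb⟩)

theorem vsub_le : vsub M ≤ M := (vsub_le_core M).trans (core_le M)

/-- An odd lift of an odd element of `M / D`. -/
theorem exists_odd_lift (x : Img M) :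
    ∃ (k : ℕ) (m : M), Odd (orderOf (m : G)) ∧ (act M).rangeRestrict m = x ^ 2 ^ k := by
  obtain ⟨m, rfl⟩ := (act M).rangeRestrict_surjective x
  obtain ⟨k, hk⟩ := exists_odd_pow m
  exact ⟨k, m ^ 2 ^ k, by rwa [Subgroup.orderOf_coe], map_pow _ _ _⟩

theorem ker_two : IsPGroup 2 (act M).rangeRestrict.ker := by
  refine ((core_two M).comap_of_injective M.subtype M.subtype_injective).to_le fun m hm => ?_
  exact (act_eq_one h.hG h.max).1 hm

theorem card_A_img : Nat.card A = Nat.card (img M A) * Nat.card (A ⊓ core M : Subgroup G) := by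
  set f : (A.subgroupOf M) →* Img M := (act M).rangeRestrict.comp (A.subgroupOf M).subtype with hf
  have hr : f.range = img M A := by
    rw [hf, MonoidHom.range_comp, Subgroup.range_subtype]
    rfl
  have hk : f.ker.map (A.subgroupOf M).subtype = (A ⊓ core M).subgroupOf M := by
    ext m
    constructor
    · rintro ⟨x, hx, rfl⟩
      exact ⟨x.2, (act_eq_one h.hG h.max).1 hx⟩
    · rintro hm
      exact ⟨⟨m, hm.1⟩, (act_eq_one h.hG h.max).2 hm.2, rfl⟩
  rw [← hr, ← index_ker,
    ← Nat.card_congr (subgroupOfEquivOfLe (inf_le_left.trans h.le : A ⊓ core M ≤ M)).toEquiv,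
    ← hk, Subgroup.card_map_of_injective (Subgroup.subtype_injective _), mul_comm,
    card_mul_index, Nat.card_congr (subgroupOfEquivOfLe h.le).toEquiv]

/-- The module hypotheses. -/
theorem off : Module.Off (V := vsub M) (img M A) where
  expV v := Subtype.ext (vsub_sq v.2)
  faithful x hx := Subtype.ext (MulEquiv.ext fun v => hx v)
  fix_odd x hx v hxv hv := by
    obtain ⟨k, m, hm, e⟩ := h.exists_odd_lift x
    have h1 : (act M).rangeRestrict m • v = v := by
      rw [e]
      exact MulAction.mem_stabilizer_iff.1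
        (pow_mem (MulAction.mem_stabilizer_iff.2 hxv : x ∈ MulAction.stabilizer (Img M) v) _)
    have hv2 : orderOf (v : G) = 2 := by
      haveI : Fact (Nat.Prime 2) := ⟨Nat.prime_two⟩
      exact orderOf_eq_prime (by rw [pow_two]; exact vsub_sq v.2) fun e1 => hv (Subtype.ext e1)
    have h2 : m = 1 := Subtype.ext (eq_one_of_commute h.hG hm hv2 (act_smul_eq_iff.1 h1))
    rw [h2, map_one] at e
    exact eq_one_of_odd_of_two_pow hx e.symm
  odd_inv x t hx ht hxt := by
    haveI : Fact (Nat.Prime 2) := ⟨Nat.prime_two⟩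
    set r := (act M).rangeRestrict with hr
    obtain ⟨k, y, hy, ey⟩ := h.exists_odd_lift x
    obtain ⟨g, eg⟩ := (act M).rangeRestrict_surjective t
    obtain ⟨j, hj⟩ := IsPGroup.iff_card.1 h.ker_two
    have hy' : Odd (orderOf y) := by rwa [← Subgroup.orderOf_coe]
    have hcop : (orderOf y).Coprime (Nat.card r.ker) :=
      hj ▸ Nat.Coprime.pow_right j (Nat.coprime_two_right.2 hy')
    have hgy : g * y * g⁻¹ ∈ zpowers y ⊔ r.ker := by
      rw [show g * y * g⁻¹ = y * (y⁻¹ * (g * y * g⁻¹)) by group]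
      refine mul_mem (mem_sup_left (mem_zpowers y)) (mem_sup_right ?_)
      rw [MonoidHom.mem_ker, map_mul, map_inv, map_mul, map_mul, map_inv, ey, hr, eg,
        ((hxt.pow_left (2 ^ k)).symm).eq, mul_inv_cancel_right, inv_mul_cancel]
    obtain ⟨u, hu, hug⟩ := Coprime.exists_mul_mem_normalizer_zpowers hcop hgy
    have hug' : r (u * g) = t := by rw [map_mul, MonoidHom.mem_ker.1 hu, one_mul, hr, eg]
    have hcomm : Commute (u * g) y := by
      have h1 : u * g * y * (u * g)⁻¹ * y⁻¹ ∈ zpowers y :=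
        mul_mem ((mem_normalizer_iff.1 hug y).1 (mem_zpowers y)) (inv_mem (mem_zpowers y))
      have h2 : r (u * g * y * (u * g)⁻¹ * y⁻¹) = 1 := by
        rw [map_mul, map_mul, map_mul, map_inv, map_inv, hug', ey,
          ((hxt.pow_left (2 ^ k)).symm).eq, mul_inv_cancel_right, mul_inv_cancel]
      obtain ⟨i, hi⟩ := h.ker_two ⟨_, h2⟩
      have h3 : u * g * y * (u * g)⁻¹ * y⁻¹ = 1 := eq_one_of_odd_of_two_pow
        (hy'.of_dvd_nat (Subgroup.orderOf_dvd_natCard _ h1 |>.trans (Nat.card_zpowers y).dvd))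
        (congrArg Subtype.val hi :)
      rw [mul_inv_eq_one, mul_inv_eq_iff_eq_mul] at h3
      exact h3
    -- a power of `u g` is an involution commuting with `y`
    obtain ⟨i, n, hn, he⟩ := Nat.exists_eq_two_pow_mul_odd (orderOf_pos (u * g)).ne'
    have hi : i ≠ 0 := fun e => by
      have hd := orderOf_map_dvd r (u * g)
      rw [hug', ht, he, e, pow_zero, one_mul] at hd
      exact Nat.not_even_iff_odd.2 hn (even_iff_two_dvd.2 hd)
    obtain ⟨i, rfl⟩ := Nat.exists_eq_succ_of_ne_zero hi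
    have hinv : orderOf ((u * g) ^ (2 ^ i * n)) = 2 := by
      rw [orderOf_pow, he, Nat.gcd_eq_right (Nat.mul_dvd_mul_right (pow_dvd_pow 2 (Nat.le_succ i)) n),
        Nat.mul_div_mul_right _ _ hn.pos, pow_succ, Nat.mul_div_cancel_left _ (by positivity)]
    have h4 : (y : G) = 1 := eq_one_of_commute h.hG hy
      (t := (((u * g) ^ (2 ^ i * n) : M) : G)) (by rwa [Subgroup.orderOf_coe])
      (congrArg Subtype.val (hcomm.symm.pow_right (2 ^ i * n)).eq :)
    rw [show y = 1 from Subtype.ext h4, map_one] at ey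
    exact eq_one_of_odd_of_two_pow hx ey.symm
  inverted t ht := by
    haveI : Fact (Nat.Prime 2) := ⟨Nat.prime_two⟩
    refine FTConsumers.exists_inverted_odd ht fun hmem => ?_
    set r := (act M).rangeRestrict with hr
    haveI : (pCore 2 (Img M)).Normal := PCore.pCore_normal
    have h1 : (pCore 2 (Img M)).comap r ≤ pCore 2 M :=
      PCore.le_pCore (PCore.isPGroup_pCore.comap_of_ker_isPGroup r h.ker_two)
    obtain ⟨g, rfl⟩ := (act M).rangeRestrict_surjective t
    have h2 : (g : G) ∈ core M := ⟨g, h1 hmem, rfl⟩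
    rw [(act_eq_one h.hG h.max).2 h2, orderOf_one] at ht
    omega
  invA := by
    rintro _ ⟨a, ha, rfl⟩
    rw [← map_mul, show a * a = 1 from Subtype.ext (by
      show (a : G) * a = 1
      rw [← pow_two]; exact h.elem.2 _ ha), map_one]
  quad := by
    rintro _ ⟨a, ha, rfl⟩ _ ⟨b, hb, rfl⟩ v
    rw [act_smul_eq_iff, Subgroup.coe_mul, act_smul]
    exact (mem_centralizer_iff.1 (h.quad _ ha v v.2) _ hb)
  ne e := h.out fun a ha => by
    have h1 : (act M).rangeRestrict ⟨a, h.le ha⟩ ∈ img M A := mem_img.2 ⟨_, ha, rfl⟩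
    rw [e, Subgroup.mem_bot] at h1
    exact (act_eq_one h.hG h.max).1 h1
  bound := by
    rw [card_fixV_img h.le]
    have hcomm : ∀ a ∈ A ⊓ core M, ∀ v ∈ vsub M, Commute a v := fun a ha v hv =>
      (vsub_commute hv ha.2).symm
    have hE := h.largest ((A ⊓ core M) ⊔ vsub M) (sup_le (inf_le_left.trans h.le) h.vsub_le)
      (PGroup.isElementaryAbelian_sup (PGroup.isElementaryAbelian_mono h.elem inf_le_left)
        (vsub_elem M) fun a ha v hv => (hcomm a ha v hv).eq)
    have hc := card_sup_mul_inf hcomm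
    have hA := h.card_A_img
    have hle : Nat.card ((A ⊓ core M) ⊓ vsub M : Subgroup G) ≤ Nat.card (wsub M A) :=
      Subgroup.card_le_of_le fun x hx => ⟨hx.2, mem_centralizer_iff.2 fun a ha =>
        (h.commA ha hx.1.1).eq⟩
    refine Nat.le_of_mul_le_mul_left ?_ (Nat.card_pos (α := (A ⊓ core M : Subgroup G)))
    calc Nat.card (A ⊓ core M : Subgroup G) * Nat.card (vsub M)
        = Nat.card ((A ⊓ core M) ⊔ vsub M : Subgroup G) *
          Nat.card ((A ⊓ core M) ⊓ vsub M : Subgroup G) := hc.symm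
      _ ≤ Nat.card A * Nat.card (wsub M A) := Nat.mul_le_mul hE hle
      _ = _ := by rw [hA]; ring

/-- The order `q` of `C_V(A)`. -/
theorem card_vsub : Nat.card (vsub M) = Nat.card (wsub M A) * Nat.card (wsub M A) := by
  rw [← card_fixV_img h.le, h.off.card_V]

theorem two_le : 2 ≤ Nat.card (wsub M A) := card_fixV_img h.le ▸ h.off.two_le_q

theorem card_img : Nat.card (img M A) = Nat.card (wsub M A) :=
  h.off.card_A.trans (card_fixV_img h.le)

theorem card_A_eq : Nat.card A = Nat.card (wsub M A) * Nat.card (A ⊓ core M : Subgroup G) := by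
  rw [← h.card_img, h.card_A_img]

/-- `W ≤ A`, and `(A ∩ D) V` is again of largest order. -/
theorem wsub_le : wsub M A ≤ A ∧
    Nat.card ((A ⊓ core M) ⊔ vsub M : Subgroup G) = Nat.card A := by
  have hcomm : ∀ a ∈ A ⊓ core M, ∀ v ∈ vsub M, Commute a v := fun a ha v hv =>
    (vsub_commute hv ha.2).symm
  have hE := h.largest ((A ⊓ core M) ⊔ vsub M) (sup_le (inf_le_left.trans h.le) h.vsub_le)
    (PGroup.isElementaryAbelian_sup (PGroup.isElementaryAbelian_mono h.elem inf_le_left)
      (vsub_elem M) fun a ha v hv => (hcomm a ha v hv).eq)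
  have hc := card_sup_mul_inf hcomm
  rw [h.card_vsub] at hc
  have hsub : (A ⊓ core M) ⊓ vsub M ≤ wsub M A := fun x hx =>
    ⟨hx.2, mem_centralizer_iff.2 fun a ha => (h.commA ha hx.1.1).eq⟩
  have hle := Subgroup.card_le_of_le hsub
  set d := Nat.card (A ⊓ core M : Subgroup G) with hd
  set w := Nat.card (wsub M A) with hw
  set E := Nat.card ((A ⊓ core M) ⊔ vsub M : Subgroup G)
  set j := Nat.card ((A ⊓ core M) ⊓ vsub M : Subgroup G)
  rw [h.card_A_eq, ← hd, ← hw] at hE
  have hd0 : 0 < d := Nat.card_pos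
  have hw0 : 0 < w := Nat.card_pos
  have h1 : d * (w * w) ≤ w * d * j := hc ▸ Nat.mul_le_mul_right j hE
  have hjw : w ≤ j := by
    refine Nat.le_of_mul_le_mul_left ?_ (Nat.mul_pos hw0 hd0)
    linarith
  have hjeq : j = w := le_antisymm hle hjw
  refine ⟨fun x hx => ?_, ?_⟩
  · rw [← Subgroup.eq_of_le_of_card_ge hsub hjw] at hx
    exact hx.1.1
  · rw [h.card_A_eq, ← hd, ← hw]
    refine Nat.eq_of_mul_eq_mul_right hw0 ?_
    rw [hjeq] at hc
    rw [hc]
    ring

theorem wsub_eq : wsub M A = A ⊓ vsub M :=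
  le_antisymm (le_inf h.wsub_le.1 inf_le_left)
    fun x hx => ⟨hx.2, mem_centralizer_iff.2 fun a ha => (h.commA ha hx.1).eq⟩

end Sett

end Cfsg.Agent.CIT
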