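import Cfsg.Agent.Lib.CIT.PlaneFourGeo
import Cfsg.Agent.Lib.OstromWagner.Desarg
import Cfsg.Agent.Lib.GL.Basic

/-!
# The middle branch of the classification of simple CIT groups: `PSL(3, 4)`

A simple CIT group of order `20160` with a pair of maximal 2-locals for `q = 4` acts on a
Desarguesian plane of order four as its group of transvections.
-/

set_option autoImplicit false
set_option linter.unusedSectionVars false

namespace Cfsg.Agent.CIT

open scoped LinearAlgebra.Projectivization Matrix MatrixGroups Classical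
open Subgroup

namespace PlaneFour

section Persp

variable {Γ P L : Type*} [Group Γ] [MulAction Γ P] [MulAction Γ L] (S : OstromWagner.Geo Γ P L)
  [Finite P] [Finite L]

/-- An injective map of the points carrying lines into lines, fixing an axis pointwise and the lines
through a point of it, is determined by the image of one point off the axis. -/
theorem persp_unique (f g : P → P) (hfi : Function.Injective f)
    (hf : ∀ l, ∃ l', ∀ p, S.inc p l → S.inc (f p) l') (hg : ∀ l, ∃ l', ∀ p, S.inc p l → S.inc (g p) l')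
    {X : P} {A : L} (hX : S.inc X A) (hfA : ∀ p, S.inc p A → f p = p)
    (hgA : ∀ p, S.inc p A → g p = p) (hfX : ∀ l p, S.inc X l → S.inc p l → S.inc (f p) l)
    (hgX : ∀ l p, S.inc X l → S.inc p l → S.inc (g p) l) {q : P} (hq : ¬ S.inc q A) (hfg : f q = g q) :
    ∀ p, f p = g p := by
  have step : ∀ q, ¬ S.inc q A → f q = g q → ∀ y, ¬ S.inc y A →
      (∀ m, S.inc X m → S.inc q m → ¬ S.inc y m) → f y = g y := by
    intro q hq hfg y hy hym
    obtain ⟨k, hqk, hyk⟩ := S.exists_line q y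
    have hkA : k ≠ A := fun e => hq (e ▸ hqk)
    obtain ⟨z, hzk, hzA⟩ := S.exists_inter k A
    have hzX : z ≠ X := fun e => hym k (e ▸ hzk) hqk hyk
    have hfqA : ¬ S.inc (f q) A := fun e => hq ((hfi (hfA _ e)) ▸ e)
    have hfqz : f q ≠ z := fun e => hfqA (e ▸ hzA)
    obtain ⟨k₁, h1⟩ := hf k
    obtain ⟨k₂, h2⟩ := hg k
    have z1 : S.inc z k₁ := hfA z hzA ▸ h1 z hzk
    have z2 : S.inc z k₂ := hgA z hzA ▸ h2 z hzk
    have q2 : S.inc (f q) k₂ := hfg ▸ h2 q hqk
    obtain rfl := S.eq_line hfqz (h1 q hqk) z1 q2 z2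
    obtain ⟨n, hXn, hyn⟩ := S.exists_line X y
    have hne : n ≠ k₁ := fun e => hzX (S.eq_point (fun e' : n = A => hy (e' ▸ hyn)) (e ▸ z1) hzA hXn hX)
    exact S.eq_point hne (hfX n y hXn hyn) (h1 y hyk) (hgX n y hXn hyn) (h2 y hyk)
  intro y
  by_cases hy : S.inc y A
  · rw [hfA y hy, hgA y hy]
  obtain ⟨m, hXm, hqm⟩ := S.exists_line X q
  have huniq : ∀ m', S.inc X m' → S.inc q m' → m' = m := fun m' h1 h2 =>
    S.eq_line (fun e : X = q => hq (e ▸ hX)) h1 h2 hXm hqm
  by_cases hym : S.inc y m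
  · obtain ⟨q', hq'A, hq'm⟩ := S.exists_off_two A m
    refine step q' hq'A (step q hq hfg q' hq'A fun m' h1 h2 => huniq m' h1 h2 ▸ hq'm) y hy ?_
    intro m' h1 h2 hy'
    have hXy : X ≠ y := fun e => hy (e ▸ hX)
    exact hq'm (S.eq_line hXy h1 hy' hXm hym ▸ h2)
  · exact step q hq hfg y hy fun m' h1 h2 => huniq m' h1 h2 ▸ hym

/-- The elations with given centre and axis move a point to every point of its line. -/
theorem exists_elation {X : P} {A m : L} (hX : S.inc X A) (hn : S.n ≤ Nat.card (S.EC X A))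
    (hXm : S.inc X m) {q y : P} (hq : ¬ S.inc q A) (hqm : S.inc q m) (hym : S.inc y m) (hyX : y ≠ X) :
    ∃ g ∈ S.EC X A, g • q = y := by
  have := S.finite_group
  let F : ↥(S.EC X A) → P := fun g => (g : Γ) • q
  have hinj : Function.Injective F := by
    intro g k e
    refine Subtype.ext (inv_mul_eq_one.1 (S.EC_eq_one hX (mul_mem (inv_mem k.2) g.2) hq ?_)).symm
    show ((k : Γ)⁻¹ * g) • q = q
    rw [mul_smul, show (g : Γ) • q = (k : Γ) • q from e, inv_smul_smul]
  have hsub : Set.range F ⊆ {p | S.inc p m} \ {X} := by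
    rintro _ ⟨g, rfl⟩
    refine ⟨S.cen_collinear g.2.2 hXm hqm, fun e => hq ?_⟩
    rw [MulAction.injective (g : Γ) ((e : (g : Γ) • q = X).trans (OstromWagner.Geo.Cen.fix S g.2.2).symm)]
    exact hX
  have heq := Set.eq_of_subset_of_ncard_le hsub (by
    rw [S.ncard_line_sdiff hXm, Set.ncard_range_of_injective hinj]
    exact hn) (Set.toFinite _)
  obtain ⟨g, hg⟩ := heq.ge ⟨hym, hyX⟩
  exact ⟨g, g.2, hg⟩

end Persp

theorem sub_iff {F : Type*} [Field F] {v : Fin 3 → F} (hv : v ≠ 0) (W : Submodule F (Fin 3 → F)) :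
    (Projectivization.mk F v hv).submodule ≤ W ↔ v ∈ W := by
  rw [Projectivization.submodule_mk, Submodule.span_singleton_le_iff_mem]

/-- The collineations given by elations contain those of all transvections. -/
theorem transvection_mem {G : Type*} [Group G] {P L : Type*} [MulAction G P] [MulAction G L]
    (S : OstromWagner.Geo G P L) [Finite P] [Finite L] {F : Type} [Field F] [Fintype F]
    (φ : P ≃ ℙ F (Fin 3 → F))
    (hl : ∀ l : L, ∃ W : Submodule F (Fin 3 → F), Module.finrank F W = 2 ∧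
      ∀ p : P, S.inc p l ↔ (φ p).submodule ≤ W)
    (hW : ∀ W : Submodule F (Fin 3 → F), Module.finrank F W = 2 →
      ∃ l : L, ∀ p : P, S.inc p l ↔ (φ p).submodule ≤ W)
    (hEC : ∀ X A, S.inc X A → S.n ≤ Nat.card (S.EC X A)) {i j : Fin 3} (hij : i ≠ j) (c : F) :
    ∃ g : G, ∀ p, φ (g • p) = Matrix.SpecialLinearGroup.transvection hij c • φ p := by
  set t := Matrix.SpecialLinearGroup.transvection hij c with ht
  have htv : ∀ v : Fin 3 → F, (t : Matrix (Fin 3) (Fin 3) F) *ᵥ v = v + Pi.single i (c * v j) := by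
    intro v
    rw [ht, Matrix.SpecialLinearGroup.transvection_coe]
    show (1 + Matrix.single i j c) *ᵥ v = _
    rw [Matrix.add_mulVec, Matrix.one_mulVec, Matrix.single_mulVec]
    rfl
  have htmk : ∀ (v : Fin 3 → F) (hv : v ≠ 0) (h' : (t : Matrix (Fin 3) (Fin 3) F) *ᵥ v ≠ 0),
      t • Projectivization.mk F v hv = Projectivization.mk F ((t : Matrix (Fin 3) (Fin 3) F) *ᵥ v) h' :=
    fun v hv h' => rfl
  have htne : ∀ v : Fin 3 → F, v ≠ 0 → (t : Matrix (Fin 3) (Fin 3) F) *ᵥ v ≠ 0 := fun v hv e =>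
    hv ((Matrix.SpecialLinearGroup.toLin' t).injective (by
      rw [map_zero, Matrix.SpecialLinearGroup.toLin'_apply]
      exact e))
  -- a point and a vector
  have hmem : ∀ (p : P) (W : Submodule F (Fin 3 → F)), (φ p).submodule ≤ W ↔ (φ p).rep ∈ W := fun p W => by
    conv_lhs => rw [← Projectivization.mk_rep (φ p)]
    exact sub_iff _ _
  let f : P → P := fun p => φ.symm (t • φ p)
  have hfi : Function.Injective f := fun p q e =>
    φ.injective (MulAction.injective t (φ.symm.injective e))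
  have himg : ∀ (p : P) (W : Submodule F (Fin 3 → F)),
      (φ (f p)).submodule ≤ W ↔ (t : Matrix (Fin 3) (Fin 3) F) *ᵥ (φ p).rep ∈ W := by
    intro p W
    show (φ (φ.symm (t • φ p))).submodule ≤ W ↔ _
    rw [Equiv.apply_symm_apply]
    conv_lhs => rw [← Projectivization.mk_rep (φ p), htmk _ _ (htne _ (φ p).rep_nonzero)]
    exact sub_iff _ _
  -- axis and centre
  have hei : (Pi.single i 1 : Fin 3 → F) ≠ 0 := by simp
  have hej : (Pi.single j 1 : Fin 3 → F) ≠ 0 := by simp
  obtain ⟨WA, hWA, hWAm⟩ := OstromWagner.Geo.exists_ker (b := (Pi.single j 1 : Fin 3 → F)) hej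
  have hWAj : ∀ v, v ∈ WA ↔ v j = 0 := fun v => by rw [hWAm, single_dotProduct, one_mul]
  obtain ⟨A, hA⟩ := hW WA hWA
  set X := φ.symm (Projectivization.mk F _ hei) with hXdef
  set q := φ.symm (Projectivization.mk F _ hej) with hqdef
  have hXA : S.inc X A := by
    rw [hA, hXdef, Equiv.apply_symm_apply, sub_iff, hWAj]
    simp [hij.symm]
  have hqA : ¬ S.inc q A := by
    rw [hA, hqdef, Equiv.apply_symm_apply, sub_iff, hWAj]
    simp
  have hfA : ∀ p, S.inc p A → f p = p := by
    intro p hp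
    rw [hA, hmem, hWAj] at hp
    refine φ.symm_apply_eq.2 ?_
    have e : (t : Matrix (Fin 3) (Fin 3) F) *ᵥ (φ p).rep = (φ p).rep := by
      rw [htv, hp, mul_zero, Pi.single_zero, add_zero]
    conv_lhs => rw [← Projectivization.mk_rep (φ p), htmk _ _ (htne _ (φ p).rep_nonzero)]
    conv_rhs => rw [← Projectivization.mk_rep (φ p)]
    simp only [e]
  have hfX : ∀ l p, S.inc X l → S.inc p l → S.inc (f p) l := by
    intro l p hXl hpl
    obtain ⟨W, -, hWl⟩ := hl l
    rw [hWl, hXdef, Equiv.apply_symm_apply, sub_iff] at hXl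
    rw [hWl, hmem] at hpl
    rw [hWl, himg, htv]
    refine W.add_mem hpl ?_
    have : (Pi.single i (c * (φ p).rep j) : Fin 3 → F) = (c * (φ p).rep j) • Pi.single i (1 : F) := by
      rw [← Pi.single_smul', smul_eq_mul, mul_one]
    rw [this]
    exact W.smul_mem _ hXl
  have hf : ∀ l, ∃ l', ∀ p, S.inc p l → S.inc (f p) l' := by
    intro l
    obtain ⟨W, hW2, hWl⟩ := hl l
    let e := Matrix.SpecialLinearGroup.toLin' t
    obtain ⟨l', hl'⟩ := hW (W.map e.toLinearMap) ((LinearEquiv.finrank_map_eq e W).trans hW2)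
    refine ⟨l', fun p hp => ?_⟩
    rw [hWl, hmem] at hp
    rw [hl', himg]
    exact ⟨_, hp, Matrix.SpecialLinearGroup.toLin'_apply t _⟩
  -- an elation of the group with the same image
  obtain ⟨m, hXm, hqm⟩ := S.exists_line X q
  obtain ⟨g, hg, hgq⟩ := exists_elation S hXA (hEC X A hXA) hXm hqA hqm (hfX m q hXm hqm)
    (fun e => hqA (hfi ((e : f q = X).trans (hfA X hXA).symm) ▸ hXA))
  refine ⟨g, fun p => ?_⟩
  have h := persp_unique S f (fun p => g • p) hfi hf
    (fun l => ⟨g • l, fun p hp => (S.smul_inc g p l).2 hp⟩) hXA hfA hg.1 hfX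
    (fun l p hXl hpl => S.cen_collinear hg.2 hXl hpl) hqA hgq.symm p
  rw [← show f p = g • p from h]
  exact Equiv.apply_symm_apply φ _

end PlaneFour

/-- The middle branch: a group of order `20160` with a pair for `q = 4` is `PSL(3, 4)`. -/
theorem concl_of_four_card {G : Type*} [Group G] [Finite G] [IsSimpleGroup G] (_hG : IsCIT G)
    {P V A : Subgroup G} (h : Pair 4 P V A) (hS : ∃ S : Sylow 2 G, (S : Subgroup G) = P)
    (hcard : Nat.card G = 20160) : Concl G := by
  obtain ⟨Sy, rfl⟩ := hS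
  have hmax : ∀ Q : Subgroup G, IsPGroup 2 Q → (Sy : Subgroup G) ≤ Q → Q = Sy :=
    fun Q hQ hle => Sy.is_maximal' hQ hle
  obtain ⟨l₀⟩ : Nonempty (G ⧸ normalizer (A : Set G)) := inferInstance
  obtain ⟨a, ha, b, hb, hab⟩ := (Set.one_lt_ncard).1
    (show 1 < {p : G ⧸ normalizer (V : Set G) |
      PlaneFour.Inc (normalizer (A : Set G)) (normalizer (V : Set G)) l₀ p}.ncard by
      rw [PlaneFour.ncard_pencil h.swap]; norm_num)
  have hfaith : ∀ g : G, (∀ p : G ⧸ normalizer (V : Set G), g • p = p) → g = 1 := by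
    intro g hg
    have hn := (MulAction.toPermHom G (G ⧸ normalizer (V : Set G))).normal_ker
    have hgk : g ∈ (MulAction.toPermHom G (G ⧸ normalizer (V : Set G))).ker := Equiv.ext hg
    rcases hn.eq_bot_or_eq_top with e | e
    · rw [e, mem_bot] at hgk
      exact hgk
    · exfalso
      obtain ⟨k, hk, -⟩ := PlaneFour.two_trans h hmax hcard a b b a hab hab.symm
      have hk' : k ∈ (MulAction.toPermHom G (G ⧸ normalizer (V : Set G))).ker := e.ge (mem_top k)
      exact hab ((Equiv.congr_fun (MonoidHom.mem_ker.1 hk') a).symm.trans hk)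
  obtain ⟨S, hSinc⟩ := OstromWagner.Geo.exists_ofAxioms (Γ := G)
    (PlaneFour.Inc (normalizer (V : Set G)) (normalizer (A : Set G)))
    (PlaneFour.line h hmax hcard) (PlaneFour.point h hmax hcard) (PlaneFour.quad h hmax hcard)
    PlaneFour.inc_smul hfaith
  have hn : S.n = 4 := by
    have h1 := S.card_line l₀
    rw [hSinc] at h1
    have h2 : {p : G ⧸ normalizer (V : Set G) |
        PlaneFour.Inc (normalizer (V : Set G)) (normalizer (A : Set G)) p l₀}.ncard = 5 := by
      rw [← PlaneFour.ncard_pencil h.swap l₀]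
      exact congrArg Set.ncard (Set.ext fun r => PlaneFour.inc_comm r l₀)
    omega
  have hEC : ∀ X l, S.inc X l → 4 ≤ Nat.card (S.EC X l) := fun X l hXl =>
    PlaneFour.four_le_EC h S hSinc X l hXl
  have hax : ∃ g : G, g ≠ 1 ∧ ∃ l, S.Ax g l := by
    have hXl : S.inc a l₀ := by rw [hSinc]; exact (PlaneFour.inc_comm _ _).1 ha
    have : Nontrivial (S.EC a l₀) := Finite.one_lt_card_iff_nontrivial.1 (by
      have := hEC a l₀ hXl; omega)
    obtain ⟨⟨g, hg⟩, hne⟩ := exists_ne (1 : S.EC a l₀)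
    exact ⟨g, fun e => hne (Subtype.ext e), l₀, hg.1⟩
  obtain ⟨F, hF, hF', φ, hFn, hl, hW⟩ := S.desarguesian (PlaneFour.two_trans h hmax hcard) hax
  have hq : Fintype.card F = 4 := hFn.trans hn
  let ρ : G →* Equiv.Perm (ℙ F (Fin 3 → F)) :=
    φ.permCongrHom.toMonoidHom.comp (MulAction.toPermHom G (G ⧸ normalizer (V : Set G)))
  have hρ : Function.Injective ρ := by
    rw [injective_iff_map_eq_one]
    intro g hg
    refine hfaith g fun p => φ.injective ?_
    have := Equiv.congr_fun hg (φ p)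
    simpa [ρ] using this
  have hgen : (ρ.range.comap (MulAction.toPermHom SL(3, F) (ℙ F (Fin 3 → F)))) = ⊤ := by
    refine GL.SL_eq_top_of_transvection_mem fun i j hij c => ?_
    obtain ⟨g, hg⟩ := PlaneFour.transvection_mem S φ hl hW (fun X l hXl => hn ▸ hEC X l hXl) hij c
    refine ⟨g, Equiv.ext fun x => ?_⟩
    have h1 := hg (φ.symm x)
    rw [Equiv.apply_symm_apply] at h1
    simpa [ρ] using h1
  let ψ : Matrix.ProjectiveSpecialLinearGroup (Fin 3) F →* Equiv.Perm (ℙ F (Fin 3 → F)) :=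
    Projectivization.PSLAction.toPermHom
  have hψ : Function.Injective ψ := Matrix.ProjectiveSpecialLinearGroup.toPermHom_injective
  have hle : ψ.range ≤ ρ.range := by
    rintro _ ⟨x, rfl⟩
    obtain ⟨m, rfl⟩ := QuotientGroup.mk_surjective x
    exact hgen.ge (mem_top m)
  have h34 : Nat.card (Matrix.ProjectiveSpecialLinearGroup (Fin 3) F) = 20160 := by
    have h1 := GL.gcd_mul_card_PSL (F := F) 3 (by norm_num)
    rw [GL.card_SL_prod, hq] at h1
    rw [show Finset.Ico 2 (3 + 1) = ({2, 3} : Finset ℕ) from rfl] at h1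
    norm_num at h1
    rw [Nat.card_eq_fintype_card]
    omega
  have heq : ψ.range = ρ.range := eq_of_le_of_card_ge hle (by
    rw [← Nat.card_congr (MonoidHom.ofInjective hρ).toEquiv, hcard,
      ← Nat.card_congr (MonoidHom.ofInjective hψ).toEquiv, h34])
  exact Or.inr (Or.inl ⟨F, hF, hF', hq, ⟨(MonoidHom.ofInjective hρ).trans
    ((MulEquiv.subgroupCongr heq.symm).trans (MonoidHom.ofInjective hψ).symm)⟩⟩)

end Cfsg.Agent.CIT
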