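import Cfsg.Agent.Lib.CIT.Cases
import Cfsg.Agent.Lib.CIT.Final
import Cfsg.Agent.Lib.CIT.FourCount
import Cfsg.Agent.Lib.CIT.PlaneFour

/-!
# Simple CIT groups

A finite non-abelian simple group in which every involution centraliser is a 2-group is
`PSL(2, F)` for the listed `F`, `PSL(3, 4)`, or of Suzuki type.
-/

set_option autoImplicit false

namespace Cfsg.Agent.CIT

variable {G : Type*} [Group G] [Finite G] [IsSimpleGroup G]

/-- **The classification of simple CIT groups.** -/
theorem classification (hne : ∃ a b : G, a * b ≠ b * a) (hG : IsCIT G) : Concl G := by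
  rcases classification_cases hne hG with ⟨S, n, hn, ⟨e⟩⟩ | ⟨P, V, A, h, hS⟩ | ⟨S, hS⟩
  · exact concl_of_dihedral hG hne S n hn e
  · exact concl_of_four_card hG h hS (card_of_four hG hne h hS)
  · exact concl_of_normalizer hG hne S hS

end Cfsg.Agent.CIT
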