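import Cfsg.Agent.Lib.CIT.Final
import Cfsg.Agent.Lib.SuzukiUnique.Zassenhaus

/-!
# CIT groups: the conclusion up to isomorphism
-/

set_option autoImplicit false

namespace Cfsg.Agent.CIT

open Subgroup
open Cfsg (IsStronglyEmbedded)

/-- The conclusion of the CIT classification, with the Suzuki groups up to isomorphism. -/
def ConclSz (G : Type*) [Group G] : Prop :=
    (∃ (F : Type) (_ : Field F) (_ : Fintype F),
        (Fintype.card F = 9 ∨ (∃ n : ℕ, Fintype.card F = 2 ^ n) ∨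
          ((Fintype.card F).Prime ∧ ∃ k : ℕ, Fintype.card F = 2 ^ k + 1 ∨ Fintype.card F + 1 = 2 ^ k)) ∧
        Nonempty (G ≃* Matrix.ProjectiveSpecialLinearGroup (Fin 2) F)) ∨
    (∃ (F : Type) (_ : Field F) (_ : Fintype F), Fintype.card F = 4 ∧
        Nonempty (G ≃* Matrix.ProjectiveSpecialLinearGroup (Fin 3) F)) ∨
    ∃ (F : Type) (_ : Field F) (_ : Fintype F) (m : ℕ), 1 ≤ m ∧
      Fintype.card F = 2 ^ (2 * m + 1) ∧ Nonempty (G ≃* Cfsg.Lie.Sz F (2 ^ (m + 1)))

variable {G : Type*} [Group G] [Finite G] [IsSimpleGroup G]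

/-- A CIT group isomorphic to some `PSL(2, q)` satisfies the conclusion up to isomorphism. -/
theorem conclSz_of_psl (hG : IsCIT G) (hne : ∃ a b : G, a * b ≠ b * a) (F : Type) [Field F]
    [Fintype F] (e : G ≃* Matrix.ProjectiveSpecialLinearGroup (Fin 2) F) : ConclSz G :=
  Or.inl ⟨F, inferInstance, inferInstance, psl_field hG hne F e, ⟨e⟩⟩

/-- The strongly embedded branch, up to isomorphism. -/
theorem conclSz_of_normalizer (hG : IsCIT G) (hne : ∃ a b : G, a * b ≠ b * a) (S : Sylow 2 G)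
    (hse : IsStronglyEmbedded (normalizer ((S : Subgroup G) : Set G))) : ConclSz G := by
  rcases SuzukiUnique.psl_or_lieSz (cfg_of_normalizer hG hne S hse).isZassenhaus with
    ⟨F, iF, iFt, ⟨e⟩⟩ | h
  · exact @conclSz_of_psl _ _ _ _ hG hne F iF iFt e
  · exact Or.inr (Or.inr h)

end Cfsg.Agent.CIT
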