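import Cfsg.Agent.Lib.CIT.Main
import Cfsg.Agent.Lib.CIT.SuzukiFinal

/-!
# Simple CIT groups up to isomorphism
-/

set_option autoImplicit false

namespace Cfsg.Agent.CIT

variable {G : Type*} [Group G] [Finite G] [IsSimpleGroup G]

/-- **The classification of simple CIT groups, up to isomorphism.** -/
theorem classification_sz (hne : ∃ a b : G, a * b ≠ b * a) (hG : IsCIT G) : ConclSz G := by
  rcases classification_cases hne hG with ⟨S, n, hn, ⟨e⟩⟩ | ⟨P, V, A, h, hS⟩ | ⟨S, hS⟩
  · obtain ⟨F, iF, iFt, ⟨e'⟩⟩ := exists_psl_of_dihedral hG hne S n hn e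
    exact @conclSz_of_psl _ _ _ _ hG hne F iF iFt e'
  · have hcard := card_of_four hG hne h hS
    rcases concl_of_four_card hG h hS hcard with ⟨F, iF, iFt, hq, he⟩ | h' | h'
    · exact Or.inl ⟨F, iF, iFt, hq, he⟩
    · exact Or.inr (Or.inl h')
    · obtain ⟨-, n, hn, hc⟩ := h'
      exfalso
      rw [hcard] at hc
      rcases Nat.lt_or_ge n 2 with h1 | h1
      · obtain rfl : n = 1 := by omega
        norm_num at hc
      · have h2 : (32 : ℕ) ≤ 2 ^ (2 * n + 1) :=
          le_trans (by norm_num) (Nat.pow_le_pow_right (show 2 > 0 by norm_num) (show 5 ≤ 2 * n + 1 by omega))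
        generalize 2 ^ (2 * n + 1) = q at hc h2
        have h3 : 32 ^ 2 * (32 ^ 2 + 1) * 31 ≤ q ^ 2 * (q ^ 2 + 1) * (q - 1) := by gcongr; omega
        omega
  · exact conclSz_of_normalizer hG hne S hS

end Cfsg.Agent.CIT
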