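import Cfsg.Agent.Lib.CIT.Defs
import Cfsg.Agent.Lib.ConjFun.Basic
import Cfsg.Agent.Lib.Subnormal.Join
import Cfsg.Agent.Lib.OstromWagner.Groups

/-!
# The plane of order four of a pair of maximal 2-locals

Points are the cosets of `N(V)`, lines those of `N(A)`, incident if they meet. For `q = 4` and
`|G| = 20160` this is a projective plane on 21 points with a doubly transitive group, in which every
incident pair carries four elations.
-/

set_option autoImplicit false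
set_option linter.unusedSectionVars false

namespace Cfsg.Agent.CIT.PlaneFour

open Subgroup Subnormal
open scoped Classical

variable {G : Type*} [Group G]

/-- Cosets meet. -/
def Inc (H K : Subgroup G) (p : G ⧸ H) (l : G ⧸ K) : Prop :=
  ∃ x : G, (x : G ⧸ H) = p ∧ (x : G ⧸ K) = l

theorem inc_comm {H K : Subgroup G} (p : G ⧸ H) (l : G ⧸ K) : Inc H K p l ↔ Inc K H l p :=
  ⟨fun ⟨x, a, b⟩ => ⟨x, b, a⟩, fun ⟨x, a, b⟩ => ⟨x, b, a⟩⟩

theorem inc_smul {H K : Subgroup G} (g : G) (p : G ⧸ H) (l : G ⧸ K) :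
    Inc H K (g • p) (g • l) ↔ Inc H K p l := by
  constructor
  · rintro ⟨x, a, b⟩
    refine ⟨g⁻¹ * x, ?_, ?_⟩
    · rw [← smul_eq_mul, ← MulAction.Quotient.smul_coe, a, inv_smul_smul]
    · rw [← smul_eq_mul, ← MulAction.Quotient.smul_coe, b, inv_smul_smul]
  · rintro ⟨x, a, b⟩
    exact ⟨g * x, by rw [← a]; rfl, by rw [← b]; rfl⟩

theorem inc_base {H K : Subgroup G} (l : G ⧸ K) :
    Inc H K ((1 : G) : G ⧸ H) l ↔ ∃ y ∈ H, (y : G ⧸ K) = l := by
  constructor
  · rintro ⟨x, a, b⟩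
    refine ⟨x, ?_, b⟩
    have := QuotientGroup.eq.1 a
    simpa using this
  · rintro ⟨y, hy, b⟩
    exact ⟨y, QuotientGroup.eq.2 (by simpa using hy), b⟩

variable [Finite G] {P V A : Subgroup G}

theorem sq_eq {E : Subgroup G} (hE : Cfsg.IsElementaryAbelian 2 E) {x : G} (hx : x ∈ E) : x * x = 1 := by
  rw [← pow_two]
  exact hE.2 x hx

section Facts

variable (h : Pair 4 P V A)
include h

theorem P_le : P ≤ normalizer (V : Set G) := h.normV

theorem card_NV : Nat.card (normalizer (V : Set G)) = 960 := h.cardNV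

/-- An elementary subgroup of order `16` of `P` is `V` or `A`. -/
theorem eq_or_eq {Q : Subgroup G} (hQ : Q ≤ P) (hel : ∀ x ∈ Q, x * x = 1) (hc : Nat.card Q = 16) :
    Q = V ∨ Q = A := by
  have key : Q ≤ V ∨ Q ≤ A := by
    by_contra hcon
    push Not at hcon
    obtain ⟨x, hx, hxV⟩ := SetLike.not_le_iff_exists.1 hcon.1
    obtain ⟨y, hy, hyA⟩ := SetLike.not_le_iff_exists.1 hcon.2
    have hxA := (h.sq_cases x (hQ hx) (hel x hx)).resolve_left hxV
    have hyV := (h.sq_cases y (hQ hy) (hel y hy)).resolve_right hyA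
    rcases h.sq_cases _ (hQ (mul_mem hx hy)) (hel _ (mul_mem hx hy)) with e | e
    · exact hxV (by simpa using mul_mem e (inv_mem hyV))
    · exact hyA (by simpa using mul_mem (inv_mem hxA) e)
  rcases key with e | e
  · exact Or.inl (eq_of_le_of_card_ge e (by rw [hc, h.cardV]; norm_num))
  · exact Or.inr (eq_of_le_of_card_ge e (by rw [hc, h.cardA]; norm_num))

theorem sq_cj (g : G) {x : G} (hx : x ∈ cj g V) : x * x = 1 := by
  obtain ⟨v, hv, rfl⟩ := hx
  rw [← map_mul, sq_eq h.elemV hv, map_one]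

theorem inf_le_normalizerP :
    normalizer (V : Set G) ⊓ normalizer (A : Set G) ≤ normalizer (P : Set G) := by
  intro g hg
  refine mem_normalizer_of_cj_le ?_
  rintro _ ⟨x, hx, rfl⟩
  obtain ⟨v, hv, a, ha, rfl⟩ := h.eq_mul x hx
  rw [map_mul]
  exact mul_mem (h.leV ((mem_normalizer_iff.1 hg.1 v).1 hv)) (h.leA ((mem_normalizer_iff.1 hg.2 a).1 ha))

theorem inf_normalizerP_le :
    normalizer (V : Set G) ⊓ normalizer (P : Set G) ≤ normalizer (A : Set G) := by
  intro g hg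
  have hle : cj g A ≤ P := (cj_mono h.leA).trans (cj_eq_of_mem_normalizer hg.2).le
  rcases eq_or_eq h hle (fun x hx => sq_cj h.swap g hx) (by rw [card_cj, h.cardA]; norm_num) with e | e
  · refine absurd ?_ h.ne
    exact cj_injective g ((cj_eq_of_mem_normalizer hg.1).trans e.symm)
  · exact mem_normalizer_of_cj_le e.le

theorem borel_eq : normalizer (V : Set G) ⊓ normalizer (A : Set G) =
    normalizer (V : Set G) ⊓ normalizer (P : Set G) :=
  le_antisymm (le_inf inf_le_left (inf_le_normalizerP h)) (le_inf inf_le_left (inf_normalizerP_le h))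

theorem card_borel : Nat.card (normalizer (V : Set G) ⊓ normalizer (A : Set G) : Subgroup G) = 192 := by
  rw [borel_eq h, h.cardBV]; norm_num

theorem relIndex_borel : (normalizer (A : Set G)).relIndex (normalizer (V : Set G)) = 5 := by
  have h1 := Subgroup.card_mul_index ((normalizer (A : Set G)).subgroupOf (normalizer (V : Set G)))
  rw [← inf_subgroupOf_left, Nat.card_congr (subgroupOfEquivOfLe inf_le_left).toEquiv, card_borel h,
    card_NV h, inf_subgroupOf_left] at h1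
  unfold Subgroup.relIndex
  omega

variable (hmax : ∀ Q : Subgroup G, IsPGroup 2 Q → P ≤ Q → Q = P)
include hmax

theorem two_mem {Q : Subgroup G} (hQ : IsPGroup 2 Q) (hn : Q ≤ normalizer (P : Set G)) : Q ≤ P := by
  have := hmax (Q ⊔ P) (IsPGroup.to_sup_of_normal_right' hQ h.P_two hn) le_sup_right
  rw [← this]
  exact le_sup_left

theorem normalizerP_le : normalizer (P : Set G) ≤ normalizer (V : Set G) := by
  intro g hg
  have hle : ∀ k ∈ normalizer (P : Set G), cj k V = V ∨ cj k V = A := fun k hk =>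
    eq_or_eq h ((cj_mono h.leV).trans (cj_eq_of_mem_normalizer hk).le) (fun x hx => sq_cj h k hx)
      (by rw [card_cj, h.cardV]; norm_num)
  rcases hle g hg with e | e
  · exact mem_normalizer_of_cj_le e.le
  exfalso
  have hg2 : cj (g * g) V = V := by
    rcases hle _ (mul_mem hg hg) with e2 | e2
    · exact e2
    · rw [cj_mul, e] at e2
      exact absurd (cj_injective g (e.trans e2.symm)) h.ne
  obtain ⟨i, o, ho, hord⟩ := Nat.exists_eq_pow_mul_and_not_dvd (orderOf_pos g).ne' 2 (by norm_num)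
  obtain ⟨c, rfl⟩ : Odd o := Nat.not_even_iff_odd.1 fun he => ho he.two_dvd
  have hP : g ^ (2 * c + 1) ∈ P := by
    refine two_mem h hmax (Q := zpowers (g ^ (2 * c + 1))) ?_ (zpowers_le.2 (pow_mem hg _))
      (mem_zpowers _)
    have h1 : (g ^ (2 * c + 1)) ^ 2 ^ i = 1 := by rw [← pow_mul, mul_comm, ← hord, pow_orderOf_eq_one]
    obtain ⟨j, -, hj⟩ := (Nat.dvd_prime_pow Nat.prime_two).1 (orderOf_dvd_of_pow_eq_one h1)
    exact IsPGroup.of_card (n := j) (by rw [Nat.card_zpowers, hj])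
  have h2 : ∀ n : ℕ, cj ((g * g) ^ n) V = V := fun n =>
    cj_eq_of_mem_normalizer (pow_mem (mem_normalizer_of_cj_le hg2.le) n)
  refine h.ne ?_
  calc V = cj (g ^ (2 * c + 1)) V := (cj_eq_of_mem_normalizer (P_le h hP)).symm
    _ = cj g (cj ((g * g) ^ c) V) := by rw [← cj_mul, ← pow_two, ← pow_mul, ← pow_succ']
    _ = A := by rw [h2, e]

theorem not_conj (g : G) : cj g V ≠ A := by
  intro e
  have : Fact (Nat.Prime 2) := ⟨Nat.prime_two⟩
  have hle : cj g P ≤ normalizer (A : Set G) := by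
    rw [← e]
    exact (cj_mono h.normV).trans (Subgroup.le_normalizer_map _)
  have hidx : ∀ Q : Subgroup G, Q ≤ normalizer (A : Set G) → Nat.card Q = 64 →
      ¬ 2 ∣ Q.relIndex (normalizer (A : Set G)) := fun Q hQ hc => by
    have h1 := Subgroup.card_mul_index (Q.subgroupOf (normalizer (A : Set G)))
    rw [Nat.card_congr (subgroupOfEquivOfLe hQ).toEquiv, hc, card_NV h.swap] at h1
    unfold Subgroup.relIndex
    omega
  obtain ⟨m, hm, hmP⟩ := ConjFun.exists_conj_eq_of_relIndex h.P_two h.normA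
    (hidx P h.normA (by rw [h.cardP]; norm_num)) (h.P_two.map _) hle
    (hidx _ hle (by rw [card_cj, h.cardP]; norm_num))
  have hmg : m * g ∈ normalizer (P : Set G) := mem_normalizer_of_cj_le (by rw [cj_mul]; exact hmP.le)
  have h1 := cj_eq_of_mem_normalizer (normalizerP_le h hmax hmg)
  rw [cj_mul, e, cj_eq_of_mem_normalizer hm] at h1
  exact h.ne h1.symm

theorem eq_of_normalizes {g : G} (hg : cj g (normalizer (V : Set G)) ≤ normalizer (V : Set G)) :
    g ∈ normalizer (V : Set G) := by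
  have heq := eq_of_cj_le hg
  have hn : normalizer (V : Set G) ≤ normalizer ((cj g V : Subgroup G) : Set G) := by
    calc normalizer (V : Set G) = cj g (normalizer (V : Set G)) := heq.symm
      _ ≤ _ := Subgroup.le_normalizer_map _
  have hD : cj g V ≤ normalizer (V : Set G) := (cj_mono (h.leV.trans h.normV)).trans hg
  have hV2 : IsPGroup 2 V := h.P_two.to_le h.leV
  have hP : cj g V ≤ P := by
    have := hmax (cj g V ⊔ P) (IsPGroup.to_sup_of_normal_left' (hV2.map _) h.P_two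
      (h.normV.trans hn)) le_sup_right
    rw [← this]
    exact le_sup_left
  rcases eq_or_eq h hP (fun x hx => sq_cj h g hx) (by rw [card_cj, h.cardV]; norm_num) with e | e
  · exact mem_normalizer_of_cj_le e.le
  · exact absurd e (not_conj h hmax g)

end Facts

section Plane

variable (h : Pair 4 P V A) (hmax : ∀ Q : Subgroup G, IsPGroup 2 Q → P ≤ Q → Q = P)
include h hmax

local notation "NV" => normalizer (V : Set G)
local notation "NA" => normalizer (A : Set G)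

omit hmax in
theorem ncard_pencil (p : G ⧸ NV) : {l : G ⧸ NA | Inc NV NA p l}.ncard = 5 := by
  obtain ⟨x, rfl⟩ := QuotientGroup.mk_surjective p
  have h0 : {l : G ⧸ NA | Inc NV NA ((1 : G) : G ⧸ NV) l} = MulAction.orbit NV ((1 : G) : G ⧸ NA) := by
    ext l
    rw [Set.mem_ofPred_eq, inc_base, MulAction.mem_orbit_iff]
    constructor
    · rintro ⟨y, hy, rfl⟩
      exact ⟨⟨y, hy⟩, by show (((y * 1 : G)) : G ⧸ NA) = _; rw [mul_one]⟩
    · rintro ⟨⟨y, hy⟩, rfl⟩
      exact ⟨y, hy, by show _ = (((y * 1 : G)) : G ⧸ NA); rw [mul_one]⟩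
  have h1 : MulAction.stabilizer NV ((1 : G) : G ⧸ NA) = (NA).subgroupOf NV := by
    ext y
    rw [MulAction.mem_stabilizer_iff, mem_subgroupOf]
    show ((((y : G) * 1 : G)) : G ⧸ NA) = _ ↔ _
    rw [mul_one, QuotientGroup.eq]
    simp
  have h5 : {l : G ⧸ NA | Inc NV NA ((1 : G) : G ⧸ NV) l}.ncard = 5 := by
    rw [h0, ← MulAction.index_stabilizer, h1]
    exact relIndex_borel h
  rw [← h5, ← Set.ncard_image_of_injective {l : G ⧸ NA | Inc NV NA ((1 : G) : G ⧸ NV) l} (MulAction.injective x)]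
  congr 1
  ext l
  have hx : ((x : G) : G ⧸ NV) = x • ((1 : G) : G ⧸ NV) := by
    show _ = (((x * 1 : G)) : G ⧸ NV)
    rw [mul_one]
  constructor
  · intro hl
    refine ⟨x⁻¹ • l, ?_, smul_inv_smul x l⟩
    rw [Set.mem_ofPred_eq, ← inc_smul x, smul_inv_smul, ← hx]
    exact hl
  · rintro ⟨m, hm, rfl⟩
    rw [Set.mem_ofPred_eq, hx, inc_smul]
    exact hm

omit hmax in
/-- `A` fixes the points of its line. -/
theorem fix_axis {a : G} (ha : a ∈ A) {q : G ⧸ NV} (hq : Inc NV NA q ((1 : G) : G ⧸ NA)) : a • q = q := by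
  obtain ⟨x, rfl, hx⟩ := hq
  have hxA : x ∈ NA := by simpa using QuotientGroup.eq.1 hx
  show (((a * x : G)) : G ⧸ NV) = _
  rw [QuotientGroup.eq]
  have : x⁻¹ * a * x ∈ A := by
    have := (mem_normalizer_iff.1 (inv_mem hxA) a).1 ha
    simpa using this
  have h2 : ((x⁻¹ * a * x)⁻¹ : G) ∈ NV := inv_mem (h.normV (h.leA this))
  simpa [mul_assoc] using h2

/-- `A` is transitive on the other lines through the point of `V`. -/
theorem trans_four {l l' : G ⧸ NA} (hl : Inc NV NA ((1 : G) : G ⧸ NV) l)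
    (hl' : Inc NV NA ((1 : G) : G ⧸ NV) l') (hne : l ≠ ((1 : G) : G ⧸ NA))
    (hne' : l' ≠ ((1 : G) : G ⧸ NA)) : ∃ a ∈ A, a • l = l' := by
  obtain ⟨y, hy, rfl⟩ := (inc_base l).1 hl
  have hyP : y ∉ normalizer (P : Set G) := fun hyP => hne (by
    rw [QuotientGroup.eq]
    simpa using inf_normalizerP_le h ⟨hy, hyP⟩)
  set Ω := {m : G ⧸ NA | Inc NV NA ((1 : G) : G ⧸ NV) m} \ {((1 : G) : G ⧸ NA)} with hΩ
  have hAV : A ≤ NV := h.leA.trans h.normV
  have hsub : MulAction.orbit A (y : G ⧸ NA) ⊆ Ω := by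
    rintro _ ⟨a, rfl⟩
    refine ⟨(inc_base _).2 ⟨(a : G) * y, mul_mem (hAV a.2) hy, rfl⟩, fun e => hne ?_⟩
    have e' : (a : G)⁻¹ • ((a : G) • (y : G ⧸ NA)) = (a : G)⁻¹ • ((1 : G) : G ⧸ NA) := congrArg _ e
    rw [inv_smul_smul] at e'
    rw [e']
    show ((((a : G)⁻¹ * 1 : G)) : G ⧸ NA) = _
    rw [mul_one, QuotientGroup.eq]
    simpa using le_normalizer a.2
  have hstab : (MulAction.stabilizer A (y : G ⧸ NA)).map A.subtype ≤ V ⊓ A := by
    rintro _ ⟨a, ha, rfl⟩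
    refine ⟨?_, a.2⟩
    have ha' : ((((a : G) * y : G)) : G ⧸ NA) = (y : G ⧸ NA) := ha
    rw [QuotientGroup.eq] at ha'
    have hb : y⁻¹ * (a : G) * y ∈ NA := by
      have := inv_mem ha'
      simpa [mul_assoc] using this
    have hbV : y⁻¹ * (a : G) * y ∈ NV := mul_mem (mul_mem (inv_mem hy) (hAV a.2)) hy
    have hbP : y⁻¹ * (a : G) * y ∈ P := by
      refine two_mem h hmax (Q := (zpowers (a : G)).map (MulAut.conj y⁻¹).toMonoidHom)
        ((h.P_two.to_le (zpowers_le.2 (h.leA a.2))).map _) ?_ ⟨_, mem_zpowers _, by simp⟩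
      rw [MonoidHom.map_zpowers, zpowers_le]
      have : (MulAut.conj y⁻¹).toMonoidHom (a : G) = y⁻¹ * (a : G) * y := by simp
      rw [this]
      exact inf_le_normalizerP h ⟨hbV, hb⟩
    have := h.interV y hy hyP
    rw [← this]
    exact ⟨h.leA a.2, ⟨_, hbP, by simp [mul_assoc]⟩⟩
  have hcard : Ω.ncard ≤ (MulAction.orbit A (y : G ⧸ NA)).ncard := by
    have h5 : Ω.ncard = 4 := by
      rw [hΩ, Set.ncard_sdiff_singleton_of_mem, ncard_pencil h]
      show Inc NV NA _ _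
      exact ⟨1, rfl, rfl⟩
    rw [h5, ← MulAction.index_stabilizer]
    have h1 := Subgroup.card_mul_index (MulAction.stabilizer A (y : G ⧸ NA))
    have h2 : Nat.card (MulAction.stabilizer A (y : G ⧸ NA)) ≤ 4 := by
      rw [← Subgroup.card_map_of_injective A.subtype_injective, ← h.cardInf]
      exact card_le_of_le hstab
    rw [h.cardA] at h1
    nlinarith
  have heq := Set.eq_of_subset_of_ncard_le hsub hcard (Set.toFinite _)
  obtain ⟨a, ha⟩ := heq.ge (show l' ∈ Ω from ⟨hl', hne'⟩)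
  exact ⟨a, a.2, ha⟩

/-- Two points are on at most one line, at the base flag. -/
theorem unique_base {q : G ⧸ NV} {l : G ⧸ NA} (hq : Inc NV NA q ((1 : G) : G ⧸ NA))
    (hql : Inc NV NA q l) (hl : Inc NV NA ((1 : G) : G ⧸ NV) l) (hne : q ≠ ((1 : G) : G ⧸ NV)) :
    l = ((1 : G) : G ⧸ NA) := by
  by_contra hll
  have hall : ∀ m, Inc NV NA ((1 : G) : G ⧸ NV) m → Inc NV NA q m := by
    intro m hm
    by_cases hm0 : m = ((1 : G) : G ⧸ NA)
    · exact hm0 ▸ hq
    obtain ⟨a, ha, rfl⟩ := trans_four h hmax hl hm hll hm0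
    rw [← fix_axis h ha hq, inc_smul]
    exact hql
  set T := MulAction.stabilizer G q with hT
  have hconj : ∀ y ∈ NV, ∀ a ∈ A, y * a * y⁻¹ ∈ T := by
    intro y hy a ha
    have h1 : Inc NV NA (y⁻¹ • q) ((1 : G) : G ⧸ NA) := by
      rw [← inc_smul y, smul_inv_smul]
      exact hall _ ((inc_base _).2 ⟨y * 1, mul_mem hy (one_mem _), rfl⟩)
    rw [hT, MulAction.mem_stabilizer_iff, mul_smul, mul_smul, fix_axis h ha h1, smul_inv_smul]
  obtain ⟨w, hw, hw1⟩ : ∃ w ∈ V ⊓ A, w ≠ 1 := by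
    rcases Subgroup.bot_or_exists_ne_one (V ⊓ A) with e | e
    · exfalso
      have h1 := h.cardInf
      rw [e, card_bot] at h1
      omega
    · exact e
  have hVT : ∀ v ∈ V, v ∈ T := by
    intro v hv
    by_cases hv1 : v = 1
    · rw [hv1]; exact one_mem _
    obtain ⟨y, hy, rfl⟩ := h.transV w hw.1 v hv hw1 hv1
    exact hconj y hy w hw.2
  set Y := Subgroup.closure ((V : Set G) ∪ {g | ∃ y ∈ NV, ∃ a ∈ A, g = y * a * y⁻¹}) with hY
  have hYT : Y ≤ T := (closure_le _).2 (by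
    rintro g (hg | ⟨y, hy, a, ha, rfl⟩)
    · exact hVT g hg
    · exact hconj y hy a ha)
  have hYV : Y ≤ NV := (closure_le _).2 (by
    rintro g (hg | ⟨y, hy, a, ha, rfl⟩)
    · exact le_normalizer hg
    · exact mul_mem (mul_mem hy (h.normV (h.leA ha))) (inv_mem hy))
  have hPY : P ≤ Y := fun x hx => by
    obtain ⟨v, hv, a, ha, rfl⟩ := h.eq_mul x hx
    exact mul_mem (subset_closure (Or.inl hv))
      (subset_closure (Or.inr ⟨1, one_mem _, a, ha, by simp⟩))
  rcases h.overV Y hPY hYV with hYP | hYeq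
  · have hn : ∀ y ∈ NV, y ∈ normalizer (P : Set G) := by
      intro y hy
      refine mem_normalizer_of_cj_le (two_mem h hmax (h.P_two.map _) (le_trans ?_ hYP))
      rintro _ ⟨x, hx, rfl⟩
      obtain ⟨v, hv, a, ha, rfl⟩ := h.eq_mul x hx
      rw [map_mul]
      exact mul_mem (subset_closure (Or.inl ((mem_normalizer_iff.1 hy v).1 hv)))
        (subset_closure (Or.inr ⟨y, hy, a, ha, rfl⟩))
    have h1 := h.cardBV
    rw [inf_eq_left.2 hn, card_NV h] at h1
    omega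
  · obtain ⟨x, rfl⟩ := QuotientGroup.mk_surjective q
    refine hne ?_
    rw [QuotientGroup.eq, mul_one]
    refine eq_of_normalizes h hmax (g := x⁻¹) ?_
    rintro _ ⟨z, hz, rfl⟩
    have hzT : z • (x : G ⧸ NV) = x := hYT (hYeq ▸ hz)
    have h2 : ((((z * x : G)) : G ⧸ NV)) = (x : G ⧸ NV) := hzT
    rw [QuotientGroup.eq] at h2
    have := inv_mem h2
    simpa [mul_assoc] using this

/-- Two points are on at most one line. -/
theorem line_unique {p q : G ⧸ NV} {l m : G ⧸ NA} (hne : p ≠ q) (h1 : Inc NV NA p l)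
    (h2 : Inc NV NA q l) (h3 : Inc NV NA p m) (h4 : Inc NV NA q m) : l = m := by
  obtain ⟨z, rfl, rfl⟩ := h1
  have e : ∀ H : Subgroup G, z⁻¹ • (z : G ⧸ H) = ((1 : G) : G ⧸ H) := fun H => by
    show (((z⁻¹ * z : G)) : G ⧸ H) = _
    rw [inv_mul_cancel]
  have h2' := (inc_smul z⁻¹ q (z : G ⧸ NA)).2 h2
  have h3' := (inc_smul z⁻¹ (z : G ⧸ NV) m).2 h3
  rw [e] at h2' h3'
  have := unique_base h hmax h2' ((inc_smul z⁻¹ q m).2 h4) h3' (fun e' => hne (by
    rw [← e NV] at e'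
    exact (smul_left_cancel _ e').symm))
  rw [← e NA] at this
  exact (smul_left_cancel _ this).symm

variable (hG : Nat.card G = 20160)
include hG

/-- Two points are on a line. -/
theorem line_exists (p q : G ⧸ NV) (hne : p ≠ q) : ∃ l, Inc NV NA p l ∧ Inc NV NA q l := by
  have : Fintype (G ⧸ NV) := Fintype.ofFinite _
  have : Fintype (G ⧸ NA) := Fintype.ofFinite _
  have h21 : Fintype.card (G ⧸ NV) = 21 := by
    have h1 := Subgroup.card_eq_card_quotient_mul_card_subgroup (NV)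
    rw [hG, card_NV h, Nat.card_eq_fintype_card] at h1
    omega
  let L : Finset (G ⧸ NA) := Finset.univ.filter fun l => Inc NV NA p l
  let f : G ⧸ NA → Finset (G ⧸ NV) := fun l => Finset.univ.filter fun r => Inc NV NA r l ∧ r ≠ p
  have hf : ∀ l ∈ L, (f l).card = 4 := by
    intro l hl
    have hl' : Inc NV NA p l := (Finset.mem_filter.1 hl).2
    have hset : ((f l : Finset (G ⧸ NV)) : Set (G ⧸ NV)) = {r | Inc NV NA r l} \ {p} := by
      ext r; simp [f]
    have h5 : {r : G ⧸ NV | Inc NV NA r l}.ncard = 5 := by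
      rw [← ncard_pencil h.swap l]
      exact congrArg Set.ncard (Set.ext fun r => inc_comm r l)
    rw [← Set.ncard_coe_finset, hset, Set.ncard_sdiff_singleton_of_mem (show p ∈ {r | Inc NV NA r l} from hl'),
      h5]
  have hL : L.card = 5 := by
    rw [← Set.ncard_coe_finset, ← ncard_pencil h p]
    congr 1
    ext l; simp [L]
  have hU : (L.biUnion f).card = 20 := by
    rw [Finset.card_biUnion, Finset.sum_congr rfl hf, Finset.sum_const, hL]
    · rfl
    · intro l hl m hm hlm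
      rw [Function.onFun, Finset.disjoint_left]
      intro r hr hr'
      simp only [f, Finset.mem_filter] at hr hr'
      exact hlm (line_unique h hmax hr.2.2.symm (Finset.mem_filter.1 hl).2 hr.2.1
        (Finset.mem_filter.1 hm).2 hr'.2.1)
  have hE : L.biUnion f = Finset.univ.erase p := by
    refine Finset.eq_of_subset_of_card_le (fun r hr => ?_) ?_
    · obtain ⟨l, -, hr⟩ := Finset.mem_biUnion.1 hr
      simp only [f, Finset.mem_filter] at hr
      simp [hr.2.2]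
    · rw [hU, Finset.card_erase_of_mem (Finset.mem_univ p), Finset.card_univ, h21]
  obtain ⟨l, hl, hq⟩ := Finset.mem_biUnion.1 (hE.ge (Finset.mem_erase.2 ⟨hne.symm, Finset.mem_univ q⟩))
  exact ⟨l, (Finset.mem_filter.1 hl).2, (Finset.mem_filter.1 hq).2.1⟩

theorem line (p q : G ⧸ NV) (hne : p ≠ q) : ∃! l, Inc NV NA p l ∧ Inc NV NA q l := by
  obtain ⟨l, hl⟩ := line_exists h hmax hG p q hne
  exact ⟨l, hl, fun m hm => line_unique h hmax hne hm.1 hm.2 hl.1 hl.2⟩

theorem point (l m : G ⧸ NA) (hne : l ≠ m) : ∃! p, Inc NV NA p l ∧ Inc NV NA p m := by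
  obtain ⟨p, ⟨hp1, hp2⟩, hu⟩ := line h.swap hmax hG l m hne
  exact ⟨p, ⟨(inc_comm _ _).1 hp1, (inc_comm _ _).1 hp2⟩,
    fun r hr => hu r ⟨(inc_comm _ _).1 hr.1, (inc_comm _ _).1 hr.2⟩⟩

theorem quad : OstromWagner.Quad (Inc NV NA) Set.univ := by
  set p₀ := ((1 : G) : G ⧸ NV)
  set l₀ := ((1 : G) : G ⧸ NA)
  have h0 : Inc NV NA p₀ l₀ := ⟨1, rfl, rfl⟩
  have hpts : ∀ l, {r : G ⧸ NV | Inc NV NA r l}.ncard = 5 := fun l => by
    rw [← ncard_pencil h.swap l]
    exact congrArg Set.ncard (Set.ext fun r => inc_comm r l)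
  obtain ⟨m, hm, hml⟩ := Set.exists_ne_of_one_lt_ncard (s := {l | Inc NV NA p₀ l})
    (by rw [ncard_pencil h]; norm_num) l₀
  have two : ∀ l, Inc NV NA p₀ l → ∃ a b, a ≠ b ∧ a ≠ p₀ ∧ b ≠ p₀ ∧ Inc NV NA a l ∧ Inc NV NA b l := by
    intro l hl
    have h4 : 1 < ({r : G ⧸ NV | Inc NV NA r l} \ {p₀}).ncard := by
      rw [Set.ncard_sdiff_singleton_of_mem (show p₀ ∈ {r | Inc NV NA r l} from hl), hpts]
      norm_num
    obtain ⟨a, ha, b, hb, hab⟩ := (Set.one_lt_ncard).1 h4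
    exact ⟨a, b, hab, ha.2, hb.2, ha.1, hb.1⟩
  obtain ⟨a, b, hab, ha0, hb0, ha, hb⟩ := two l₀ h0
  obtain ⟨c, d, hcd, hc0, hd0, hc, hd⟩ := two m hm
  have hx : ∀ r, r ≠ p₀ → Inc NV NA r l₀ → ¬ Inc NV NA r m := fun r hr h1 h3 =>
    hml (line_unique h hmax hr h3 hm h1 h0)
  refine ⟨a, trivial, b, trivial, c, trivial, d, trivial, hab, fun e => hx b hb0 hb (e ▸ hc),
    fun e => hx b hb0 hb (e ▸ hd), fun e => hx a ha0 ha (e ▸ hd), fun l => ⟨?_, ?_, ?_, ?_⟩⟩
  · rintro ⟨e1, e2, e3⟩; exact hx c hc0 ((line_unique h hmax hab e1 e2 ha hb) ▸ e3) hc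
  · rintro ⟨e1, e2, e3⟩; exact hx d hd0 ((line_unique h hmax hab e1 e2 ha hb) ▸ e3) hd
  · rintro ⟨e1, e2, e3⟩; exact hx a ha0 ha ((line_unique h hmax hcd e2 e3 hc hd) ▸ e1)
  · rintro ⟨e1, e2, e3⟩; exact hx b hb0 hb ((line_unique h hmax hcd e2 e3 hc hd) ▸ e1)

omit hG in
/-- `V` is transitive on the other points of the line of `A`. -/
theorem trans_points {p p' : G ⧸ NV} (hp : Inc NV NA p ((1 : G) : G ⧸ NA))
    (hp' : Inc NV NA p' ((1 : G) : G ⧸ NA)) (hne : p ≠ ((1 : G) : G ⧸ NV))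
    (hne' : p' ≠ ((1 : G) : G ⧸ NV)) : ∃ g : G, g • ((1 : G) : G ⧸ NV) = ((1 : G) : G ⧸ NV) ∧ g • p = p' := by
  obtain ⟨v, hv, e⟩ := trans_four h.swap hmax ((inc_comm _ _).1 hp) ((inc_comm _ _).1 hp') hne hne'
  refine ⟨v, ?_, e⟩
  show (((v * 1 : G)) : G ⧸ NV) = _
  rw [mul_one, QuotientGroup.eq]
  simpa using le_normalizer hv

theorem two_trans (p₁ p₂ q₁ q₂ : G ⧸ NV) (hp : p₁ ≠ p₂) (hq : q₁ ≠ q₂) :
    ∃ g : G, g • p₁ = q₁ ∧ g • p₂ = q₂ := by
  have std : ∀ p₁ p₂ : G ⧸ NV, p₁ ≠ p₂ → ∃ g : G, g • p₁ = ((1 : G) : G ⧸ NV) ∧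
      g • p₂ ≠ ((1 : G) : G ⧸ NV) ∧ Inc NV NA (g • p₂) ((1 : G) : G ⧸ NA) := by
    intro p₁ p₂ hne
    obtain ⟨l, ⟨z, rfl, rfl⟩, h2⟩ := line_exists h hmax hG p₁ p₂ hne
    have e : ∀ H : Subgroup G, z⁻¹ • (z : G ⧸ H) = ((1 : G) : G ⧸ H) := fun H => by
      show (((z⁻¹ * z : G)) : G ⧸ H) = _
      rw [inv_mul_cancel]
    refine ⟨z⁻¹, e _, fun e' => hne (smul_left_cancel _ ((e _).trans e'.symm)), ?_⟩
    rw [← e NA, inc_smul]
    exact h2
  obtain ⟨g, g1, g2, g3⟩ := std p₁ p₂ hp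
  obtain ⟨k, k1, k2, k3⟩ := std q₁ q₂ hq
  obtain ⟨m, m1, m2⟩ := trans_points h hmax g3 k3 g2 k2
  refine ⟨k⁻¹ * (m * g), ?_, ?_⟩
  · rw [mul_smul, mul_smul, g1, m1, ← k1, inv_smul_smul]
  · rw [mul_smul, mul_smul, m2, inv_smul_smul]

omit hG hmax in
/-- Every incident pair has four elations. -/
theorem four_le_EC (S : OstromWagner.Geo G (G ⧸ NV) (G ⧸ NA)) (hS : S.inc = Inc NV NA)
    (X : G ⧸ NV) (l : G ⧸ NA) (hXl : S.inc X l) : 4 ≤ Nat.card (S.EC X l) := by
  rw [hS] at hXl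
  obtain ⟨z, rfl, rfl⟩ := hXl
  have hmem : ∀ w ∈ V ⊓ A, z * w * z⁻¹ ∈ S.EC (z : G ⧸ NV) (z : G ⧸ NA) := by
    intro w hw
    have h1 : w ∈ S.EC ((1 : G) : G ⧸ NV) ((1 : G) : G ⧸ NA) := by
      refine ⟨fun q hq => fix_axis h hw.2 (hS ▸ hq), fun m hm => fix_axis h.swap hw.1 ?_⟩
      rw [hS] at hm
      exact (inc_comm _ _).1 hm
    have h2 := S.EC_conj z h1
    have e : ∀ H : Subgroup G, z • ((1 : G) : G ⧸ H) = (z : G ⧸ H) := fun H => by
      show (((z * 1 : G)) : G ⧸ H) = _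
      rw [mul_one]
    rwa [e, e] at h2
  calc 4 = Nat.card ↥((V ⊓ A).map (MulAut.conj z).toMonoidHom) := by
        rw [Subgroup.card_map_of_injective (MulAut.conj z).injective, h.cardInf]
    _ ≤ _ := card_le_of_le (by rintro _ ⟨w, hw, rfl⟩; exact hmem w hw)

end Plane

end Cfsg.Agent.CIT.PlaneFour
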