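import Cfsg.Agent.Lib.CIT.SuzukiFinal
import Cfsg.Agent.Lib.PSL2.Torus
import Cfsg.Agent.Lib.PSL2.SmallIso
import Cfsg.Agent.Lib.SmallSimple.Order360
import Cfsg.Agent.Lib.Sz.Torus
import Cfsg.Agent.Lib.PSL2.MinimalSimple
import Cfsg.Agent.Lib.PSL2.MaximalExist

/-!
# Simple groups with all element orders prime powers, from the CIT classification
-/

set_option autoImplicit false
set_option linter.unusedSectionVars false
set_option linter.style.haveILetI false

namespace Cfsg.Agent.CIT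

open Subgroup Cfsg.Agent.PSL2
open scoped MatrixGroups

variable {G : Type*} [Group G] [Finite G]

/-- Element orders prime powers gives CIT. -/
theorem isCIT_of_primePower (h : ∀ g : G, g ≠ 1 → IsPrimePow (orderOf g)) : IsCIT G := by
  haveI : Fact (Nat.Prime 2) := ⟨Nat.prime_two⟩
  intro t ht
  refine IsPGroup.iff_orderOf.2 fun x => ?_
  rw [← Subgroup.orderOf_coe]
  set g : G := (x : G)
  rcases eq_or_ne g 1 with hg | hg
  · exact ⟨0, by rw [hg, orderOf_one, pow_zero]⟩
  obtain ⟨p, k, hp, hk, hpk⟩ := h g hg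
  rcases eq_or_ne p 2 with rfl | hp2
  · exact ⟨k, hpk.symm⟩
  exfalso
  have hcop : Nat.Coprime (orderOf g) (orderOf t) := by
    rw [ht, ← hpk]
    exact ((Nat.coprime_primes hp.nat_prime Nat.prime_two).2 hp2).pow_left k
  have hord := ((show Commute g t from
    mem_centralizer_singleton_iff.1 x.2)).orderOf_mul_eq_mul_orderOf_of_coprime hcop
  have hne : g * t ≠ 1 := fun e => by
    rw [e, orderOf_one, ht] at hord; omega
  obtain ⟨r, j, hr, hj, hrj⟩ := h _ hne
  have h2 : r = 2 := by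
    refine ((Nat.prime_dvd_prime_iff_eq Nat.prime_two hr.nat_prime).1
      (Nat.prime_two.dvd_of_dvd_pow (n := j) ?_)).symm
    rw [hrj, hord, ht]; exact dvd_mul_left 2 _
  refine hp2 ?_
  rw [← h2]
  refine (Nat.prime_dvd_prime_iff_eq hp.nat_prime hr.nat_prime).1
    (hp.nat_prime.dvd_of_dvd_pow (n := j) ?_)
  rw [hrj, hord, ← hpk]
  exact (dvd_pow_self p hk.ne').mul_right _

/-- A prime power divisible by a prime is a power of it. -/
theorem eq_pow_of_dvd {k p : ℕ} (hk : IsPrimePow k) (hp : p.Prime) (h : p ∣ k) :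
    ∃ j, 1 ≤ j ∧ k = p ^ j := by
  obtain ⟨r, j, hr, hj, rfl⟩ := hk
  rw [(Nat.prime_dvd_prime_iff_eq hp hr.nat_prime).1 (hp.dvd_of_dvd_pow h)]
  exact ⟨j, hj, rfl⟩

/-- One of `2 ^ n - 1`, `2 ^ n + 1` is divisible by three. -/
theorem two_pow_mod_three (n : ℕ) : (Even n ∧ 2 ^ n % 3 = 1) ∨ (Odd n ∧ 2 ^ n % 3 = 2) := by
  rcases Nat.even_or_odd' n with ⟨k, rfl | rfl⟩
  · exact Or.inl ⟨even_two_mul k, by rw [pow_mul, Nat.pow_mod]; norm_num⟩
  · exact Or.inr ⟨odd_two_mul_add_one k, by rw [pow_succ, pow_mul, Nat.mul_mod, Nat.pow_mod]; norm_num⟩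

theorem even_exponent {n : ℕ} (hn : 2 ≤ n) (h1 : IsPrimePow (2 ^ n - 1))
    (h2 : IsPrimePow (2 ^ n + 1)) : n = 2 ∨ n = 3 := by
  rcases two_pow_mod_three n with ⟨-, hm⟩ | ⟨-, hm⟩
  · obtain ⟨j, hj, e⟩ := eq_pow_of_dvd h1 Nat.prime_three
      (Nat.dvd_of_mod_eq_zero (by omega))
    have hpos : 1 ≤ 2 ^ n := Nat.one_le_two_pow
    obtain rfl := FittingHeight.TwoPower.eq_one_of_pow_add_one (q := 3) (a := j) ⟨1, rfl⟩ hn
      (by omega)
    refine Or.inl (Nat.pow_right_injective le_rfl ?_)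
    norm_num at e ⊢
    omega
  · obtain ⟨j, hj, e⟩ := eq_pow_of_dvd h2 Nat.prime_three
      (Nat.dvd_of_mod_eq_zero (by omega))
    rcases FittingHeight.TwoPower.cases_of_pow_eq_add_one (q := 3) (a := j) ⟨1, rfl⟩ le_rfl
      (by omega) e.symm with rfl | ⟨-, rfl⟩
    · exfalso
      have : (4 : ℕ) ≤ 2 ^ n :=
        le_trans (by norm_num) (Nat.pow_le_pow_right (show 1 ≤ 2 by norm_num) hn)
      norm_num at e
      omega
    · refine Or.inr (Nat.pow_right_injective le_rfl ?_)
      norm_num at e ⊢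
      omega

/-- The Suzuki parameter: a torus order is a power of five only for `q = 8, 32`. -/
theorem suzuki_exponent {m a k : ℕ} (hm : 1 ≤ m) (hk : SZ.IsTorusOrder m k) (h : k = 5 ^ a) :
    m = 1 ∨ m = 2 := by
  by_contra hne
  push Not at hne
  have hm3 : 3 ≤ m := by omega
  have hdvd : 2 ^ (m - 2 + 1) ∣ 2 ^ (m + 1) := pow_dvd_pow 2 (by omega)
  obtain ⟨s, hs⟩ : ∃ s, m = s + 2 := ⟨m - 2, by omega⟩
  -- `5 ^ a = 1` modulo `2 ^ (m + 1)`
  have h5 : ((5 : ZMod (2 ^ (s + 3)))) ^ a = 1 := by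
    have h0 : ((2 ^ (m + 1) : ℕ) : ZMod (2 ^ (s + 3))) = 0 := by
      rw [ZMod.natCast_eq_zero_iff, show m + 1 = s + 3 by omega]
    have h1 : ((2 ^ (2 * m + 1) : ℕ) : ZMod (2 ^ (s + 3))) = 0 := by
      rw [show 2 ^ (2 * m + 1) = 2 ^ (m + 1) * 2 ^ m by rw [← pow_add]; ring_nf, Nat.cast_mul,
        h0, zero_mul]
    have h2 : ((k : ℕ) : ZMod (2 ^ (s + 3))) = 1 := by
      rcases hk with rfl | rfl
      · rw [Nat.cast_add, Nat.cast_add, h0, h1, zero_add, zero_add, Nat.cast_one]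
      · rw [Nat.cast_add, Nat.cast_sub (Nat.pow_le_pow_right (by norm_num) (by omega)), h0, h1,
          sub_zero, zero_add, Nat.cast_one]
    rw [h, Nat.cast_pow] at h2
    exact_mod_cast h2
  have hord : 2 ^ (s + 1) ∣ a := by
    rw [← ZMod.orderOf_five (s + 1)]
    exact orderOf_dvd_of_pow_eq_one h5
  have ha : a ≠ 0 := by
    rintro rfl
    have := (hk.bound hm).2
    rw [h, pow_zero] at this
    omega
  have hle : 2 ^ (s + 1) ≤ a := Nat.le_of_dvd (Nat.pos_of_ne_zero ha) hord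
  have h4 : 2 ^ (2 * 2 ^ (s + 1)) ≤ 5 ^ a :=
    calc 2 ^ (2 * 2 ^ (s + 1)) = 4 ^ 2 ^ (s + 1) := by rw [pow_mul]; norm_num
      _ ≤ 5 ^ 2 ^ (s + 1) := Nat.pow_le_pow_left (by norm_num) _
      _ ≤ 5 ^ a := Nat.pow_le_pow_right (by norm_num) hle
  have h6 : k < 2 ^ (2 * m + 2) := by
    have := SZ.two_sigma_le (m := m) hm
    rw [pow_succ 2 (2 * m + 1)]
    have : 1 < 2 ^ (m + 1) := Nat.one_lt_two_pow (by omega)
    rcases hk with rfl | rfl <;> omega
  rw [h] at h6
  have h7 : 2 * 2 ^ (s + 1) < 2 * m + 2 :=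
    (Nat.pow_lt_pow_iff_right (by norm_num : 1 < 2)).1 (h4.trans_lt h6)
  have h8 : ∀ s : ℕ, 1 ≤ s → s + 3 ≤ 2 ^ (s + 1) := by
    intro s hs
    induction s, hs using Nat.le_induction with
    | base => norm_num
    | succ n hn ih => rw [pow_succ]; omega
  have := h8 s (by omega)
  omega

/-- Five divides a torus order. -/
theorem exists_five_dvd {m : ℕ} (hm : 1 ≤ m) : ∃ k, SZ.IsTorusOrder m k ∧ 5 ∣ k := by
  have h : 5 ∣ (2 ^ (2 * m + 1)) ^ 2 + 1 := by
    rw [← pow_mul, show (2 * m + 1) * 2 = 4 * m + 2 by ring]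
    refine Nat.dvd_of_mod_eq_zero ?_
    rw [Nat.add_mod, pow_add, Nat.mul_mod, pow_mul, Nat.pow_mod]
    norm_num
  rw [← SZ.torus_prod hm] at h
  rcases (Nat.prime_five.dvd_mul).1 h with h | h
  · exact ⟨_, Or.inl rfl, h⟩
  · exact ⟨_, Or.inr rfl, h⟩

variable [IsSimpleGroup G]

/-- A simple group with element orders prime powers, given the CIT classification. -/
theorem primePower_cases (h : ∀ g : G, g ≠ 1 → IsPrimePow (orderOf g))
    (hne : ∃ a b : G, a * b ≠ b * a) (hC : ConclSz G) :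
    Nonempty (G ≃* alternatingGroup (Fin 6)) ∨
    (∃ (F : Type) (_ : Field F) (_ : Fintype F), Fintype.card F ∈ ({4, 7, 8, 17} : Finset ℕ) ∧
      Nonempty (G ≃* Matrix.ProjectiveSpecialLinearGroup (Fin 2) F)) ∨
    (∃ (F : Type) (_ : Field F) (_ : Fintype F), Fintype.card F = 4 ∧
      Nonempty (G ≃* Matrix.ProjectiveSpecialLinearGroup (Fin 3) F)) ∨
    (∃ (F : Type) (_ : Field F) (_ : Fintype F),
      (Fintype.card F = 8 ∧ Nonempty (G ≃* ↥(Cfsg.Lie.Sz F 4))) ∨
        (Fintype.card F = 32 ∧ Nonempty (G ≃* ↥(Cfsg.Lie.Sz F 8)))) := by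
  classical
  rcases hC with ⟨F, iF, iFt, hq, ⟨e⟩⟩ | h3 | ⟨F, iF, iFt, m, hm, hF, ⟨e⟩⟩
  · -- `PSL(2, q)`
    have hq2 : 4 ≤ Fintype.card F := by
      by_contra hlt
      push Not at hlt
      haveI := (e.symm.isSimpleGroup : IsSimpleGroup PSL(2, F))
      have hnc : ¬ Group.IsSolvable PSL(2, F) := fun hs => by
        haveI : Group.IsSolvable G := Group.isSolvable_of_isSolvable_injective (f := e.toMonoidHom) e.injective
        obtain ⟨a, b, hab⟩ := hne
        exact hab (IsSimpleGroup.comm_iff_isSolvable.2 ‹_› a b)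
      exact hnc (isSolvable_psl_small (by omega))
    have hP : ∀ x : PSL(2, F), x ≠ 1 → IsPrimePow (orderOf x) := fun x hx => by
      rw [← e.symm.orderOf_eq x]
      exact h _ fun e1 => hx (e.symm.injective (e1.trans (map_one _).symm))
    set d := Nat.gcd 2 (Fintype.card F - 1) with hd
    have hminus : ∃ x : PSL(2, F), orderOf x = (Fintype.card F - 1) / d := by
      obtain ⟨a, ha⟩ := IsCyclic.exists_ofOrder_eq_natCard (α := Fˣ)
      have ha2 : (a : F) ^ 2 ≠ 1 := fun e2 => by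
        have : orderOf a ≤ 2 := Nat.le_of_dvd two_pos (orderOf_dvd_of_pow_eq_one (Units.ext e2))
        rw [ha, Nat.card_units, Nat.card_eq_fintype_card] at this
        omega
      have h4 := tr_dd_sq_ne_four ha2
      refine exists_orderOf_of_dvd_torus h4 ?_
      rw [cent_dd ha2, card_torus']
    have hplus : ∃ x : PSL(2, F), orderOf x = (Fintype.card F + 1) / d := by
      obtain ⟨g, hg⟩ := exists_elliptic F
      refine exists_orderOf_of_dvd_torus hg.sq_ne_four ?_
      rw [hg.card_cent]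
    have hpp : ∀ k, (∃ x : PSL(2, F), orderOf x = k) → 2 ≤ k → IsPrimePow k := by
      rintro k ⟨x, rfl⟩ hk
      exact hP x fun e1 => by rw [e1, orderOf_one] at hk; omega
    rcases hq with h9 | ⟨n, hn⟩ | ⟨hprime, k, hk⟩
    · refine Or.inl ?_
      obtain ⟨i⟩ := SmallSimple.iso_alternating_six (G := G) (by
        rw [Nat.card_congr e.toEquiv]
        have := two_mul_card_PSL (F := F) (odd_card_iff.1 (by rw [h9]; decide))
        rw [h9] at this
        omega)
      exact ⟨i⟩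
    · -- characteristic two
      have hn2 : 2 ≤ n := by
        by_contra hlt
        have : 2 ^ n ≤ 2 ^ 1 := Nat.pow_le_pow_right (by norm_num) (by omega)
        omega
      have hd1 : d = 1 := by
        have hodd : ¬ 2 ∣ Fintype.card F - 1 := by
          rw [hn]
          have : 2 ∣ 2 ^ n := dvd_pow_self 2 (by omega)
          omega
        exact (Nat.prime_two.coprime_iff_not_dvd).2 hodd
      rw [hd1, Nat.div_one] at hminus hplus
      have h48 := even_exponent hn2 (hn ▸ hpp _ hminus (by omega)) (hn ▸ hpp _ hplus (by omega))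
      refine Or.inr (Or.inl ⟨F, iF, iFt, ?_, ⟨e⟩⟩)
      rcases h48 with rfl | rfl <;> simp [hn]
    · -- a Fermat or Mersenne prime
      have hd2 : d = 2 := Nat.gcd_eq_left (by
        have := hprime.eq_two_or_odd
        omega)
      rw [hd2] at hminus hplus
      have hk2 : 2 ≤ k := by
        by_contra hlt
        have : 2 ^ k ≤ 2 ^ 1 := Nat.pow_le_pow_right (by norm_num) (by omega)
        omega
      obtain ⟨i, rfl⟩ : ∃ i, k = i + 1 := ⟨k - 1, by omega⟩
      have hne3 : ¬ 3 ∣ Fintype.card F := fun h3 => by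
        have := (Nat.prime_dvd_prime_iff_eq Nat.prime_three hprime).1 h3
        omega
      rw [pow_succ] at hk
      rcases hk with hk | hk
      · -- `q = 2 ^ (i + 1) + 1`
        rcases two_pow_mod_three i with ⟨-, hm3⟩ | ⟨-, hm3⟩
        · exact absurd (Nat.dvd_of_mod_eq_zero (show Fintype.card F % 3 = 0 by omega)) hne3
        obtain ⟨j, hj, ej⟩ := eq_pow_of_dvd (hpp _ hplus (by omega)) Nat.prime_three
          (Nat.dvd_of_mod_eq_zero (show (Fintype.card F + 1) / 2 % 3 = 0 by omega))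
        rw [show (Fintype.card F + 1) / 2 = 2 ^ i + 1 by omega] at ej
        rcases FittingHeight.TwoPower.cases_of_pow_eq_add_one (q := 3) (a := j) ⟨1, rfl⟩ le_rfl
          (by omega) ej.symm with rfl | ⟨-, rfl⟩
        · -- `q = 5`
          refine Or.inr (Or.inl ?_)
          norm_num at ej
          let _ : Fintype (GaloisField 2 2) := Fintype.ofFinite _
          have h4 : Fintype.card (GaloisField 2 2) = 4 := by
            rw [← Nat.card_eq_fintype_card, GaloisField.card 2 2 two_ne_zero]; norm_num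
          obtain ⟨e5⟩ := psl_four_five_iso (F := F) (Or.inr (by omega))
          obtain ⟨e4⟩ := psl_four_five_iso (F := GaloisField 2 2) (Or.inl h4)
          exact ⟨GaloisField 2 2, inferInstance, inferInstance, by simp [h4],
            ⟨(e.trans e5).trans e4.symm⟩⟩
        · refine Or.inr (Or.inl ⟨F, iF, iFt, ?_, ⟨e⟩⟩)
          have : Fintype.card F = 17 := by norm_num at ej; omega
          simp [this]
      · -- `q = 2 ^ (i + 1) - 1`
        rcases two_pow_mod_three i with ⟨-, hm3⟩ | ⟨-, hm3⟩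
        swap
        · exact absurd (Nat.dvd_of_mod_eq_zero (show Fintype.card F % 3 = 0 by omega)) hne3
        obtain ⟨j, hj, ej⟩ := eq_pow_of_dvd (hpp _ hminus (by omega)) Nat.prime_three
          (Nat.dvd_of_mod_eq_zero (show (Fintype.card F - 1) / 2 % 3 = 0 by omega))
        rw [show (Fintype.card F - 1) / 2 = 2 ^ i - 1 by omega] at ej
        have hi : 2 ≤ i := by
          by_contra hlt
          have : 2 ^ i ≤ 2 ^ 1 := Nat.pow_le_pow_right (by norm_num) (by omega)
          omega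
        obtain rfl := FittingHeight.TwoPower.eq_one_of_pow_add_one (q := 3) (a := j) ⟨1, rfl⟩ hi
          (by omega)
        refine Or.inr (Or.inl ⟨F, iF, iFt, ?_, ⟨e⟩⟩)
        have : Fintype.card F = 7 := by norm_num at ej; omega
        simp [this]
  · exact Or.inr (Or.inr (Or.inl h3))
  · -- a Suzuki group
    refine Or.inr (Or.inr (Or.inr ⟨F, iF, iFt, ?_⟩))
    obtain ⟨k, hk, h5⟩ := exists_five_dvd hm
    obtain ⟨U, hU, hcard, -, -⟩ := SZ.exists_torus hm hF hk
    obtain ⟨z, hz⟩ := IsCyclic.exists_ofOrder_eq_natCard (α := U)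
    let f := e.trans (SZ.szEquiv hm hF).symm
    have hkp : IsPrimePow k := by
      have h1 : orderOf (f.symm (z : Cfsg.Sz F m)) = k := by
        rw [f.symm.orderOf_eq, Subgroup.orderOf_coe, hz, hcard]
      refine h1 ▸ h _ fun e1 => ?_
      rw [e1, orderOf_one] at h1
      have := (hk.bound hm).2
      omega
    obtain ⟨a, -, ha⟩ := eq_pow_of_dvd hkp Nat.prime_five h5
    rcases suzuki_exponent hm hk ha with rfl | rfl
    · exact Or.inl ⟨by simpa using hF, ⟨e⟩⟩
    · exact Or.inr ⟨by simpa using hF, ⟨e⟩⟩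

end Cfsg.Agent.CIT
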