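import Cfsg.Agent.Lib.CIT.Sylow
import Cfsg.Agent.Lib.PushingUp2.Cases

/-!
# The structure of a bad maximal 2-local

* if `P = D A` is a Sylow 2-subgroup of `G`, then `N(J(P)) ≤ N(P)`;
* either `P` has class at most `2` or a fixed characteristic subgroup of `P` is normal in `M`;
* if `P` has class at most `2`, then `D = V`, and two bad maximal 2-locals over `P` form a `Pair`.
-/

set_option autoImplicit false
set_option linter.style.haveILetI false
set_option linter.unusedSectionVars false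

namespace Cfsg.Agent.CIT

open Subgroup
open Cfsg (IsElementaryAbelian pCore)
open scoped commutatorElement

variable {G : Type*} [Group G]

/-- An elementary abelian subgroup of `X` of largest order. -/
def MaxE (X B : Subgroup G) : Prop :=
  B ≤ X ∧ IsElementaryAbelian 2 B ∧
    ∀ C : Subgroup G, C ≤ X → IsElementaryAbelian 2 C → Nat.card C ≤ Nat.card B

/-- The subgroup they generate. -/
def jsub (X : Subgroup G) : Subgroup G := ⨆ B : {B : Subgroup G // MaxE X B}, (B : Subgroup G)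

/-- Their intersection. -/
def isub (X : Subgroup G) : Subgroup G := ⨅ B : {B : Subgroup G // MaxE X B}, (B : Subgroup G)

theorem exists_maxE [Finite G] (X : Subgroup G) : ∃ B, MaxE X B := by
  obtain ⟨B, hB, hmax⟩ := Set.Finite.exists_maximalFor (fun K : Subgroup G => Nat.card K)
    {K | K ≤ X ∧ IsElementaryAbelian 2 K} (Set.toFinite _)
    ⟨⊥, bot_le, ⟨⟨fun a b => Subsingleton.elim _ _⟩⟩, fun a ha => by
      rw [Subgroup.mem_bot.1 ha, one_pow]⟩
  refine ⟨B, hB.1, hB.2, fun C hC hCe => ?_⟩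
  by_contra hlt
  exact hlt (hmax ⟨hC, hCe⟩ (le_of_not_ge hlt))

theorem MaxE.map {X B : Subgroup G} (hB : MaxE X B) (φ : G ≃* G) :
    MaxE (X.map φ.toMonoidHom) (B.map φ.toMonoidHom) := by
  refine ⟨Subgroup.map_mono hB.1, PGroup.isElementaryAbelian_map hB.2.1 _, fun C hC hCe => ?_⟩
  have h1 := hB.2.2 (C.map φ.symm.toMonoidHom) (fun c hc => ?_)
    (PGroup.isElementaryAbelian_map hCe _)
  · rw [Subgroup.card_map_of_injective φ.symm.injective] at h1
    rwa [Subgroup.card_map_of_injective φ.injective]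
  · obtain ⟨d, hd, rfl⟩ := hc
    obtain ⟨x, hx, rfl⟩ := hC hd
    show φ.symm (φ x) ∈ X
    rwa [φ.symm_apply_apply]

theorem map_jsub_le (X : Subgroup G) (φ : G ≃* G) :
    (jsub X).map φ.toMonoidHom ≤ jsub (X.map φ.toMonoidHom) := by
  rw [jsub, Subgroup.map_iSup]
  exact iSup_le fun B => le_iSup_of_le (⟨_, B.2.map φ⟩ : {B // MaxE (X.map φ.toMonoidHom) B}) le_rfl

theorem map_jsub (X : Subgroup G) (φ : G ≃* G) :
    (jsub X).map φ.toMonoidHom = jsub (X.map φ.toMonoidHom) := by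
  refine le_antisymm (map_jsub_le X φ) fun y hy => ?_
  have h1 := map_jsub_le (X.map φ.toMonoidHom) φ.symm
  rw [Subgroup.map_map, show φ.symm.toMonoidHom.comp φ.toMonoidHom = MonoidHom.id G from
    MonoidHom.ext φ.symm_apply_apply, Subgroup.map_id] at h1
  exact ⟨φ.symm y, h1 ⟨y, hy, rfl⟩, φ.apply_symm_apply y⟩

theorem jsub_le (X : Subgroup G) : jsub X ≤ X := iSup_le fun B => B.2.1

theorem map_conj_eq {X : Subgroup G} {g : G} (hg : g ∈ normalizer (X : Set G)) :
    X.map (MulAut.conj g).toMonoidHom = X := by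
  ext y
  constructor
  · rintro ⟨x, hx, rfl⟩
    exact (mem_normalizer_iff.1 hg x).1 hx
  · intro hy
    refine ⟨g⁻¹ * y * g, (mem_normalizer_iff.1 hg _).2 ?_, show g * (g⁻¹ * y * g) * g⁻¹ = y by group⟩
    rwa [show g * (g⁻¹ * y * g) * g⁻¹ = y by group]

theorem mem_normalizer_of_map_conj {X : Subgroup G} {g : G}
    (hg : X.map (MulAut.conj g).toMonoidHom = X) : g ∈ normalizer (X : Set G) := by
  refine mem_normalizer_iff.2 fun n => ⟨fun hn => hg.le ⟨n, hn, rfl⟩, fun hn => ?_⟩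
  obtain ⟨m, hm, e⟩ := hg.ge hn
  have e' : g * m * g⁻¹ = g * n * g⁻¹ := e
  rwa [← mul_left_cancel (mul_right_cancel e')]

theorem normalizer_le_normalizer_jsub (X : Subgroup G) :
    normalizer (X : Set G) ≤ normalizer (jsub X : Set G) := fun g hg =>
  mem_normalizer_of_map_conj (by rw [map_jsub, map_conj_eq hg])

namespace Sett

variable [Finite G] {M A : Subgroup G} (h : Sett M A)
include h

/-- An element commuting with `A` and with a conjugate outside `N(P)` is trivial. -/
theorem eq_one_of_commute_conj {g z : G} (hg : g ∈ M)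
    (hgn : g ∉ normalizer ((core M ⊔ A : Subgroup G) : Set G)) (hz : z * z = 1)
    (h1 : ∀ a ∈ A, Commute a z) (h2 : ∀ a ∈ A, Commute (g * a * g⁻¹) z) : z = 1 := by
  by_contra hne
  have hz2 : orderOf z = 2 := by
    haveI : Fact (Nat.Prime 2) := ⟨Nat.prime_two⟩
    exact orderOf_eq_prime (by rw [pow_two]; exact hz) hne
  have hR : IsPGroup 2 (img M (centralizer ({z} : Set G))) := h.img_two (h.hG z hz2)
  refine hgn ((h.mem_normalizer_iff_act hg).2 (h.off.mem_normalizer_of_two hR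
    (fun x hx => ?_) fun x hx => ?_))
  · obtain ⟨m, hm, rfl⟩ := mem_img.1 hx
    exact mem_img.2 ⟨m, mem_centralizer_singleton_iff.2 (h1 _ hm).eq, rfl⟩
  · obtain ⟨m, hm, rfl⟩ := mem_img.1 hx
    refine mem_img.2 ⟨⟨g, hg⟩ * m * ⟨g, hg⟩⁻¹, mem_centralizer_singleton_iff.2 (h2 _ hm).eq, ?_⟩
    rw [map_mul, map_mul, map_inv]

/-- When `P` is a Sylow 2-subgroup of `G`, its Thompson subgroup has the same normaliser. -/
theorem normalizer_jsub_le {S : Sylow 2 G} (hS : (S : Subgroup G) = core M ⊔ A) :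
    normalizer (jsub (S : Subgroup G) : Set G) ≤ normalizer ((S : Subgroup G) : Set G) := by
  haveI : Fact (Nat.Prime 2) := ⟨Nat.prime_two⟩
  set P := (S : Subgroup G) with hP
  have hPM : P ≤ M := hS ▸ h.sup_le
  have hAP : A ≤ P := hS ▸ le_sup_right
  have hDP : core M ≤ P := hS ▸ le_sup_left
  have hAmax : MaxE P A := ⟨hAP, h.elem, fun C hC hCe => h.largest C (hC.trans hPM) hCe⟩
  set E := (A ⊓ core M) ⊔ vsub M with hE
  have hEe : IsElementaryAbelian 2 E :=
    PGroup.isElementaryAbelian_sup (PGroup.isElementaryAbelian_mono h.elem inf_le_left)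
      (vsub_elem M) fun a ha v hv => (vsub_commute hv ha.2).symm.eq
  have hED : E ≤ core M := _root_.sup_le inf_le_right (vsub_le_core M)
  have hEmax : MaxE P E := ⟨hED.trans hDP, hEe, fun C hC hCe => by
    rw [hE, h.wsub_le.2]; exact h.largest C (hC.trans hPM) hCe⟩
  -- the intersection of the largest ones inside `D`
  set O := ⨅ B : {B : Subgroup G // MaxE P B ∧ B ≤ core M}, (B : Subgroup G) with hO
  have hOE : O ≤ E := iInf_le_of_le ⟨E, hEmax, hED⟩ le_rfl
  have hVO : vsub M ≤ O := by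
    refine le_iInf fun B => ?_
    obtain ⟨B, hB, hBD⟩ := B
    show vsub M ≤ B
    have h1 : IsElementaryAbelian 2 (B ⊔ vsub M : Subgroup G) :=
      PGroup.isElementaryAbelian_sup hB.2.1 (vsub_elem M)
        fun b hb v hv => (vsub_commute hv (hBD hb)).symm.eq
    have h2 := hB.2.2 _ (_root_.sup_le hB.1 ((vsub_le_core M).trans hDP)) h1
    exact le_sup_right.trans (Subgroup.eq_of_le_of_card_ge le_sup_left h2).ge
  have hOn : ∀ g ∈ M, ∀ x ∈ O, g * x * g⁻¹ ∈ O := by
    intro g hg x hx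
    rw [hO, Subgroup.mem_iInf] at hx ⊢
    rintro ⟨B, hB, hBD⟩
    have hsub : B.map (MulAut.conj g⁻¹).toMonoidHom ≤ core M := by
      rintro _ ⟨b, hb, rfl⟩
      exact conj_mem_core (M.inv_mem hg) (hBD hb)
    have hB' : MaxE P (B.map (MulAut.conj g⁻¹).toMonoidHom) :=
      ⟨hsub.trans hDP, PGroup.isElementaryAbelian_map hB.2.1 _, fun C hC hCe => by
        rw [Subgroup.card_map_of_injective (MulAut.conj g⁻¹).injective]
        exact hB.2.2 C hC hCe⟩
    obtain ⟨b, hb, e⟩ := hx ⟨_, hB', hsub⟩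
    have e' : g⁻¹ * b * g⁻¹⁻¹ = x := e
    rw [← e', show g * (g⁻¹ * b * g⁻¹⁻¹) * g⁻¹ = b by group]
    exact hb
  set K := O ⊓ A with hK
  have hKV : K ⊓ vsub M = wsub M A := by
    rw [h.wsub_eq]
    exact le_antisymm (le_inf (inf_le_left.trans inf_le_right) inf_le_right)
      (le_inf (le_inf (inf_le_right.trans hVO) inf_le_left) inf_le_right)
  have hcommKV : ∀ k ∈ K, ∀ v ∈ vsub M, Commute k v := fun k hk v hv =>
    (vsub_commute hv (hED (hOE hk.1))).symm
  have hOK : O = K ⊔ vsub M := by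
    refine le_antisymm (fun x hx => ?_) (_root_.sup_le inf_le_left hVO)
    have hxE := hOE hx
    rw [hE, Coprime.mem_sup_iff_of_le_normalizer'
      (inf_le_right.trans ((core_le M).trans (le_normalizer_vsub M)))] at hxE
    obtain ⟨v, hv, a, ha, rfl⟩ := hxE
    refine mul_mem (mem_sup_right hv) (mem_sup_left ⟨?_, ha.1⟩)
    have := O.mul_mem (O.inv_mem (hVO hv)) hx
    rwa [inv_mul_cancel_left] at this
  obtain ⟨g, hg, hgn⟩ := h.exists_not_mem_normalizer
  have hcO : Nat.card O * Nat.card (wsub M A) = Nat.card K * Nat.card (vsub M) := by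
    rw [hOK, ← hKV]; exact card_sup_mul_inf hcommKV
  have hKK : Nat.card K * Nat.card K ≤ Nat.card O := by
    rw [← Nat.card_prod]
    refine Nat.card_le_card_of_injective (fun p : K × K =>
      (⟨(p.1 : G) * (g * p.2 * g⁻¹), mul_mem p.1.2.1 (hOn g hg _ p.2.2.1)⟩ : O)) ?_
    rintro ⟨⟨a, ha⟩, ⟨b, hb⟩⟩ ⟨⟨a', ha'⟩, ⟨b', hb'⟩⟩ e
    have e1 : a * (g * b * g⁻¹) = a' * (g * b' * g⁻¹) := congrArg Subtype.val e
    have e2 : a'⁻¹ * a = g * (b' * b⁻¹) * g⁻¹ := by
      calc a'⁻¹ * a = a'⁻¹ * (a * (g * b * g⁻¹)) * (g * b * g⁻¹)⁻¹ := by group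
        _ = a'⁻¹ * (a' * (g * b' * g⁻¹)) * (g * b * g⁻¹)⁻¹ := by rw [e1]
        _ = g * (b' * b⁻¹) * g⁻¹ := by group
    have hz : a'⁻¹ * a ∈ A := mul_mem (inv_mem ha'.2) ha.2
    have hb'' : b' * b⁻¹ ∈ A := mul_mem hb'.2 (inv_mem hb.2)
    have h1 : a'⁻¹ * a = 1 := h.eq_one_of_commute_conj hg hgn
      (by rw [← pow_two]; exact h.elem.2 _ hz) (fun x hx => h.commA hx hz) fun x hx => by
        rw [e2]
        exact (h.commA hx hb'').map (MulAut.conj g).toMonoidHom
    rw [inv_mul_eq_one] at h1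
    subst h1
    obtain rfl : b = b' := mul_left_cancel (mul_right_cancel (mul_left_cancel e1))
    rfl
  have hKW : K = wsub M A := by
    refine (Subgroup.eq_of_le_of_card_ge (hKV ▸ inf_le_left) ?_).symm
    rw [h.card_vsub] at hcO
    have hw0 : 0 < Nat.card (wsub M A) := Nat.card_pos
    have hO' : Nat.card O = Nat.card K * Nat.card (wsub M A) :=
      Nat.eq_of_mul_eq_mul_right hw0 (by rw [hcO, mul_assoc])
    exact Nat.le_of_mul_le_mul_left (hO' ▸ hKK) Nat.card_pos
  -- `S` centralises the intersection of all largest subgroups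
  have hIW : isub P ≤ wsub M A := by
    rw [← hKW]
    refine le_inf (le_iInf fun B => ?_) (iInf_le_of_le ⟨A, hAmax⟩ le_rfl)
    exact iInf_le_of_le ⟨B.1, B.2.1⟩ le_rfl
  have hPC : P ≤ centralizer (isub P : Set G) := fun p hp =>
    mem_centralizer_iff.2 fun x hx => (h.commute_wsub (hS ▸ hp) (hIW hx)).symm.eq
  have hI2 : IsPGroup 2 (isub P) := (vsub_two M).to_le (hIW.trans inf_le_left)
  have hne : isub P ≠ ⊥ := by
    haveI : Nontrivial P := by
      refine (Subgroup.nontrivial_iff_ne_bot _).2 fun e => h.out ?_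
      exact (hAP.trans e.le).trans bot_le
    haveI := S.2.center_nontrivial
    obtain ⟨z, hz⟩ := exists_ne (1 : Subgroup.center P)
    obtain ⟨k, hk⟩ := IsPGroup.iff_orderOf.1 (S.2.to_subgroup (Subgroup.center P)) z
    rcases k with _ | k
    · exact absurd (orderOf_eq_one_iff.1 (hk.trans (pow_zero 2))) hz
    set y : Subgroup.center P := z ^ 2 ^ k with hy
    have hy2 : y * y = 1 := by
      rw [hy, ← pow_add, ← two_mul, ← pow_succ', ← hk, pow_orderOf_eq_one]
    have hy1 : ((y : P) : G) ≠ 1 := fun e => by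
      have h1 : orderOf z ∣ 2 ^ k :=
        orderOf_dvd_of_pow_eq_one (Subtype.ext (Subtype.ext e) : z ^ 2 ^ k = 1)
      rw [hk] at h1
      have := Nat.pow_dvd_pow_iff_le_right (x := 2) (by norm_num) |>.1 h1
      omega
    intro e
    refine hy1 (Subgroup.mem_bot.1 (e ▸ Subgroup.mem_iInf.2 ?_))
    rintro ⟨B, hB⟩
    have hcy : ∀ b ∈ P, Commute b ((y : P) : G) := fun b hb =>
      congrArg Subtype.val (Subgroup.mem_center_iff.1 y.2 ⟨b, hb⟩)
    have hY : IsElementaryAbelian 2 (zpowers ((y : P) : G)) := by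
      refine ⟨⟨⟨fun a b => ?_⟩⟩, fun a ha => ?_⟩
      · obtain ⟨i, hi⟩ := mem_zpowers_iff.1 a.2
        obtain ⟨j, hj⟩ := mem_zpowers_iff.1 b.2
        exact Subtype.ext (by rw [Subgroup.coe_mul, Subgroup.coe_mul, ← hi, ← hj, zpow_mul_comm])
      · obtain ⟨i, rfl⟩ := mem_zpowers_iff.1 ha
        rw [← zpow_natCast, ← zpow_mul, mul_comm, zpow_mul, zpow_natCast, pow_two,
          show ((y : P) : G) * ((y : P) : G) = 1 from
            congrArg (fun u : Subgroup.center P => ((u : P) : G)) hy2, one_zpow]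
    have h1 := PGroup.isElementaryAbelian_sup hB.2.1 hY fun b hb w hw => by
      obtain ⟨i, rfl⟩ := mem_zpowers_iff.1 hw
      exact ((hcy b (hB.1 hb)).zpow_right i).eq
    have h2 := hB.2.2 _ (_root_.sup_le hB.1 (zpowers_le.2 (SetLike.coe_mem _))) h1
    show ((y : P) : G) ∈ B
    rw [Subgroup.eq_of_le_of_card_ge le_sup_left h2]
    exact mem_sup_right (mem_zpowers _)
  have hCS : centralizer (isub P : Set G) = P :=
    S.is_maximal' (isPGroup_centralizer h.hG hI2 hne) hPC
  -- conjugation by an element normalising `J(P)` preserves the intersection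
  intro g hg
  refine mem_normalizer_of_map_conj ?_
  set φ := MulAut.conj g with hφ
  have hmem : ∀ B, MaxE P B → MaxE P (B.map φ.toMonoidHom) := fun B hB => by
    have hle : B.map φ.toMonoidHom ≤ jsub P := (Subgroup.map_mono
      (le_iSup_of_le (⟨B, hB⟩ : {B // MaxE P B}) le_rfl)).trans (map_conj_eq hg).le
    exact ⟨hle.trans (jsub_le P), PGroup.isElementaryAbelian_map hB.2.1 _, fun C hC hCe => by
      rw [Subgroup.card_map_of_injective φ.injective]; exact hB.2.2 C hC hCe⟩
  have hI : ∀ x ∈ isub P, g⁻¹ * x * g ∈ isub P := by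
    intro x hx
    rw [isub, Subgroup.mem_iInf] at hx ⊢
    rintro ⟨B, hB⟩
    obtain ⟨b, hb, e⟩ := hx ⟨_, hmem B hB⟩
    have e' : g * b * g⁻¹ = x := e
    show g⁻¹ * x * g ∈ B
    rwa [← e', show g⁻¹ * (g * b * g⁻¹) * g = b by group]
  have hle : P.map φ.toMonoidHom ≤ P := by
    rintro _ ⟨p, hp, rfl⟩
    refine hCS.le (mem_centralizer_iff.2 fun x hx => ?_)
    have h1 := mem_centralizer_iff.1 (hCS.ge hp) _ (hI x hx)
    show x * (g * p * g⁻¹) = g * p * g⁻¹ * x
    calc x * (g * p * g⁻¹) = g * (g⁻¹ * x * g * p) * g⁻¹ := by group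
      _ = g * (p * (g⁻¹ * x * g)) * g⁻¹ := by rw [h1]
      _ = g * p * g⁻¹ * x := by group
  exact Subgroup.eq_of_le_of_card_ge hle (Subgroup.card_map_of_injective φ.injective).ge

/-- A characteristic subgroup of `P` in the centre is not normal in `M`; so the second one of the
pushing-up pair is. -/
theorem le_normalizer_sol {P : Subgroup G} (hP : P = core M ⊔ A) {S₁ S₂ : Subgroup P}
    (hs : PU2.Sol 2 P S₁ S₂) : M ≤ normalizer (S₂.map P.subtype : Set G) := by
  haveI : Fact (Nat.Prime 2) := ⟨Nat.prime_two⟩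
  have hPM : P ≤ M := hP ▸ h.sup_le
  have hP2 : IsPGroup 2 P := hP ▸ h.sup_two
  have hsy : ∀ {Q : Subgroup M}, IsPGroup 2 Q → P.subgroupOf M ≤ Q → Q = P.subgroupOf M := by
    intro Q hQ hle
    have h1 := h.eq_sup_of_two (hQ.map M.subtype) (map_subtype_le _)
      (by rw [← hP, ← map_subgroupOf_eq_of_le hPM]; exact Subgroup.map_mono hle)
    rw [← hP, ← map_subgroupOf_eq_of_le hPM] at h1
    exact (Subgroup.map_injective M.subtype_injective) h1
  let Sy : Sylow 2 M := ⟨P.subgroupOf M,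
    hP2.of_equiv (subgroupOfEquivOfLe hPM).symm, hsy⟩
  set B := M ⊓ normalizer (P : Set G) with hB
  have hcore : ∀ m : M, m ∈ pCore 2 M ↔ (m : G) ∈ core M := fun m =>
    ⟨fun hm => ⟨m, hm, rfl⟩, fun ⟨y, hy, e⟩ => (Subtype.ext e : y = m) ▸ hy⟩
  have hyp : PushingUp.Hyp 2 Sy (B.subgroupOf M) := by
    refine ⟨fun m hm => ?_, fun e => ?_, ?_, fun X hX hne => ?_, fun a ha b hb => ?_, fun s hs => ?_,
      fun X hQX hXS hXn => ?_, fun hle => h.out fun a ha => (hcore ⟨a, h.le ha⟩).1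
        (hle (show (a : G) ∈ P from hP ▸ mem_sup_right ha))⟩
    · rw [hcore, ← centralizer_vsub h.hG h.max, mem_centralizer_iff]
      intro v hv
      exact congrArg Subtype.val (mem_centralizer_iff.1 hm ⟨v, h.vsub_le hv⟩
        ((hcore _).2 (vsub_le_core M hv)))
    · obtain ⟨g, hg, hgn⟩ := h.exists_not_mem_normalizer
      exact hgn (hP ▸ ((e ▸ mem_top (⟨g, hg⟩ : M) : (⟨g, hg⟩ : M) ∈ B.subgroupOf M)).2)
    · intro m hm
      exact ⟨m.2, le_normalizer hm⟩
    · rcases h.overgroup (Y := X.map M.subtype)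
        (by rw [← hP, ← map_subgroupOf_eq_of_le hPM]; exact Subgroup.map_mono hX)
        (map_subtype_le _) with h1 | h1
      · exact fun m hm => ⟨m.2, hP ▸ h1 ⟨m, hm, rfl⟩⟩
      · refine absurd (Subgroup.map_injective M.subtype_injective ?_) hne
        rw [h1, ← MonoidHom.range_eq_map, Subgroup.range_subtype]
    · refine (hcore _).2 ((act_eq_one h.hG h.max).1 ?_)
      have hm : ∀ x : M, x ∈ (Sy : Subgroup M) → (act M).rangeRestrict x ∈ img M A := by
        intro x hx
        have hx' : (x : G) ∈ pre M (img M A) := by rw [← h.sup_eq_pre, ← hP]; exact hx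
        exact (mem_pre.1 hx').2
      rw [map_commutatorElement]
      exact commutatorElement_eq_one_iff_mul_comm.2 (h.off.commA (hm a ha) (hm b hb)).eq
    · refine (hcore _).2 ((act_eq_one h.hG h.max).1 ?_)
      have hx' : (s : G) ∈ pre M (img M A) := by rw [← h.sup_eq_pre, ← hP]; exact hs
      rw [map_pow, pow_two]
      exact h.off.invA _ (mem_pre.1 hx').2
    · -- the torus is transitive on `P / D`
      by_cases hXD : X ≤ pCore 2 M
      · exact Or.inl (le_antisymm hXD hQX)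
      obtain ⟨x, hxX, hxD⟩ := SetLike.not_le_iff_exists.1 hXD
      have hx' : (x : G) ∈ pre M (img M A) := by rw [← h.sup_eq_pre, ← hP]; exact hXS hxX
      have hxne : (act M).rangeRestrict x ≠ 1 := fun e =>
        hxD ((hcore x).2 ((act_eq_one h.hG h.max).1 e))
      refine Or.inr (le_antisymm hXS fun s hsS => ?_)
      have hs' : (s : G) ∈ pre M (img M A) := by rw [← h.sup_eq_pre, ← hP]; exact hsS
      by_cases hs1 : (act M).rangeRestrict s = 1
      · exact hQX ((hcore s).2 ((act_eq_one h.hG h.max).1 hs1))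
      obtain ⟨γ, hγ, e⟩ := h.off.conj_trans (mem_pre.1 hx').2 hxne (mem_pre.1 hs').2 hs1
      obtain ⟨m, rfl⟩ := (act M).rangeRestrict_surjective γ
      have hmP : m ∈ normalizer ((Sy : Subgroup M) : Set M) := by
        have hmn := (h.mem_normalizer_iff_act m.2).2 hγ
        rw [← hP] at hmn
        exact mem_normalizer_iff.2 fun y => mem_normalizer_iff.1 hmn y
      have h1 : m * x * m⁻¹ ∈ X := (mem_normalizer_iff.1 (hXn hmP) x).1 hxX
      have h2 : ((m * x * m⁻¹)⁻¹ * s : M) ∈ pCore 2 M := (hcore _).2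
        ((act_eq_one h.hG h.max).1 (by
          rw [map_mul, map_inv, map_mul, map_mul, map_inv, e, inv_mul_cancel]))
      have h3 := X.mul_mem h1 (hQX h2)
      rwa [mul_inv_cancel_left] at h3
  have hmap : ∀ T : Subgroup P, (T.map (Subgroup.inclusion hPM)).map M.subtype =
      T.map P.subtype := fun T => by
    rw [Subgroup.map_map]; rfl
  have key : ∀ T : Subgroup P, (T.map (Subgroup.inclusion hPM)).Normal →
      M ≤ normalizer (T.map P.subtype : Set G) := fun T hT => by
    rw [← hmap T]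
    intro m hm
    refine mem_normalizer_of_map_conj ?_
    ext y
    constructor
    · rintro ⟨_, ⟨t, ht, rfl⟩, rfl⟩
      exact ⟨_, hT.conj_mem t ht ⟨m, hm⟩, rfl⟩
    · rintro ⟨t, ht, rfl⟩
      exact ⟨_, ⟨_, hT.conj_mem t ht ⟨m, hm⟩⁻¹, rfl⟩,
        show m * (m⁻¹ * t * m⁻¹⁻¹) * m⁻¹ = (t : G) by group⟩
  rcases hs.normal M (Subgroup.inclusion hPM) (Subgroup.inclusion_injective _) Sy
    (Subgroup.inclusion_range _).symm _ hyp with h1 | h1
  · exfalso
    obtain ⟨g, hg, hgn⟩ := h.exists_not_mem_normalizer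
    refine hs.ne₁ ((Subgroup.eq_bot_iff_forall _).2 fun z hz => Subtype.ext ?_)
    have hn := key _ h1
    have hzG : (z : G) ∈ S₁.map P.subtype := ⟨z, hz, rfl⟩
    obtain ⟨y, hy, ey⟩ := Subgroup.mem_map.1
      ((mem_normalizer_iff.1 (hn (inv_mem hg)) _).1 hzG)
    have hcen : ∀ w ∈ S₁, ∀ p ∈ P, Commute p (w : G) := fun w hw p hp =>
      congrArg Subtype.val (Subgroup.mem_center_iff.1 (hs.le₁ hw) ⟨p, hp⟩)
    obtain ⟨k, hk⟩ := hP2 z
    refine h.eq_one_of_commute_two hg hgn ⟨k, congrArg Subtype.val hk⟩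
      (fun p hp => hcen z hz p (hP ▸ hp)) fun p hp => ?_
    rw [← hP] at hp
    have h3 := (hcen y hy p hp).map (MulAut.conj g).toMonoidHom
    have ey' : (y : G) = g⁻¹ * z * g⁻¹⁻¹ := ey
    rw [ey'] at h3
    simp only [MulEquiv.coe_toMonoidHom, MulAut.conj_apply] at h3
    rwa [show g * (g⁻¹ * (z : G) * g⁻¹⁻¹) * g⁻¹ = z by group] at h3
  · exact key _ h1

/-- Class at most two, or a characteristic subgroup of `P` normal in every bad local over it. -/
theorem class_or_sol {P : Subgroup G} (hP : P = core M ⊔ A) :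
    (∀ a ∈ P, ∀ b ∈ P, ∀ c ∈ P, Commute ⁅a, b⁆ c) ∨
      ∃ S₁ S₂ : Subgroup P, PU2.Sol 2 P S₁ S₂ := by
  haveI : Fact (Nat.Prime 2) := ⟨Nat.prime_two⟩
  have hP2 : IsPGroup 2 P := hP ▸ h.sup_two
  by_cases h0 : PU2.S0Of 2 (⊤ : Subgroup P) = ⊥
  · refine Or.inl fun a ha b hb c hc => ?_
    rw [PU2.S0Of, if_pos rfl, sup_eq_bot_iff, commutator_eq_bot_iff_le_centralizer] at h0
    have h1 := mem_centralizer_iff.1 (h0.1 (PU2.comm_mem_Fr (p := 2)
      (mem_top (⟨a, ha⟩ : P)) (mem_top ⟨b, hb⟩))) ⟨c, hc⟩ (mem_top _)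
    exact (congrArg Subtype.val h1 :).symm
  · haveI : Nontrivial P := (Subgroup.nontrivial_iff_ne_bot _).2 fun e => h.out fun a ha => by
      rw [Subgroup.mem_bot.1 ((hP ▸ e : core M ⊔ A = ⊥).le (mem_sup_right ha))]
      exact one_mem _
    exact Or.inr (PU2.exists_sol_of_S0 hP2 (Or.inr h0))

/-- With class at most two, `D = V`. -/
theorem core_eq_vsub
    (hcl : ∀ a ∈ core M ⊔ A, ∀ b ∈ core M ⊔ A, ∀ c ∈ core M ⊔ A, Commute ⁅a, b⁆ c) :
    core M = vsub M := by
  obtain ⟨g, hg, hgn⟩ := h.exists_not_mem_normalizer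
  have htwo : ∀ d ∈ core M, ∃ k : ℕ, d ^ 2 ^ k = 1 := fun d hd => by
    obtain ⟨k, hk⟩ := core_two M ⟨d, hd⟩
    exact ⟨k, congrArg Subtype.val hk⟩
  have hgd : ∀ d ∈ core M, g⁻¹ * d * g ∈ core M := fun d hd => by
    simpa using conj_mem_core (M.inv_mem hg) hd
  -- a property of `z ∈ D` that passes to conjugates gives `z = 1`
  have hcomm : ∀ a ∈ core M, ∀ b ∈ core M, Commute a b := by
    intro a ha b hb
    have hz : ⁅a, b⁆ = 1 := by
      have hm : ⁅a, b⁆ ∈ core M := by
        rw [commutatorElement_def]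
        exact mul_mem (mul_mem (mul_mem ha hb) (inv_mem ha)) (inv_mem hb)
      refine h.eq_one_of_commute_two hg hgn (htwo _ hm)
        (fun p hp => (hcl a (mem_sup_left ha) b (mem_sup_left hb) p hp).symm) fun p hp => ?_
      have h1 := ((hcl _ (mem_sup_left (hgd a ha)) _ (mem_sup_left (hgd b hb)) p hp).symm).map
        (MulAut.conj g).toMonoidHom
      rw [map_commutatorElement] at h1
      simp only [MulEquiv.coe_toMonoidHom, MulAut.conj_apply] at h1
      rwa [show g * (g⁻¹ * a * g) * g⁻¹ = a by group,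
        show g * (g⁻¹ * b * g) * g⁻¹ = b by group] at h1
    exact commutatorElement_eq_one_iff_mul_comm.1 hz
  have hsq : ∀ d ∈ core M, ∀ p ∈ core M ⊔ A, Commute p (d * d) := by
    intro d hd
    suffices core M ⊔ A ≤ centralizer ({d * d} : Set G) from
      fun p hp => mem_centralizer_singleton_iff.1 (this hp)
    refine _root_.sup_le (fun e he => mem_centralizer_singleton_iff.2
      ((hcomm e he d hd).mul_right (hcomm e he d hd)).eq) fun a ha => ?_
    refine mem_centralizer_singleton_iff.2 ?_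
    -- `c = [a, d]` is an involution commuting with everything
    set c := ⁅a, d⁆ with hc
    have hca := hcl a (mem_sup_right ha) d (mem_sup_left hd) a (mem_sup_right ha)
    have hcd := hcl a (mem_sup_right ha) d (mem_sup_left hd) d (mem_sup_left hd)
    have haa : a * a = 1 := by rw [← pow_two]; exact h.elem.2 a ha
    have hai : a⁻¹ = a := inv_eq_of_mul_eq_one_right haa
    have he : a * d * a⁻¹ = c * d := by rw [hc, commutatorElement_def]; group
    have hc2 : c * c = 1 := by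
      have h1 : d = c * (c * d) := by
        calc d = a * (a * d * a⁻¹) * a⁻¹ := by rw [hai]; simp only [mul_assoc, haa, ← mul_assoc a a,
              one_mul, mul_one]
          _ = a * (c * d) * a⁻¹ := by rw [he]
          _ = a * c * (d * a⁻¹) := by group
          _ = c * a * (d * a⁻¹) := by rw [← hca.eq]
          _ = c * (a * d * a⁻¹) := by group
          _ = c * (c * d) := by rw [he]
      rw [← mul_assoc] at h1
      exact mul_eq_right.1 h1.symm
    have h2 : a * (d * d) * a⁻¹ = d * d := by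
      calc a * (d * d) * a⁻¹ = (a * d * a⁻¹) * (a * d * a⁻¹) := by group
        _ = c * (d * c) * d := by rw [he]; simp only [mul_assoc]
        _ = c * (c * d) * d := by rw [hcd.eq]
        _ = d * d := by rw [← mul_assoc c c, hc2, one_mul]
    exact mul_inv_eq_iff_eq_mul.1 h2
  refine le_antisymm (fun d hd => ⟨hd, fun e he => hcomm d hd e he, ?_⟩) (vsub_le_core M)
  refine h.eq_one_of_commute_two hg hgn (htwo _ (mul_mem hd hd)) (hsq d hd) fun p hp => ?_
  have h1 := (hsq _ (hgd d hd) p hp).map (MulAut.conj g).toMonoidHom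
  simp only [MulEquiv.coe_toMonoidHom, MulAut.conj_apply] at h1
  rwa [show g * (g⁻¹ * d * g * (g⁻¹ * d * g)) * g⁻¹ = d * d by group] at h1

/-- The order of `P` when `D = V`. -/
theorem card_sup_of_core (hD : core M = vsub M) :
    Nat.card (core M ⊔ A : Subgroup G) = Nat.card (wsub M A) ^ 3 ∧
      Nat.card A = Nat.card (wsub M A) ^ 2 := by
  refine ⟨by rw [h.card_sup, hD, h.card_vsub]; ring, ?_⟩
  rw [h.card_A_eq, hD, ← h.wsub_eq]
  ring

/-- Involutions of `P` lie in `V` or `A`. -/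
theorem commute_cases (hD : core M = vsub M) {v a : G} (hv : v ∈ vsub M) (ha : a ∈ A)
    (hva : Commute v a) : v ∈ A ∨ a ∈ vsub M := by
  by_cases hav : a ∈ vsub M
  · exact Or.inr hav
  refine Or.inl (h.wsub_le.1 ⟨hv, ?_⟩)
  have hne : (act M).rangeRestrict ⟨a, h.le ha⟩ ≠ 1 := fun e =>
    hav (hD ▸ (act_eq_one (m := ⟨a, h.le ha⟩) h.hG h.max).1 e)
  have h1 : (act M).rangeRestrict ⟨a, h.le ha⟩ • (⟨v, hv⟩ : vsub M) = ⟨v, hv⟩ :=
    act_smul_eq_iff.2 hva.symm
  have h2 : (⟨v, hv⟩ : vsub M) ∈ Module.fixV (img M A) := by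
    rw [← h.off.fix_eq (mem_img.2 ⟨_, ha, rfl⟩) hne]
    exact h1
  exact (mem_fixV_img h.le).1 h2

theorem sq_cases (hD : core M = vsub M) {x : G} (hx : x ∈ core M ⊔ A) (hx2 : x * x = 1) :
    x ∈ vsub M ∨ x ∈ A := by
  rw [hD, sup_comm, Coprime.mem_sup_iff_of_le_normalizer'
    (h.le.trans (le_normalizer_vsub M))] at hx
  obtain ⟨v, hv, a, ha, rfl⟩ := hx
  have hai : a⁻¹ = a := inv_eq_of_mul_eq_one_right (by rw [← pow_two]; exact h.elem.2 a ha)
  have hvi : v⁻¹ = v := inv_eq_of_mul_eq_one_right (vsub_sq hv)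
  have h1 : Commute v a := by
    have h2 : (v * a)⁻¹ = v * a := inv_eq_of_mul_eq_one_right hx2
    rw [mul_inv_rev, hai, hvi] at h2
    exact h2.symm
  rcases h.commute_cases hD hv ha h1 with h3 | h3
  · exact Or.inr (mul_mem h3 ha)
  · exact Or.inl (mul_mem hv h3)

/-- Two bad maximal 2-locals over `P` of class at most two form a pair. -/
theorem pair {M₂ A₂ : Subgroup G} (h₂ : Sett M₂ A₂)
    (hP : core M ⊔ A = core M₂ ⊔ A₂) (hne : M ≠ M₂)
    (hcl : ∀ a ∈ core M ⊔ A, ∀ b ∈ core M ⊔ A, ∀ c ∈ core M ⊔ A, Commute ⁅a, b⁆ c) :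
    Pair (Nat.card (wsub M A)) (core M ⊔ A) (vsub M) (vsub M₂) := by
  have hD := h.core_eq_vsub hcl
  have hD₂ := h₂.core_eq_vsub (hP ▸ hcl)
  obtain ⟨hcP, hcA⟩ := h.card_sup_of_core hD
  obtain ⟨hcP₂, -⟩ := h₂.card_sup_of_core hD₂
  have hq : Nat.card (wsub M₂ A₂) = Nat.card (wsub M A) :=
    Nat.pow_left_injective (by norm_num : 3 ≠ 0) (by
      show Nat.card (wsub M₂ A₂) ^ 3 = Nat.card (wsub M A) ^ 3
      rw [← hcP₂, ← hcP, hP])
  have hcV₂ : Nat.card (vsub M₂) = Nat.card (wsub M A) ^ 2 := by rw [h₂.card_vsub, hq]; ring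
  have hV₂P : vsub M₂ ≤ core M ⊔ A := hP ▸ (vsub_le_core M₂).trans le_sup_left
  have hcV : Nat.card (vsub M) = Nat.card (wsub M A) ^ 2 := by rw [h.card_vsub]; ring
  -- `vsub M₂ = A`
  have hA : vsub M₂ = A := by
    by_cases hle : vsub M₂ ≤ A
    · exact Subgroup.eq_of_le_of_card_ge hle (by rw [hcA, hcV₂])
    exfalso
    obtain ⟨x, hx, hxA⟩ := SetLike.not_le_iff_exists.1 hle
    have hxV : x ∈ vsub M := (h.sq_cases hD (hV₂P hx) (vsub_sq hx)).resolve_right hxA
    have hle' : vsub M₂ ≤ vsub M := fun y hy => by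
      rcases h.sq_cases hD (hV₂P hy) (vsub_sq hy) with h1 | h1
      · exact h1
      rcases h.sq_cases hD (hV₂P (mul_mem hx hy)) (vsub_sq (mul_mem hx hy)) with h2 | h2
      · have := mul_mem (inv_mem hxV) h2
        rwa [inv_mul_cancel_left] at this
      · refine absurd ?_ hxA
        have := mul_mem h2 (inv_mem h1)
        rwa [mul_inv_cancel_right] at this
    have heq := Subgroup.eq_of_le_of_card_ge hle' (by rw [hcV, hcV₂])
    exact hne (by rw [← normalizer_vsub h.max, ← normalizer_vsub h₂.max, heq])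
  have hN := normalizer_vsub h.max
  have hN₂ := normalizer_vsub h₂.max
  refine
    { two_le := h.two_le
      P_two := h.sup_two
      elemV := vsub_elem M
      elemA := vsub_elem M₂
      ne := fun e => hne (by rw [← hN, ← hN₂, e])
      leV := (vsub_le_core M).trans le_sup_left
      leA := hV₂P
      cardP := hcP
      cardV := hcV
      cardA := hcV₂
      cardInf := by rw [hA, inf_comm, ← h.wsub_eq]
      eq_mul := fun x hx => ?_
      sq_cases := fun x hx hx2 => hA ▸ h.sq_cases hD hx hx2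
      comm_cases := fun v hv a ha hc => ?_
      centV := (centralizer_vsub h.hG h.max).trans hD
      centA := (centralizer_vsub h.hG h₂.max).trans hD₂
      normV := h.sup_le.trans (le_normalizer_vsub M)
      normA := by rw [hP]; exact h₂.sup_le.trans (le_normalizer_vsub M₂)
      maxV := hN.symm ▸ h.max
      maxA := hN₂.symm ▸ h₂.max
      cardNV := by rw [hN, h.card_M, hD, hcV]; ring
      cardNA := by rw [hN₂, h₂.card_M, hD₂, hcV₂, hq]; ring
      cardBV := by rw [hN, h.card_inf_normalizer, hD, hcV]; ring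
      cardBA := by rw [hN₂, hP, h₂.card_inf_normalizer, hD₂, hcV₂, hq]; ring
      overV := fun Y h1 h2 => by rw [hN] at h2 ⊢; exact h.overgroup h1 h2
      overA := fun Y h1 h2 => by rw [hN₂] at h2 ⊢; rw [hP] at h1 ⊢; exact h₂.overgroup h1 h2
      interV := fun g hg hgn => by rw [hN] at hg; exact (h.inter hg hgn).trans hD
      interA := fun g hg hgn => by
        rw [hN₂] at hg; rw [hP] at hgn ⊢; exact (h₂.inter hg hgn).trans hD₂
      transV := fun x hx y hy hx1 hy1 => by rw [hN]; exact h.trans_vsub hx hy hx1 hy1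
      transA := fun x hx y hy hx1 hy1 => by rw [hN₂]; exact h₂.trans_vsub hx hy hx1 hy1 }
  · rw [hD, sup_comm, Coprime.mem_sup_iff_of_le_normalizer'
      (h.le.trans (le_normalizer_vsub M))] at hx
    obtain ⟨v, hv, a, ha, rfl⟩ := hx
    exact ⟨v, hv, a, hA.ge ha, rfl⟩
  · rw [hA] at ha ⊢
    exact h.commute_cases hD hv ha hc

end Sett

end Cfsg.Agent.CIT
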