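import Cfsg.Agent.Lib.CIT.Local

/-!
# The Sylow 2-subgroup `P = D A` of a bad maximal 2-local
-/

set_option autoImplicit false
set_option linter.style.haveILetI false
set_option linter.unusedSectionVars false

namespace Cfsg.Agent.CIT

open Subgroup
open Cfsg (IsElementaryAbelian)

variable {G : Type*} [Group G] [Finite G]

/-- The preimage in `G` of a subgroup of `M / D`. -/
def pre (M : Subgroup G) (Y : Subgroup (Img M)) : Subgroup G :=
  (Y.comap (act M).rangeRestrict).map M.subtype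

theorem mem_pre {M : Subgroup G} {Y : Subgroup (Img M)} {g : G} :
    g ∈ pre M Y ↔ ∃ hg : g ∈ M, (act M).rangeRestrict ⟨g, hg⟩ ∈ Y := by
  constructor
  · rintro ⟨m, hm, rfl⟩
    exact ⟨m.2, hm⟩
  · rintro ⟨hg, h⟩
    exact ⟨⟨g, hg⟩, h, rfl⟩

theorem pre_le (M : Subgroup G) (Y : Subgroup (Img M)) : pre M Y ≤ M := Subgroup.map_subtype_le _

namespace Sett

variable {M A : Subgroup G} (h : Sett M A)
include h

theorem card_pre (Y : Subgroup (Img M)) :
    Nat.card (pre M Y) = Nat.card (core M) * Nat.card Y := by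
  have hk : Nat.card (act M).rangeRestrict.ker = Nat.card (core M) := by
    refine Nat.card_eq_of_bijective
      (fun m => (⟨((m : M) : G), (act_eq_one h.hG h.max).1 m.2⟩ : core M))
      ⟨fun a b e => Subtype.ext (Subtype.ext (congrArg (fun z : core M => (z : G)) e)), ?_⟩
    rintro ⟨d, hd⟩
    exact ⟨⟨⟨d, core_le M hd⟩, (act_eq_one h.hG h.max).2 hd⟩, rfl⟩
  rw [pre, Subgroup.card_map_of_injective M.subtype_injective]
  refine Nat.eq_of_mul_eq_mul_right (Nat.pos_of_ne_zero (Subgroup.index_ne_zero_of_finite (H := Y)))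
    ?_
  rw [mul_assoc, card_mul_index]
  conv_lhs => rw [← index_comap_of_surjective Y (act M).rangeRestrict_surjective, card_mul_index]
  rw [← hk, ← (act M).rangeRestrict.ker.card_mul_index, index_ker,
    MonoidHom.range_eq_top.2 (act M).rangeRestrict_surjective, card_top]

theorem core_le_pre (Y : Subgroup (Img M)) : core M ≤ pre M Y := fun d hd =>
  mem_pre.2 ⟨core_le M hd, by rw [(act_eq_one h.hG h.max).2 hd]; exact one_mem Y⟩

/-- A subgroup of `M` over `O₂(M)` is the preimage of its image. -/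
theorem eq_pre {Y : Subgroup G} (hD : core M ≤ Y) (hY : Y ≤ M) : Y = pre M (img M Y) := by
  refine le_antisymm (fun y hy => mem_pre.2 ⟨hY hy, mem_img.2 ⟨⟨y, hY hy⟩, hy, rfl⟩⟩) ?_
  rintro y hy
  obtain ⟨hyM, hy⟩ := mem_pre.1 hy
  obtain ⟨m, hm, e⟩ := mem_img.1 hy
  have h1 : ((m⁻¹ * ⟨y, hyM⟩ : M) : G) ∈ core M :=
    (act_eq_one h.hG h.max).1 (by rw [map_mul, map_inv, e, inv_mul_cancel])
  have h2 := Y.mul_mem hm (hD h1)
  rwa [Subgroup.coe_mul, Subgroup.coe_inv, mul_inv_cancel_left] at h2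

theorem sup_eq_pre : core M ⊔ A = pre M (img M A) := by
  refine le_antisymm (sup_le (h.core_le_pre _) fun a ha =>
    mem_pre.2 ⟨h.le ha, mem_img.2 ⟨⟨a, h.le ha⟩, ha, rfl⟩⟩) ?_
  rintro y hy
  obtain ⟨hyM, hy⟩ := mem_pre.1 hy
  obtain ⟨m, hm, e⟩ := mem_img.1 hy
  have h1 : ((⟨y, hyM⟩ * m⁻¹ : M) : G) ∈ core M :=
    (act_eq_one h.hG h.max).1 (by rw [map_mul, map_inv, e, mul_inv_cancel])
  have h2 := mul_mem (mem_sup_left (T := A) h1) (mem_sup_right hm)
  rwa [Subgroup.coe_mul, Subgroup.coe_inv, inv_mul_cancel_right] at h2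

theorem core_le_sup : core M ≤ core M ⊔ A := le_sup_left

theorem sup_le : core M ⊔ A ≤ M := _root_.sup_le (core_le M) h.le

theorem card_sup : Nat.card (core M ⊔ A : Subgroup G) = Nat.card (core M) * Nat.card (wsub M A) := by
  rw [h.sup_eq_pre, h.card_pre, h.card_img]

theorem card_M : Nat.card M = Nat.card (core M) *
    ((Nat.card (wsub M A) + 1) * (Nat.card (wsub M A) * (Nat.card (wsub M A) - 1))) := by
  have h1 := h.card_pre ⊤
  rw [card_top, h.off.card_normalizer_group.2, card_fixV_img h.le] at h1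
  have h2 : pre M ⊤ = M := le_antisymm (pre_le M _) fun g hg => mem_pre.2 ⟨hg, mem_top _⟩
  rwa [h2] at h1

theorem card_two_pow : ∃ n : ℕ, Nat.card (wsub M A) = 2 ^ n := by
  haveI : Fact (Nat.Prime 2) := ⟨Nat.prime_two⟩
  exact IsPGroup.iff_card.1 ((vsub_two M).to_le inf_le_left)

theorem sup_two : IsPGroup 2 (core M ⊔ A : Subgroup G) := by
  haveI : Fact (Nat.Prime 2) := ⟨Nat.prime_two⟩
  obtain ⟨n, hn⟩ := h.card_two_pow
  obtain ⟨k, hk⟩ := IsPGroup.iff_card.1 (core_two M)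
  exact IsPGroup.of_card (n := k + n) (by rw [h.card_sup, hk, hn, pow_add])

theorem img_two {Y : Subgroup G} (hY : IsPGroup 2 Y) : IsPGroup 2 (img M Y) :=
  (hY.comap_of_injective M.subtype M.subtype_injective).map _

/-- `P` is a Sylow 2-subgroup of `M`. -/
theorem eq_sup_of_two {R : Subgroup G} (hR : IsPGroup 2 R) (hRM : R ≤ M)
    (hle : core M ⊔ A ≤ R) : R = core M ⊔ A := by
  refine le_antisymm ?_ hle
  rw [h.sup_eq_pre, ← h.off.le_of_two (h.img_two hR) (Subgroup.map_mono fun m hm =>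
    hle (mem_sup_right hm))]
  exact (h.eq_pre (le_sup_left.trans hle) hRM).le

/-- Every elementary abelian subgroup of largest order outside `O₂(M)` gives a setting. -/
theorem of_largest {B : Subgroup G} (hBM : B ≤ M) (hB : IsElementaryAbelian 2 B)
    (hcard : Nat.card A ≤ Nat.card B) (hout : ¬ B ≤ core M) : Sett M B := by
  refine ⟨h.hG, h.max, hBM, hB, fun C hC hCe => (h.largest C hC hCe).trans hcard, hout, ?_⟩
  -- the image of `B` lies in a conjugate of the image of `A`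
  have hAtwo := h.off.two_isPGroup
  obtain ⟨P₀, hP₀⟩ := hAtwo.exists_le_sylow
  obtain ⟨P, hP⟩ := (h.img_two (PGroup.isPGroup_of_elementaryAbelian hB)).exists_le_sylow
  haveI : Fact (Nat.Prime 2) := ⟨Nat.prime_two⟩
  obtain ⟨g, hg⟩ := MulAction.exists_smul_eq (Img M) P₀ P
  subst hg
  have hmem : ∀ b ∈ B, ∀ hb : b ∈ M, g⁻¹ * (act M).rangeRestrict ⟨b, hb⟩ * g ∈ img M A := by
    intro b hb hbM
    obtain ⟨z, hz, e⟩ := Subgroup.mem_map.1 (show (act M).rangeRestrict ⟨b, hbM⟩ ∈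
      (P₀ : Subgroup (Img M)).map (MulAut.conj g).toMonoidHom from hP ⟨⟨b, hbM⟩, hb, rfl⟩)
    have e' : g * z * g⁻¹ = (act M).rangeRestrict ⟨b, hbM⟩ := e
    rw [← e', show g⁻¹ * (g * z * g⁻¹) * g = z by group, ← h.off.le_of_two P₀.2 hP₀]
    exact hz
  intro a ha v hv
  refine mem_centralizer_iff.2 fun b hb => ?_
  set w : vsub M := (act M).rangeRestrict ⟨a, hBM ha⟩ • ⟨v, hv⟩ * ⟨v, hv⟩ with hw
  have h1 : (act M).rangeRestrict ⟨b, hBM hb⟩ • w = w := by
    have h2 := h.off.quad _ (hmem a ha (hBM ha)) _ (hmem b hb (hBM hb)) (g⁻¹ • ⟨v, hv⟩)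
    simp only [mul_smul, smul_inv_smul, ← smul_mul', smul_left_cancel_iff] at h2
    exact h2
  have h3 := act_smul_eq_iff.1 h1
  rw [hw, Subgroup.coe_mul, act_smul] at h3
  exact h3.eq

/-- `N_M(P)` is the preimage of the stabiliser of the point `W`. -/
theorem inf_normalizer_eq : M ⊓ normalizer ((core M ⊔ A : Subgroup G) : Set G) =
    pre M (normalizer (img M A : Set (Img M))) := by
  ext m
  rw [mem_inf, mem_pre]
  have key : ∀ hm : m ∈ M, ∀ x : G, x ∈ core M ⊔ A → (m * x * m⁻¹ ∈ core M ⊔ A ↔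
      ∀ hx : x ∈ M, (act M).rangeRestrict ⟨m, hm⟩ * (act M).rangeRestrict ⟨x, hx⟩ *
        ((act M).rangeRestrict ⟨m, hm⟩)⁻¹ ∈ img M A) := by
    intro hm x hx
    rw [h.sup_eq_pre, mem_pre]
    constructor
    · rintro ⟨hmx, h1⟩ hxM
      rw [← map_inv, ← map_mul, ← map_mul]
      exact h1
    · intro h1
      refine ⟨mul_mem (mul_mem hm (h.sup_le hx)) (inv_mem hm), ?_⟩
      have h2 := h1 (h.sup_le hx)
      rw [← map_inv, ← map_mul, ← map_mul] at h2
      exact h2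
  constructor
  · rintro ⟨hm, hn⟩
    refine ⟨hm, ?_⟩
    have hsub : ∀ n ∈ img M A, (act M).rangeRestrict ⟨m, hm⟩ * n *
        ((act M).rangeRestrict ⟨m, hm⟩)⁻¹ ∈ img M A := by
      intro n hn'
      obtain ⟨x, hx, rfl⟩ := mem_img.1 hn'
      exact (key hm x (mem_sup_right hx)).1 ((mem_normalizer_iff.1 hn x).1 (mem_sup_right hx)) x.2
    refine mem_normalizer_iff.2 fun n => ⟨hsub n, fun hn' => ?_⟩
    obtain ⟨⟨a, ha⟩, e⟩ := Finite.surjective_of_injective
      (f := fun a : img M A => (⟨_, hsub a a.2⟩ : img M A))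
      (fun a b e => Subtype.ext (mul_left_cancel (mul_right_cancel (congrArg Subtype.val e :))))
      ⟨_, hn'⟩
    rw [← mul_left_cancel (mul_right_cancel (congrArg Subtype.val e :))]
    exact ha
  · rintro ⟨hm, hn⟩
    refine ⟨hm, mem_normalizer_iff.2 fun x => ?_⟩
    have hfwd : ∀ x ∈ core M ⊔ A, m * x * m⁻¹ ∈ core M ⊔ A := by
      intro x hx
      refine (key hm x hx).2 fun hxM => (mem_normalizer_iff.1 hn _).1 ?_
      rw [h.sup_eq_pre, mem_pre] at hx
      exact hx.2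
    refine ⟨hfwd x, fun hx => ?_⟩
    obtain ⟨⟨y, hy⟩, e⟩ := Finite.surjective_of_injective
      (f := fun a : (core M ⊔ A : Subgroup G) => (⟨_, hfwd a a.2⟩ : (core M ⊔ A : Subgroup G)))
      (fun a b e => Subtype.ext (mul_left_cancel (mul_right_cancel (congrArg Subtype.val e :))))
      ⟨_, hx⟩
    rw [← mul_left_cancel (mul_right_cancel (congrArg Subtype.val e :))]
    exact hy

theorem mem_normalizer_iff_act {m : G} (hm : m ∈ M) :
    m ∈ normalizer ((core M ⊔ A : Subgroup G) : Set G) ↔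
      (act M).rangeRestrict ⟨m, hm⟩ ∈ normalizer (img M A : Set (Img M)) := by
  have := SetLike.ext_iff.1 h.inf_normalizer_eq m
  rw [mem_inf, mem_pre] at this
  exact ⟨fun hn => (this.1 ⟨hm, hn⟩).2, fun hn => (this.2 ⟨hm, hn⟩).2⟩

theorem card_inf_normalizer :
    Nat.card (M ⊓ normalizer ((core M ⊔ A : Subgroup G) : Set G) : Subgroup G) =
      Nat.card (core M) * (Nat.card (wsub M A) * (Nat.card (wsub M A) - 1)) := by
  rw [h.inf_normalizer_eq, h.card_pre, h.off.card_normalizer_group.1, card_fixV_img h.le]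

theorem exists_not_mem_normalizer :
    ∃ g ∈ M, g ∉ normalizer ((core M ⊔ A : Subgroup G) : Set G) := by
  obtain ⟨x, hx⟩ := h.off.exists_not_normalizer
  obtain ⟨⟨g, hg⟩, rfl⟩ := (act M).rangeRestrict_surjective x
  exact ⟨g, hg, fun hn => hx ((h.mem_normalizer_iff_act hg).1 hn)⟩

/-- Two Sylow 2-subgroups of `M` meet in `O₂(M)`. -/
theorem inter {g : G} (hg : g ∈ M) (hgn : g ∉ normalizer ((core M ⊔ A : Subgroup G) : Set G)) :
    (core M ⊔ A) ⊓ (core M ⊔ A).map (MulAut.conj g).toMonoidHom = core M := by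
  refine le_antisymm ?_ (le_inf le_sup_left fun d hd => ⟨g⁻¹ * d * g,
    mem_sup_left (by simpa using conj_mem_core (M.inv_mem hg) hd),
    show g * (g⁻¹ * d * g) * g⁻¹ = d by group⟩)
  rintro x ⟨hx, y, hy, rfl⟩
  have hyM := h.sup_le hy
  have hxM : g * y * g⁻¹ ∈ M := mul_mem (mul_mem hg hyM) (inv_mem hg)
  refine (act_eq_one (m := ⟨g * y * g⁻¹, hxM⟩) h.hG h.max).1 ?_
  by_contra hne
  rw [SetLike.mem_coe, h.sup_eq_pre, mem_pre] at hy
  obtain ⟨_, hy⟩ := hy
  have hx' : g * y * g⁻¹ ∈ pre M (img M A) := h.sup_eq_pre ▸ hx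
  obtain ⟨_, hx'⟩ := mem_pre.1 hx'
  have hconj : ((act M).rangeRestrict ⟨g, hg⟩)⁻¹ * (act M).rangeRestrict ⟨g * y * g⁻¹, hxM⟩ *
      (act M).rangeRestrict ⟨g, hg⟩ = (act M).rangeRestrict ⟨y, hyM⟩ := by
    rw [← map_inv, ← map_mul, ← map_mul]
    exact congrArg _ (Subtype.ext (show g⁻¹ * (g * y * g⁻¹) * g = y by group))
  refine h.off.conj_not_mem hx' hne (fun hn => hgn ((h.mem_normalizer_iff_act hg).2 hn)) ?_
  rw [hconj]
  exact le_normalizer hy

/-- The overgroups of `P` in `M`. -/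
theorem overgroup {Y : Subgroup G} (hPY : core M ⊔ A ≤ Y) (hYM : Y ≤ M) :
    Y ≤ normalizer ((core M ⊔ A : Subgroup G) : Set G) ∨ Y = M := by
  rcases h.off.overgroup (Y := img M Y) (Subgroup.map_mono fun m hm => hPY (mem_sup_right hm)) with
    h1 | h1
  · exact Or.inl fun y hy => (h.mem_normalizer_iff_act (hYM hy)).2
      (h1 (mem_img.2 ⟨⟨y, hYM hy⟩, hy, rfl⟩))
  · refine Or.inr (le_antisymm hYM fun m hm => ?_)
    rw [h.eq_pre (le_sup_left.trans hPY) hYM, h1]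
    exact mem_pre.2 ⟨hm, mem_top _⟩

/-- A 2-element commuting with two Sylow 2-subgroups of `M` is trivial. -/
theorem eq_one_of_commute_two {g z : G} (hg : g ∈ M)
    (hgn : g ∉ normalizer ((core M ⊔ A : Subgroup G) : Set G)) (hz : ∃ k : ℕ, z ^ 2 ^ k = 1)
    (h1 : ∀ p ∈ core M ⊔ A, Commute p z) (h2 : ∀ p ∈ core M ⊔ A, Commute (g * p * g⁻¹) z) :
    z = 1 := by
  by_contra hne
  obtain ⟨k, hk⟩ := hz
  have hC : IsPGroup 2 (centralizer ((zpowers z : Subgroup G) : Set G)) := by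
    refine isPGroup_centralizer h.hG (fun y => ⟨k, ?_⟩) (zpowers_ne_bot.2 hne)
    obtain ⟨i, hi⟩ := mem_zpowers_iff.1 y.2
    refine Subtype.ext ?_
    rw [Subgroup.coe_pow, Subgroup.coe_one, ← hi, ← zpow_natCast, ← zpow_mul, mul_comm, zpow_mul,
      zpow_natCast, hk, one_zpow]
  have hmem : ∀ p : G, Commute p z → p ∈ centralizer ((zpowers z : Subgroup G) : Set G) := by
    intro p hp
    refine mem_centralizer_iff.2 fun y hy => ?_
    obtain ⟨i, rfl⟩ := mem_zpowers_iff.1 hy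
    exact (hp.zpow_right i).eq.symm
  set R := (core M ⊔ A) ⊔ (core M ⊔ A).map (MulAut.conj g).toMonoidHom
  have hRM : R ≤ M := by
    refine _root_.sup_le h.sup_le ?_
    rintro _ ⟨p, hp, rfl⟩
    exact mul_mem (mul_mem hg (h.sup_le hp)) (inv_mem hg)
  have hRC : R ≤ centralizer ((zpowers z : Subgroup G) : Set G) := by
    refine _root_.sup_le (fun p hp => hmem p (h1 p hp)) ?_
    rintro _ ⟨p, hp, rfl⟩
    exact hmem _ (h2 p hp)
  have hR := h.eq_sup_of_two (hC.to_le hRC) hRM le_sup_left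
  refine hgn (mem_normalizer_iff.2 fun x => ?_)
  have hsub : ∀ p ∈ core M ⊔ A, g * p * g⁻¹ ∈ core M ⊔ A := fun p hp => by
    rw [← hR]; exact mem_sup_right ⟨p, hp, rfl⟩
  refine ⟨hsub x, fun hx => ?_⟩
  obtain ⟨⟨y, hy⟩, e⟩ := Finite.surjective_of_injective
    (f := fun a : (core M ⊔ A : Subgroup G) => (⟨_, hsub a a.2⟩ : (core M ⊔ A : Subgroup G)))
    (fun a b e => Subtype.ext (mul_left_cancel (mul_right_cancel (congrArg Subtype.val e :))))
    ⟨_, hx⟩
  rw [← mul_left_cancel (mul_right_cancel (congrArg Subtype.val e :))]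
  exact hy

/-- `P` centralises `W`. -/
theorem commute_wsub {p w : G} (hp : p ∈ core M ⊔ A) (hw : w ∈ wsub M A) : Commute p w := by
  have hle : core M ⊔ A ≤ centralizer ({w} : Set G) :=
    _root_.sup_le (fun d hd => mem_centralizer_singleton_iff.2 (vsub_commute hw.1 hd).symm.eq)
      fun a ha => mem_centralizer_singleton_iff.2 (mem_centralizer_iff.1 hw.2 a ha)
  exact mem_centralizer_singleton_iff.1 (hle hp)

/-- `M` is transitive on the involutions of `V`. -/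
theorem trans_vsub {x y : G} (hx : x ∈ vsub M) (hy : y ∈ vsub M) (hx1 : x ≠ 1) (hy1 : y ≠ 1) :
    ∃ g ∈ M, g * x * g⁻¹ = y := by
  obtain ⟨γ, hγ⟩ := h.off.trans_V (v := ⟨x, hx⟩) (w := ⟨y, hy⟩)
    (fun e => hx1 (congrArg Subtype.val e)) fun e => hy1 (congrArg Subtype.val e)
  obtain ⟨⟨g, hg⟩, rfl⟩ := (act M).rangeRestrict_surjective γ
  exact ⟨g, hg, congrArg Subtype.val hγ⟩

/-- A torus in `N_M(P)`. -/
theorem exists_torus : ∃ T : Subgroup G,
    T ≤ M ⊓ normalizer ((core M ⊔ A : Subgroup G) : Set G) ∧ Odd (Nat.card T) ∧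
      Nat.card T + 1 = Nat.card (wsub M A) := by
  set P := core M ⊔ A with hP
  set B := M ⊓ normalizer (P : Set G) with hB
  have hPB : P ≤ B := le_inf h.sup_le le_normalizer
  haveI : (P.subgroupOf B).Normal := (normal_subgroupOf_iff_le_normalizer hPB).2 inf_le_right
  have hq := h.two_le
  obtain ⟨n, hn⟩ := h.card_two_pow
  haveI : Fact (Nat.Prime 2) := ⟨Nat.prime_two⟩
  obtain ⟨k, hk⟩ := IsPGroup.iff_card.1 h.sup_two
  have hcP : Nat.card (P.subgroupOf B) = Nat.card P :=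
    Nat.card_congr (subgroupOfEquivOfLe hPB).toEquiv
  have hidx : (P.subgroupOf B).index = Nat.card (wsub M A) - 1 := by
    refine Nat.eq_of_mul_eq_mul_left (Nat.card_pos (α := P)) ?_
    rw [← hcP, card_mul_index, hcP, hB, h.card_inf_normalizer, hP, h.card_sup, mul_assoc]
  have hodd : Odd (Nat.card (wsub M A) - 1) := by
    rcases n with _ | n
    · rw [hn, pow_zero] at hq; omega
    · refine ⟨2 ^ n - 1, ?_⟩
      have := Nat.one_le_two_pow (n := n)
      rw [hn, pow_succ]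
      omega
  obtain ⟨T, hT⟩ := Subgroup.exists_right_complement'_of_coprime (N := P.subgroupOf B)
    (by rw [hcP, hk, hidx]; exact Nat.Coprime.pow_left k (Nat.coprime_two_left.2 hodd))
  have hTc : Nat.card T = Nat.card (wsub M A) - 1 := by
    refine Nat.eq_of_mul_eq_mul_left (Nat.card_pos (α := P.subgroupOf B)) ?_
    rw [hT.card_mul, ← hidx, card_mul_index]
  refine ⟨T.map B.subtype, Subgroup.map_subtype_le _, ?_, ?_⟩
  · rw [Subgroup.card_map_of_injective B.subtype_injective, hTc]; exact hodd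
  · rw [Subgroup.card_map_of_injective B.subtype_injective, hTc]; omega

/-- An element exchanging `W` with the second point fixed by a torus. -/
theorem exists_swap {T : Subgroup G}
    (hT : T ≤ M ⊓ normalizer ((core M ⊔ A : Subgroup G) : Set G)) (hodd : Odd (Nat.card T))
    (hcard : Nat.card T + 1 = Nat.card (wsub M A)) :
    (∀ v ∈ wsub M A, ∀ w ∈ wsub M A, v ≠ 1 → w ≠ 1 → ∃ t ∈ T, t * v * t⁻¹ = w) ∧
    (∀ s ∈ T, ∀ t ∈ T, ∀ v ∈ vsub M, s * (t * v * t⁻¹) * s⁻¹ = t * (s * v * s⁻¹) * t⁻¹) ∧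
    ∃ g ∈ M, ∃ a ∈ A,
      (∀ w ∈ wsub M A, a * (g * w * g⁻¹) * a⁻¹ * (g * w * g⁻¹) = w) ∧
      (∀ t ∈ T, ∀ v ∈ vsub M, g * (t * v * t⁻¹) * g⁻¹ = t⁻¹ * (g * v * g⁻¹) * t) ∧
      ∀ v ∈ vsub M, ∃ w ∈ wsub M A, ∃ w' ∈ wsub M A, v = w * (g * w' * g⁻¹) := by
  set r := (act M).rangeRestrict with hr
  have hTM : T ≤ M := hT.trans inf_le_left
  -- the image of `T` is a two-point stabiliser
  have hTimg : img M T ≤ normalizer (img M A : Set (Img M)) := by
    rintro _ ⟨t, ht, rfl⟩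
    exact (h.mem_normalizer_iff_act t.2).1 (hT ht).2
  let f : T → img M T := fun t => ⟨r ⟨t, hTM t.2⟩, mem_img.2 ⟨_, t.2, rfl⟩⟩
  have hf : Function.Bijective f := by
    refine ⟨fun s t e => ?_, fun y => ?_⟩
    · have e1 : r ⟨s, hTM s.2⟩ = r ⟨t, hTM t.2⟩ := congrArg Subtype.val e
      have h1 : ((⟨s, hTM s.2⟩⁻¹ * ⟨t, hTM t.2⟩ : M) : G) ∈ core M :=
        (act_eq_one h.hG h.max).1 (by rw [map_mul, map_inv, ← hr, e1, inv_mul_cancel])
      obtain ⟨k, hk⟩ := core_two M ⟨_, h1⟩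
      have h2 := congrArg Subtype.val hk
      simp only [Subgroup.coe_pow, Subgroup.coe_mul, Subgroup.coe_inv, Subgroup.coe_one] at h2
      exact Subtype.ext (inv_mul_eq_one.1 (eq_one_of_odd_of_two_pow
        (hodd.of_dvd_nat (T.orderOf_dvd_natCard (mul_mem (inv_mem s.2) t.2))) h2))
    · obtain ⟨m, hm, e⟩ := mem_img.1 y.2
      exact ⟨⟨m, hm⟩, Subtype.ext e⟩
  have hcimg : Nat.card (img M T) = Nat.card T := (Nat.card_eq_of_bijective f hf).symm
  obtain ⟨x, hx, hxT⟩ := h.off.exists_le_tor (hcimg ▸ hodd) hTimg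
  obtain ⟨hcT, u, huu, huN, -, hinv, a, ha, -, hau⟩ := h.off.torus hx
  rw [card_fixV_img h.le] at hcT
  have heq : img M T = Module.tor (img M A) x :=
    Subgroup.eq_of_le_of_card_ge hxT (by rw [hcimg]; omega)
  obtain ⟨a, haA, rfl⟩ := mem_img.1 ha
  obtain ⟨⟨g, hg⟩, rfl⟩ := (act M).rangeRestrict_surjective u
  have htor : ∀ t ∈ T, ∀ ht : t ∈ M, r ⟨t, ht⟩ ∈ Module.tor (img M A) x := fun t ht htM =>
    heq ▸ mem_img.2 ⟨⟨t, htM⟩, ht, rfl⟩
  have hW : ∀ w (hw : w ∈ wsub M A),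
      (⟨w, hw.1⟩ : vsub M) ∈ Module.fixV (img M A) := fun w hw => (mem_fixV_img h.le).2 hw.2
  refine ⟨fun v hv w hw hv1 hw1 => ?_, fun s hs t ht v hv => ?_, g, hg, a, haA, fun w hw => ?_,
    fun t ht v hv => ?_, fun v hv => ?_⟩
  · obtain ⟨t', ht', e⟩ := h.off.tor_trans_W hx (hW v hv) (fun e => hv1 (congrArg Subtype.val e))
      (hW w hw) fun e => hw1 (congrArg Subtype.val e)
    rw [← heq] at ht'
    obtain ⟨t, ht, rfl⟩ := mem_img.1 ht'
    exact ⟨t, ht, congrArg Subtype.val e⟩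
  · have hs' := htor s hs (hTM hs)
    have ht' := htor t ht (hTM ht)
    have hc : r ⟨s, hTM hs⟩ * r ⟨t, hTM ht⟩ = r ⟨t, hTM ht⟩ * r ⟨s, hTM hs⟩ := by
      have h1 := hinv _ (mul_mem hs' ht')
      rw [mul_inv_rev, ← hinv _ hs', ← hinv _ ht'] at h1
      have h2 : r ⟨g, hg⟩ * (r ⟨s, hTM hs⟩ * r ⟨t, hTM ht⟩) * r ⟨g, hg⟩ =
          r ⟨g, hg⟩ * (r ⟨t, hTM ht⟩ * r ⟨s, hTM hs⟩) * r ⟨g, hg⟩ := by
        rw [h1]
        simp only [hr, mul_assoc]
        rw [← mul_assoc ((act M).rangeRestrict ⟨g, hg⟩) ((act M).rangeRestrict ⟨g, hg⟩) _, huu,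
          one_mul]
      exact mul_left_cancel (mul_right_cancel h2)
    have h3 := congrArg (fun γ : Img M => ((γ • (⟨v, hv⟩ : vsub M) : vsub M) : G)) hc
    simp only [mul_smul] at h3
    exact h3
  · exact congrArg Subtype.val (hau _ (hW w hw))
  · have ht' := htor t ht (hTM ht)
    have h1 : r ⟨g, hg⟩ * r ⟨t, hTM ht⟩ = r ⟨t⁻¹, hTM (inv_mem ht)⟩ * r ⟨g, hg⟩ := by
      have h2 : r ⟨t⁻¹, hTM (inv_mem ht)⟩ = (r ⟨t, hTM ht⟩)⁻¹ := by rw [← map_inv]; rfl
      rw [h2, ← hinv _ ht', mul_assoc, hr, huu, mul_one]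
    have h3 := congrArg (fun γ : Img M => ((γ • (⟨v, hv⟩ : vsub M) : vsub M) : G)) h1
    simp only [mul_smul] at h3
    have h4 : t⁻¹ * (g * v * g⁻¹) * t = t⁻¹ * (g * v * g⁻¹) * t⁻¹⁻¹ := by rw [inv_inv]
    rw [h4]
    exact h3
  · -- `V` is the product of `W` and its translate
    let F := Module.fixV (V := vsub M) (img M A)
    let m : F × F → vsub M := fun p => (p.1 : vsub M) * r ⟨g, hg⟩ • (p.2 : vsub M)
    have hm : Function.Bijective m := by
      rw [Nat.bijective_iff_injective_and_card]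
      refine ⟨?_, by rw [Nat.card_prod]; exact h.off.card_V⟩
      rintro ⟨⟨a, ha⟩, ⟨b, hb⟩⟩ ⟨⟨a', ha'⟩, ⟨b', hb'⟩⟩ e
      replace e : a * r ⟨g, hg⟩ • b = a' * r ⟨g, hg⟩ • b' := e
      have e1 : a / a' = r ⟨g, hg⟩ • (b' / b) := by
        rw [smul_div', div_eq_div_iff_mul_eq_mul, e, mul_comm]
      have hb1 : b' / b = 1 := by
        by_contra hne
        exact huN (h.off.mem_normalizer_of_meet (div_mem hb' hb) hne (e1 ▸ div_mem ha ha'))
      rw [hb1, smul_one, div_eq_one] at e1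
      rw [div_eq_one] at hb1
      subst e1; subst hb1
      rfl
    obtain ⟨⟨w, w'⟩, e⟩ := hm.2 ⟨v, hv⟩
    exact ⟨((w : vsub M) : G), ⟨(w : vsub M).2, (mem_fixV_img h.le).1 w.2⟩,
      ((w' : vsub M) : G), ⟨(w' : vsub M).2, (mem_fixV_img h.le).1 w'.2⟩,
      (congrArg Subtype.val e).symm⟩

end Sett

end Cfsg.Agent.CIT
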