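import Cfsg.Agent.Lib.CIT.Struct

/-!
# Two bad maximal 2-locals over one Sylow group force `q ≤ 4`

In `N(V)` the torus acts on `W = V ∩ A` with weight `1`, on `V / W` with weight `-1`, and in
`N(A)` on `A / W` with weight `-1`. As `[V, A] = W`, inversion-squared is additive on the torus.
-/

set_option autoImplicit false
set_option linter.style.haveILetI false
set_option linter.unusedSectionVars false

namespace Cfsg.Agent.CIT

open Subgroup
open scoped commutatorElement

variable {G : Type*} [Group G] [Finite G]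

/-- A commutative family of additive maps of an exponent-two group, regular on it, with additive
inverse square, has at most three elements. -/
theorem card_le_three {W : Type*} [CommGroup W] [Finite W] {T : Type*} [Group T] [Finite T]
    [MulDistribMulAction T W] (hexp : ∀ w : W, w * w = 1) (hodd : Odd (Nat.card T))
    (hfaith : ∀ t : T, ∀ w : W, w ≠ 1 → t • w = w → t = 1) {y : W} (hy : y ≠ 1)
    (htrans : ∀ w : W, w ≠ 1 → ∃ t : T, t • y = w)
    (hcomm : ∀ s t : T, s * t = t * s)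
    (hadd : ∀ r s t : T, r • y = s • y * t • y →
      ∀ x : W, (r * r)⁻¹ • x = (s * s)⁻¹ • x * (t * t)⁻¹ • x) :
    Nat.card T ≤ 3 := by
  classical
  have cancel : ∀ v w : W, v * w * w = v := fun v w => by rw [mul_assoc, hexp, mul_one]
  -- one relation
  have key : ∀ t : T, t ≠ 1 → y * t • y * (t * t) • y = 1 := by
    intro t ht
    have hne : y * t • y ≠ 1 := fun e => ht (hfaith t y hy (by
      calc t • y = y * (y * t • y) := by rw [← mul_assoc, hexp, one_mul]
        _ = y := by rw [e, mul_one]))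
    obtain ⟨r, hr⟩ := htrans _ hne
    have hrx : ∀ x : W, r • x = x * t • x := by
      intro x
      by_cases hx : x = 1
      · rw [hx, smul_one, smul_one, one_mul]
      obtain ⟨k, hk⟩ := htrans x hx
      rw [← hk, smul_smul, hcomm, mul_smul, hr, smul_mul', smul_smul, smul_smul, hcomm]
    have hinv := hadd r 1 t (by rw [one_smul]; exact hr)
    simp only [mul_one, inv_one, one_smul] at hinv
    have hr2 : ∀ x : W, (r * r) • x = x * (t * t) • x := by
      intro x
      calc (r * r) • x = r • (x * t • x) := by rw [mul_smul, hrx x]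
        _ = x * t • x * (t • x * t • t • x) := by rw [hrx, smul_mul']
        _ = x * t • t • x := by rw [← mul_assoc, cancel]
        _ = x * (t * t) • x := by rw [mul_smul]
    have hu : ∀ x : W, x * (t * t) • x * (t * t * (t * t)) • x = 1 := by
      intro x
      have h0 := hinv ((r * r) • x)
      rw [inv_smul_smul] at h0
      have h1 : (t * t) • x = (t * t) • ((r * r) • x * (t * t)⁻¹ • (r * r) • x) := by rw [← h0]
      rw [smul_mul', smul_inv_smul, hr2 x, smul_mul', smul_smul] at h1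
      generalize (t * t) • x = u, (t * t * (t * t)) • x = v at h1 ⊢
      have h2 : u = v * x :=
        h1.trans (by rw [show u * v * (x * u) = u * u * (v * x) by ac_rfl, hexp, one_mul])
      rw [h2, show x * (v * x) * v = x * x * (v * v) by ac_rfl, hexp, hexp, one_mul]
    have h6 : (t * t) * (t * t) * (t * t) = 1 := by
      refine hfaith _ y hy ?_
      have h1 := hu y
      have h2 := congrArg (fun w : W => (t * t) • w) h1
      simp only [smul_mul', smul_smul, smul_one] at h2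
      calc (t * t * (t * t) * (t * t)) • y
          = (t * t) • y * (t * t * (t * t)) • y := by
            rw [mul_assoc (t * t), ← mul_right_inj ((t * t) • y * (t * t * (t * t)) • y), hexp, h2]
        _ = y := by
          rw [← mul_right_inj y, hexp, ← mul_assoc, h1]
    have h3 : t * t * t = 1 := by
      have h4 : (t * t * t) ^ 2 = 1 := by
        rw [pow_two]
        calc t * t * t * (t * t * t) = t * t * (t * t) * (t * t) := by group
          _ = 1 := h6
      rw [← orderOf_eq_one_iff]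
      rcases (Nat.dvd_prime Nat.prime_two).1 (orderOf_dvd_of_pow_eq_one h4) with h5 | h5
      · exact h5
      · exfalso
        have := (h5 ▸ _root_.orderOf_dvd_natCard (t * t * t) : 2 ∣ Nat.card T)
        exact Nat.not_even_iff_odd.2 hodd (even_iff_two_dvd.2 this)
    have h1 := hu y
    rw [show t * t * (t * t) = t from by rw [← mul_assoc, h3, one_mul]] at h1
    rwa [mul_right_comm] at h1
  -- every element is `1`, `t` or `t²`
  rcases subsingleton_or_nontrivial T with hs | hs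
  · rw [Nat.card_unique]; norm_num
  obtain ⟨t, ht⟩ := exists_ne (1 : T)
  have hall : ∀ s : T, s = 1 ∨ s = t ∨ s = t * t := by
    intro s
    by_cases hs1 : s = 1
    · exact Or.inl hs1
    by_cases hst : s = t
    · exact Or.inr (Or.inl hst)
    refine Or.inr (Or.inr ?_)
    have hne : s • y * t • y ≠ 1 := fun e => hst (inv_mul_eq_one.1 (hfaith (t⁻¹ * s) y hy (by
      rw [mul_smul, show s • y = t • y by
        rw [mul_eq_one_iff_eq_inv] at e
        rw [e]; exact inv_eq_of_mul_eq_one_right (hexp _), inv_smul_smul]))).symm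
    obtain ⟨r, hr⟩ := htrans _ hne
    have hrs : ∀ z : T, r • z • y = (z * s) • y * (z * t) • y := fun z => by
      rw [smul_smul, hcomm, mul_smul, hr, smul_mul', smul_smul, smul_smul]
    have hr2 : r • r • y = r • y := by
      have hs2 : (s * s) • y = y * s • y := by
        rw [← mul_right_inj (y * s • y), hexp, key s hs1]
      have ht2 : (t * t) • y = y * t • y := by
        rw [← mul_right_inj (y * t • y), hexp, key t ht]
      conv_lhs => rw [hr, smul_mul', hrs, hrs]
      rw [hcomm t s, hs2, ht2, hr]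
      calc y * s • y * (s * t) • y * ((s * t) • y * (y * t • y))
          = y * s • y * ((s * t) • y * (s * t) • y) * (y * t • y) := by ac_rfl
        _ = y * y * (s • y * t • y) := by rw [hexp, mul_one]; ac_rfl
        _ = s • y * t • y := by rw [hexp, one_mul]
    have hr1 : r • y = y := smul_left_cancel r hr2
    rw [hr] at hr1
    refine (inv_mul_eq_one.1 (hfaith ((t * t)⁻¹ * s) y hy ?_)).symm
    rw [mul_smul, inv_smul_eq_iff]
    have hk := key t ht
    calc s • y = s • y * t • y * t • y := (cancel _ _).symm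
      _ = y * t • y := by rw [hr1]
      _ = (t * t) • y := by rw [← mul_right_inj ((t * t) • y), hexp, mul_comm]; exact hk
  have hc := Nat.card_le_card_of_surjective (fun i : Fin 3 => (![1, t, t * t] : Fin 3 → T) i)
    (fun s => by
      rcases hall s with h | h | h
      · exact ⟨0, h.symm⟩
      · exact ⟨1, h.symm⟩
      · exact ⟨2, h.symm⟩)
  rwa [Nat.card_fin] at hc

namespace Sett

variable {M A M₂ A₂ : Subgroup G} (h : Sett M A)
include h

/-- `q ∈ {2, 4}`. -/
theorem two_or_four (h₂ : Sett M₂ A₂) (hP : core M ⊔ A = core M₂ ⊔ A₂) (hne : M ≠ M₂)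
    (hcl : ∀ a ∈ core M ⊔ A, ∀ b ∈ core M ⊔ A, ∀ c ∈ core M ⊔ A, Commute ⁅a, b⁆ c) :
    Nat.card (wsub M A) = 2 ∨ Nat.card (wsub M A) = 4 := by
  classical
  have hpair := h.pair h₂ hP hne hcl
  have hD := h.core_eq_vsub hcl
  have hD₂ := h₂.core_eq_vsub (hP ▸ hcl)
  obtain ⟨-, hcA⟩ := h.card_sup_of_core hD
  -- `vsub M₂ = A` and `A₂ = vsub M`
  have hswap : ∀ {N B N' : Subgroup G}, Sett N B → core N = vsub N → Nat.card B = Nat.card (vsub N') →
      vsub N' ≤ core N ⊔ B → vsub N' ≠ vsub N → Nat.card (vsub N') = Nat.card (vsub N) →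
      vsub N' = B := by
    intro N B N' hN hDN hc hle hne' hcc
    by_cases hsub : vsub N' ≤ B
    · exact Subgroup.eq_of_le_of_card_ge hsub hc.le
    exfalso
    obtain ⟨x, hx, hxB⟩ := SetLike.not_le_iff_exists.1 hsub
    have hxV := (hN.sq_cases hDN (hle hx) (vsub_sq hx)).resolve_right hxB
    refine hne' (Subgroup.eq_of_le_of_card_ge (fun y hy => ?_) hcc.ge)
    rcases hN.sq_cases hDN (hle hy) (vsub_sq hy) with h1 | h1
    · exact h1
    rcases hN.sq_cases hDN (hle (mul_mem hx hy)) (vsub_sq (mul_mem hx hy)) with h2 | h2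
    · have := mul_mem (inv_mem hxV) h2
      rwa [inv_mul_cancel_left] at this
    · refine absurd ?_ hxB
      have := mul_mem h2 (inv_mem h1)
      rwa [mul_inv_cancel_right] at this
  have hA : vsub M₂ = A := hswap h hD (by rw [hcA, hpair.cardA]) hpair.leA hpair.ne.symm
    (hpair.cardA.trans hpair.cardV.symm)
  obtain ⟨hcP₂, hcA₂⟩ := h₂.card_sup_of_core hD₂
  have hq : Nat.card (wsub M₂ A₂) = Nat.card (wsub M A) :=
    Nat.pow_left_injective (by norm_num : 2 ≠ 0) (by
      show Nat.card (wsub M₂ A₂) ^ 2 = Nat.card (wsub M A) ^ 2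
      rw [← hpair.cardA, h₂.card_vsub, pow_two])
  have hA₂ : vsub M = A₂ := hswap h₂ hD₂ (by rw [hcA₂, hq, hpair.cardV]) (hP ▸ hpair.leV)
    hpair.ne (hpair.cardV.trans hpair.cardA.symm)
  have hW : wsub M₂ A₂ = wsub M A := by
    rw [h₂.wsub_eq, h.wsub_eq, ← hA₂, hA, inf_comm]
  -- the torus
  obtain ⟨T, hT, hodd, hcT⟩ := h.exists_torus
  have hT₂ : T ≤ M₂ ⊓ normalizer ((core M₂ ⊔ A₂ : Subgroup G) : Set G) := by
    intro t ht
    rw [← hP]
    refine ⟨?_, (hT ht).2⟩
    rw [← normalizer_vsub h₂.max, hA]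
    -- the conjugate of `A` is an elementary subgroup of `P` outside `V`
    refine mem_normalizer_of_map_conj (Subgroup.eq_of_le_of_card_ge ?_
      (Subgroup.card_map_of_injective (MulAut.conj t).injective).ge)
    rintro _ ⟨a, ha, rfl⟩
    show t * a * t⁻¹ ∈ A
    by_cases hav : a ∈ vsub M
    · have haW : a ∈ wsub M A := by rw [h.wsub_eq]; exact ⟨ha, hav⟩
      refine h.wsub_le.1 ⟨(mem_normalizer_iff.1 (le_normalizer_vsub M (hT ht).1) a).1 hav, ?_⟩
      refine mem_centralizer_iff.2 fun b hb => ?_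
      have hb' : t⁻¹ * b * t ∈ core M ⊔ A := by
        refine (mem_normalizer_iff.1 (hT ht).2 _).2 ?_
        rw [show t * (t⁻¹ * b * t) * t⁻¹ = b by group]
        exact mem_sup_right hb
      have h1 := ((h.commute_wsub hb' haW).map (MulAut.conj t).toMonoidHom).eq
      simp only [MulEquiv.coe_toMonoidHom, MulAut.conj_apply] at h1
      rwa [show t * (t⁻¹ * b * t) * t⁻¹ = b by group] at h1
    · refine (h.sq_cases hD ((mem_normalizer_iff.1 (hT ht).2 a).1 (mem_sup_right ha))
        (by rw [show t * a * t⁻¹ * (t * a * t⁻¹) = t * (a * a) * t⁻¹ by group, ← pow_two,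
          h.elem.2 a ha, mul_one, mul_inv_cancel])).resolve_left fun hv => hav ?_
      exact (mem_normalizer_iff.1 (le_normalizer_vsub M (hT ht).1) a).2 hv
  obtain ⟨htrans, hTc, g, hg, a₀, ha₀, hunit, htw, -⟩ := h.exists_swap hT hodd hcT
  obtain ⟨-, -, g₂, hg₂, -, -, -, htw₂, hdec⟩ :=
    h₂.exists_swap hT₂ hodd (by rw [hq]; exact hcT)
  rw [hW] at hdec
  rw [hA] at htw₂ hdec
  obtain ⟨w₀, hw₀, y, hyW, hay⟩ := hdec a₀ ha₀
  -- the form
  set W := wsub M A with hWdef
  have hWV : W ≤ vsub M := inf_le_left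
  have hWA : W ≤ A := h.wsub_le.1
  have hc : ∀ x ∈ W, g * x * g⁻¹ ∈ vsub M := fun x hx =>
    (mem_normalizer_iff.1 (le_normalizer_vsub M hg) x).1 (hWV hx)
  have hd : ∀ x ∈ W, g₂ * x * g₂⁻¹ ∈ A := fun x hx => by
    rw [← hA]
    exact (mem_normalizer_iff.1 (le_normalizer_vsub M₂ hg₂) x).1 (hA.symm ▸ hWA hx)
  set B : G → G → G := fun x z => (g₂ * z * g₂⁻¹) * (g * x * g⁻¹) * (g₂ * z * g₂⁻¹)⁻¹ * (g * x * g⁻¹)
    with hB
  have hVc : ∀ v ∈ vsub M, ∀ w ∈ vsub M, Commute v w := fun v hv w hw =>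
    vsub_commute hv (vsub_le_core M hw)
  have hBW : ∀ x ∈ W, ∀ z ∈ W, B x z ∈ W := fun x hx z hz =>
    ⟨mul_mem ((mem_normalizer_iff.1 (le_normalizer_vsub M (h.le (hd z hz))) _).1 (hc x hx)) (hc x hx),
      h.quad _ (hd z hz) _ (hc x hx)⟩
  have hBadd : ∀ x ∈ W, ∀ z ∈ W, ∀ z' ∈ W, B x (z * z') = B x z * B x z' := by
    intro x hx z hz z' hz'
    set c := g * x * g⁻¹ with hcdef
    set a := g₂ * z * g₂⁻¹ with hadef
    set a' := g₂ * z' * g₂⁻¹ with ha'def
    have hcc : c * c = 1 := vsub_sq (hc x hx)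
    have hw : B x z' ∈ W := hBW x hx z' hz'
    have hcom : Commute a (B x z') := mem_centralizer_iff.1 hw.2 a (hd z hz)
    have hV1 : Commute (B x z') (a * c * a⁻¹ * c) := hVc _ hw.1 _ (hBW x hx z hz).1
    show g₂ * (z * z') * g₂⁻¹ * c * (g₂ * (z * z') * g₂⁻¹)⁻¹ * c = B x z * B x z'
    rw [show g₂ * (z * z') * g₂⁻¹ = a * a' by rw [hadef, ha'def]; group]
    have e : a' * c * a'⁻¹ = B x z' * c := by
      show a' * c * a'⁻¹ = a' * c * a'⁻¹ * c * c
      rw [mul_assoc (a' * c * a'⁻¹), hcc, mul_one]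
    calc a * a' * c * (a * a')⁻¹ * c = a * (a' * c * a'⁻¹) * a⁻¹ * c := by group
      _ = a * B x z' * c * a⁻¹ * c := by rw [e]; group
      _ = B x z' * (a * c * a⁻¹ * c) := by rw [hcom.eq]; group
      _ = B x z * B x z' := hV1.eq
  have hTW : ∀ t ∈ T, ∀ x ∈ W, t * x * t⁻¹ ∈ W := fun t ht x hx => by
    rw [hWdef, h.wsub_eq] at hx ⊢
    refine ⟨?_, (mem_normalizer_iff.1 (le_normalizer_vsub M (hT ht).1) x).1 hx.2⟩
    rw [← hA]
    exact (mem_normalizer_iff.1 (le_normalizer_vsub M₂ (hT₂ ht).1) x).1 (hA.symm ▸ hx.1)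
  have htwist : ∀ t ∈ T, ∀ x ∈ W, ∀ z ∈ W, B (t * x * t⁻¹) (t * z * t⁻¹) = t⁻¹ * B x z * t := by
    intro t ht x hx z hz
    have h1 : g * (t * x * t⁻¹) * g⁻¹ = t⁻¹ * (g * x * g⁻¹) * t := htw t ht x (hWV hx)
    have h2 : g₂ * (t * z * t⁻¹) * g₂⁻¹ = t⁻¹ * (g₂ * z * g₂⁻¹) * t := htw₂ t ht z (hWA hz)
    simp only [hB]
    rw [h1, h2]
    group
  have hBy : ∀ x ∈ W, B x y = x := by
    intro x hx
    set c := g * x * g⁻¹ with hcdef
    have hcc : c * c = 1 := vsub_sq (hc x hx)
    have hcom : Commute w₀ (B x y * c) :=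
      hVc _ (hWV hw₀) _ (mul_mem (hBW x hx y hyW).1 (hc x hx))
    have h1 := hunit x hx
    rw [hay] at h1
    have e : g₂ * y * g₂⁻¹ * c * (g₂ * y * g₂⁻¹)⁻¹ = B x y * c := by
      show g₂ * y * g₂⁻¹ * c * (g₂ * y * g₂⁻¹)⁻¹ =
        g₂ * y * g₂⁻¹ * c * (g₂ * y * g₂⁻¹)⁻¹ * c * c
      rw [mul_assoc _ c c, hcc, mul_one]
    calc B x y = B x y * c * c := by rw [mul_assoc, hcc, mul_one]
      _ = w₀ * (B x y * c) * w₀⁻¹ * c := by rw [hcom.eq]; group
      _ = w₀ * (g₂ * y * g₂⁻¹ * c * (g₂ * y * g₂⁻¹)⁻¹) * w₀⁻¹ * c := by rw [e]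
      _ = x := by rw [← h1, hcdef]; group
  -- `W` as a module for `T`
  letI : CommGroup W :=
    { (inferInstance : Group W) with
      mul_comm := fun u v => Subtype.ext (hVc _ (hWV u.2) _ (hWV v.2)).eq }
  letI : MulDistribMulAction T W :=
    { smul := fun t w => ⟨(t : G) * w * (t : G)⁻¹, hTW t t.2 w w.2⟩
      one_smul := fun w => Subtype.ext (show (1 : G) * w * (1 : G)⁻¹ = w by group)
      mul_smul := fun s t w => Subtype.ext (show (s * t : G) * w * (s * t : G)⁻¹ =
        (s : G) * ((t : G) * w * (t : G)⁻¹) * (s : G)⁻¹ by group)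
      smul_mul := fun t u v => Subtype.ext (show (t : G) * (u * v : G) * (t : G)⁻¹ =
        (t : G) * u * (t : G)⁻¹ * ((t : G) * v * (t : G)⁻¹) by group)
      smul_one := fun t => Subtype.ext (show (t : G) * 1 * (t : G)⁻¹ = 1 by group) }
  have hact : ∀ (t : T) (w : W), ((t • w : W) : G) = (t : G) * w * (t : G)⁻¹ := fun _ _ => rfl
  have hfix : ∀ (t : T) (w : W), w ≠ 1 → t • w = w → t = 1 := by
    intro t w hw e
    haveI : Fact (Nat.Prime 2) := ⟨Nat.prime_two⟩
    have hw2 : orderOf (w : G) = 2 := orderOf_eq_prime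
      (by rw [pow_two]; exact vsub_sq (hWV w.2)) fun e1 => hw (Subtype.ext e1)
    refine Subtype.ext (eq_one_of_commute h.hG
      (hodd.of_dvd_nat (T.orderOf_dvd_natCard t.2)) hw2 ?_)
    exact mul_inv_eq_iff_eq_mul.1 ((hact t w).symm.trans (congrArg Subtype.val e))
  have hy1 : (⟨y, hyW⟩ : W) ≠ 1 := fun e => by
    have hy : y = 1 := congrArg Subtype.val e
    obtain ⟨x, hx, hx1⟩ : ∃ x ∈ W, x ≠ 1 := by
      haveI : Nontrivial W := Finite.one_lt_card_iff_nontrivial.1 h.two_le
      obtain ⟨u, hu⟩ := exists_ne (1 : W)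
      exact ⟨u, u.2, fun e1 => hu (Subtype.ext e1)⟩
    refine hx1 ?_
    rw [← hBy x hx, hy]
    simp only [hB, mul_one, mul_inv_cancel, one_mul, inv_one]
    exact vsub_sq (hc x hx)
  have hle := card_le_three (W := W) (T := T) (fun w => Subtype.ext (vsub_sq (hWV w.2))) hodd hfix
    hy1 (fun w hw => ?_) (fun s t => ?_) fun r s t e x => ?_
  · obtain ⟨n, hn⟩ := h.card_two_pow
    have h2le := h.two_le
    change Nat.card W = _ at hn
    change 2 ≤ Nat.card W at h2le
    rcases n with _ | _ | _ | n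
    · omega
    · exact Or.inl hn
    · exact Or.inr hn
    · have h8 : 2 ^ 3 ≤ 2 ^ (n + 1 + 1 + 1) := Nat.pow_le_pow_right (by norm_num) (by omega)
      omega
  · obtain ⟨t, ht, e⟩ := htrans y hyW w w.2 (fun e => hy1 (Subtype.ext e)) fun e => hw (Subtype.ext e)
    exact ⟨⟨t, ht⟩, Subtype.ext e⟩
  · have hst : (s * t) • (⟨y, hyW⟩ : W) = (t * s) • (⟨y, hyW⟩ : W) := Subtype.ext (by
      rw [mul_smul, mul_smul]; exact hTc s s.2 t t.2 y (hWV hyW))
    refine (inv_mul_eq_one.1 (hfix ((t * s)⁻¹ * (s * t)) _ hy1 ?_)).symm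
    rw [mul_smul, hst, inv_smul_smul]
  · -- additivity of the inverse square
    have hBt : ∀ (t : T), ∀ u : W, B u (t • (⟨y, hyW⟩ : W) : W) =
        ((t * t)⁻¹ • u : W) := by
      intro t u
      have hu : (t⁻¹ • u : W) = ⟨(t : G)⁻¹ * u * (t : G)⁻¹⁻¹, hTW _ (inv_mem t.2) u u.2⟩ := rfl
      have h1 := htwist t t.2 _ (t⁻¹ • u : W).2 y hyW
      rw [hBy _ (t⁻¹ • u : W).2] at h1
      rw [mul_inv_rev, mul_smul, hact t⁻¹, hact t]
      rw [hu] at h1 ⊢
      simp only [Subgroup.coe_inv, inv_inv] at h1 ⊢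
      rw [show (t : G) * ((t : G)⁻¹ * u * t) * (t : G)⁻¹ = u by group] at h1
      exact h1
    refine Subtype.ext ?_
    rw [Subgroup.coe_mul, ← hBt r x, ← hBt s x, ← hBt t x, e, Subgroup.coe_mul]
    exact hBadd x x.2 _ (s • (⟨y, hyW⟩ : W) : W).2 _ (t • (⟨y, hyW⟩ : W) : W).2

end Sett

end Cfsg.Agent.CIT
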